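import Cfsg.Agent.Lib.Leech.Order

/-!
Transitivity of `Co0` on pairs of minimal vectors with inner product 0, -8 or -16, and on the vectors
of squared length 48.
-/

set_option autoImplicit false

namespace CfsgLib.Leech

open Cfsg Finset CfsgLib.Fischer2
open scoped Pointwise

/-- The first base point. -/
def ptP : GolayPt := none

/-- The second base point. -/
def ptQ : GolayPt := some 0

/-- The third base point. -/
def ptR : GolayPt := some 1

theorem ptP_ne_ptQ : ptP ≠ ptQ := by decide
theorem ptP_ne_ptR : ptP ≠ ptR := by decide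
theorem ptQ_ne_ptR : ptQ ≠ ptR := by decide

/-- The canonical minimal vector with two fours. -/
def baseP : leechLattice := pairVec ptP ptQ

/-- Four times `±1` at two points. -/
def fourPair (i j : GolayPt) (a b : Bool) : leechLattice :=
  ⟨fun p => 4 * ((if p = i then (if a then -1 else 1) else 0) +
    (if p = j then (if b then -1 else 1) else 0)), CfsgLib.Fischer2.four_mul_mem (by
    rw [Finset.sum_add_distrib, Finset.sum_ite_eq', Finset.sum_ite_eq']
    simp only [Finset.mem_univ, if_true]
    cases a <;> cases b <;> norm_num)⟩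

theorem coordVec_fourPair (i j : GolayPt) (a b : Bool) (p : GolayPt) :
    coordVec (fourPair i j a b) p = 4 * ((if p = i then (if a then -1 else 1) else 0) +
      (if p = j then (if b then -1 else 1) else 0)) := rfl

/-- The canonical minimal vector orthogonal to `baseP`. -/
def baseM : leechLattice := fourPair ptP ptQ false true

theorem dot_fourPair (w : leechLattice) {i j : GolayPt} (a b : Bool) :
    dotInt (coordVec w) (coordVec (fourPair i j a b)) =
      4 * ((if a then -coordVec w i else coordVec w i) + (if b then -coordVec w j else coordVec w j)) := by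
  simp only [dotInt, coordVec_fourPair, mul_add, Finset.sum_add_distrib, mul_ite, mul_zero,
    Finset.sum_ite_eq', Finset.mem_univ, if_true]
  cases a <;> cases b <;> simp <;> ring

theorem sqNorm_fourPair {i j : GolayPt} (hij : i ≠ j) (a b : Bool) :
    sqNorm (coordVec (fourPair i j a b)) = 32 := by
  rw [← dotInt_self, dot_fourPair, coordVec_fourPair, coordVec_fourPair, if_pos rfl,
    if_neg hij, if_neg hij.symm, if_pos rfl]
  cases a <;> cases b <;> norm_num

theorem baseP_eq : baseP = fourPair ptP ptQ false false := rfl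

theorem sqNorm_baseP : sqNorm (coordVec baseP) = 32 := by
  rw [baseP_eq]; exact sqNorm_fourPair ptP_ne_ptQ _ _

theorem dot_baseP (w : leechLattice) :
    dotInt (coordVec w) (coordVec baseP) = 4 * (coordVec w ptP + coordVec w ptQ) := by
  rw [baseP_eq, dot_fourPair]; simp

theorem dotInt_add_right {α : Type*} [Fintype α] (x y z : α → ℤ) :
    dotInt x (y + z) = dotInt x y + dotInt x z := by
  rw [dotInt_comm', dotInt_add_left, dotInt_comm' y, dotInt_comm' z]

theorem dotInt_neg_right {α : Type*} [Fintype α] (x y : α → ℤ) :
    dotInt x (-y) = -dotInt x y := by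
  simp only [dotInt, Pi.neg_apply, mul_neg, Finset.sum_neg_distrib]

theorem sqNorm_sub {α : Type*} [Fintype α] (x y : α → ℤ) :
    sqNorm (x - y) = sqNorm x - 2 * dotInt x y + sqNorm y := by
  simp only [sqNorm, dotInt, Finset.mul_sum, ← Finset.sum_add_distrib, ← Finset.sum_sub_distrib,
    Pi.sub_apply]
  exact Finset.sum_congr rfl fun i _ => by ring

/-- An orthogonal pair of minimal vectors goes to the canonical one. -/
theorem exists_orth_normal {v e : leechLattice} (hv : sqNorm (coordVec v) = 32)
    (he : sqNorm (coordVec e) = 32) (hd : dotInt (coordVec v) (coordVec e) = 0) :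
    ∃ g : Co0, g • v = baseP ∧ g • e = baseM := by
  have hX : sqNorm (coordVec (v + e)) = 64 := by
    simp only [coordVec, AddSubgroup.coe_add] at *
    rw [sqNorm_add, hv, he, hd]; norm_num
  have hY : sqNorm (coordVec (v - e)) = 64 := by
    simp only [coordVec, AddSubgroup.coe_sub] at *
    rw [sqNorm_sub, hv, he, hd]; norm_num
  have hc : CongTwo (v + e) (v - e) := ⟨e, by abel⟩
  have hXY : dotInt (coordVec (v + e)) (coordVec (v - e)) = 0 := by
    simp only [coordVec, AddSubgroup.coe_add, AddSubgroup.coe_sub] at *
    have e1 : dotInt ((v : GolayPt → ℤ) + (e : GolayPt → ℤ)) ((v : GolayPt → ℤ) - (e : GolayPt → ℤ)) =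
        sqNorm (v : GolayPt → ℤ) - sqNorm (e : GolayPt → ℤ) := by
      simp only [dotInt, sqNorm, ← Finset.sum_sub_distrib, Pi.add_apply, Pi.sub_apply]
      exact Finset.sum_congr rfl fun i _ => by ring
    rw [e1, hv, he]; norm_num
  obtain ⟨g, hgX, hgY⟩ := exists_frame_map hX hY hc hXY ptP_ne_ptQ
  rw [smul_add_co0] at hgX
  rw [sub_eq_add_neg, smul_add_co0, smul_neg_co0] at hgY
  have hcoord : ∀ i, coordVec (g • v) i + coordVec (g • e) i = coordVec (axisVec ptP) i ∧
      coordVec (g • v) i - coordVec (g • e) i = coordVec (axisVec ptQ) i := fun i => by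
    have a := congrArg (fun x : leechLattice => coordVec x i) hgX
    have b := congrArg (fun x : leechLattice => coordVec x i) hgY
    simp only [coordVec, AddSubgroup.coe_add, AddSubgroup.coe_neg, Pi.add_apply, Pi.neg_apply] at a b ⊢
    exact ⟨a, by omega⟩
  refine ⟨g, Subtype.ext (funext fun i => ?_), Subtype.ext (funext fun i => ?_)⟩
  · show coordVec (g • v) i = coordVec baseP i
    obtain ⟨a, b⟩ := hcoord i
    rw [baseP_eq, coordVec_fourPair]
    rw [coordVec_axisVec] at a b
    simp only [Bool.false_eq_true, if_false]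
    split_ifs at a b ⊢ <;> omega
  · show coordVec (g • e) i = coordVec baseM i
    obtain ⟨a, b⟩ := hcoord i
    rw [baseM, coordVec_fourPair]
    rw [coordVec_axisVec] at a b
    simp only [Bool.false_eq_true, if_false, if_true]
    split_ifs at a b ⊢ with h1 h2 <;> first | omega | exact absurd (h1.symm.trans h2) ptP_ne_ptQ

theorem odd_shape32 (w : leechLattice) (hn : sqNorm (coordVec w) = 32)
    (ho : ∀ p, coordVec w p % 2 = 1) :
    ∃ k, |coordVec w k| = 3 ∧ ∀ p, p ≠ k → |coordVec w p| = 1 := by
  have hterm : ∀ p, coordVec w p ^ 2 - 1 = 0 ∨ coordVec w p ^ 2 - 1 = 8 ∨ 24 ≤ coordVec w p ^ 2 - 1 := by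
    intro p
    have := ho p
    rcases (show |coordVec w p| = 1 ∨ |coordVec w p| = 3 ∨ 5 ≤ |coordVec w p| by
      rcases abs_cases (coordVec w p) with h | h <;> omega) with h | h | h
    · left; rw [← sq_abs, h]; norm_num
    · right; left; rw [← sq_abs, h]; norm_num
    · right; right; nlinarith [sq_abs (coordVec w p)]
  have hsum : ∑ p, (coordVec w p ^ 2 - 1) = 8 := by
    rw [Finset.sum_sub_distrib]
    change sqNorm (coordVec w) - _ = 8
    rw [hn]; simp [GolayPt]
  obtain ⟨k, hk⟩ : ∃ k, coordVec w k ^ 2 - 1 ≠ 0 := by
    by_contra h; simp only [not_exists, not_not] at h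
    rw [Finset.sum_eq_zero fun p _ => h p] at hsum; norm_num at hsum
  rw [← Finset.add_sum_erase _ _ (Finset.mem_univ k)] at hsum
  have hrest : ∀ p ∈ Finset.univ.erase k, 0 ≤ coordVec w p ^ 2 - 1 := fun p _ => by
    rcases hterm p with h | h | h <;> omega
  have hnn := Finset.sum_nonneg hrest
  have hk8 : coordVec w k ^ 2 - 1 = 8 := by rcases hterm k with h | h | h <;> omega
  have hz := (Finset.sum_eq_zero_iff_of_nonneg hrest).1 (by omega)
  have habs : ∀ (a b : ℤ), 0 ≤ b → a ^ 2 = b ^ 2 → |a| = b := fun a b hb h => by
    rw [← abs_of_nonneg hb]; exact (sq_eq_sq_iff_abs_eq_abs _ _).1 h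
  refine ⟨k, habs _ _ (by norm_num) (by rw [show ((3 : ℤ) ^ 2) = 9 by norm_num]; omega),
    fun p hp => habs _ _ (by norm_num) ?_⟩
  have := hz p (Finset.mem_erase.2 ⟨hp, Finset.mem_univ p⟩)
  rw [show ((1 : ℤ) ^ 2) = 1 by norm_num]; omega

/-- Twice a `±1` pattern on an octad with sum divisible by four. -/
theorem exists_octad_vec {O : Finset GolayPt} (hO : O ∈ octads) (f : GolayPt → ℤ)
    (hf : ∀ i ∈ O, |f i| = 1) (hsum : (4 : ℤ) ∣ ∑ i ∈ O, f i) :
    ∃ e : leechLattice, (∀ i, coordVec e i = if i ∈ O then 2 * f i else 0) ∧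
      sqNorm (coordVec e) = 32 := by
  classical
  have hc := mem_supports_iff.1 hO.1
  let x : GolayPt → ℤ := fun i => if i ∈ O then 2 * f i else 0
  have hres : HasResidues 0 (fun i => if i ∈ O then (1 : ZMod 2) else 0) x := fun i => by
    by_cases hi : i ∈ O
    · have := hf i hi
      simp only [x, bitVec, hi, if_true, one_ne_zero, if_false]
      rcases abs_cases (f i) with h | h <;> omega
    · simp [x, bitVec, hi]
  have hs : ∑ i, x i ≡ 4 * 0 [ZMOD 8] := by
    obtain ⟨k, hk⟩ := hsum
    simp only [x, Finset.sum_ite_mem, Finset.univ_inter, ← Finset.mul_sum, hk]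
    show _ % 8 = _ % 8
    omega
  refine ⟨⟨x, mem_leechLattice_iff_residues.2 ⟨0, Or.inl rfl, _, hc, hres, hs⟩⟩, fun i => rfl, ?_⟩
  show ∑ i, x i ^ 2 = 32
  rw [Finset.sum_congr rfl (g := fun i => if i ∈ O then (4 : ℤ) else 0) fun i _ => by
    by_cases hi : i ∈ O
    · simp only [x, hi, if_true]; rw [mul_pow, ← sq_abs (f i), hf i hi]; norm_num
    · simp [x, hi]]
  rw [Finset.sum_ite_mem, Finset.univ_inter, Finset.sum_const, CfsgLib.Golay.card_eq_of_mem_octads hO]
  norm_num

theorem exists_octad_avoiding {p q : GolayPt} :
    ∃ O ∈ octads, p ∉ O ∧ q ∉ O := by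
  classical
  obtain ⟨s, hs, hsc⟩ := Finset.exists_subset_card_eq
    (show 5 ≤ ((Finset.univ : Finset GolayPt) \ {p, q}).card by
      have := Finset.le_card_sdiff {p, q} (Finset.univ : Finset GolayPt)
      have : ({p, q} : Finset GolayPt).card ≤ 2 := Finset.card_le_two
      simp only [Finset.card_univ, GolayPt, Fintype.card_option, ZMod.card] at *
      omega)
  obtain ⟨O, ⟨hO, -⟩, -⟩ := CfsgLib.Golay.exists_octad_above hsc
  by_cases h : p ∉ O ∧ q ∉ O
  · exact ⟨O, hO, h⟩
  · obtain ⟨a, ha⟩ : ∃ a, a ∉ O := by
      by_contra hh; simp only [not_exists, not_not] at hh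
      have h8 := CfsgLib.Golay.card_eq_of_mem_octads hO
      rw [Finset.eq_univ_iff_forall.2 hh] at h8; simp [GolayPt] at h8
    obtain ⟨b, hb, hba⟩ : ∃ b, b ∉ O ∧ b ≠ a := by
      by_contra hh
      simp only [not_exists, not_and, not_not] at hh
      have hsub : (Finset.univ : Finset GolayPt) ⊆ insert a O := fun b _ => by
        by_cases hb : b ∈ O
        · exact Finset.mem_insert_of_mem hb
        · rw [hh b hb]; exact Finset.mem_insert_self _ _
      have := Finset.card_le_card hsub
      rw [Finset.card_insert_of_notMem ha, CfsgLib.Golay.card_eq_of_mem_octads hO] at this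
      simp [GolayPt] at this
    by_cases hpq : p = q
    · subst hpq
      obtain ⟨g, hg, hga, -⟩ := exists_M24_pair (c := p) (d := if p = none then some 0 else none) hba.symm
        (by split_ifs with h <;> simp [h])
      refine ⟨(g : Equiv.Perm GolayPt) • O, CfsgLib.Golay.smul_mem_octads hg hO, ?_, ?_⟩ <;>
        rw [← hga, ← Equiv.Perm.smul_def, Finset.smul_mem_smul_finset_iff] <;> exact ha
    · obtain ⟨g, hg, hga, hgb⟩ := exists_M24_pair hba.symm hpq
      refine ⟨(g : Equiv.Perm GolayPt) • O, CfsgLib.Golay.smul_mem_octads hg hO, ?_, ?_⟩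
      · rw [← hga, ← Equiv.Perm.smul_def, Finset.smul_mem_smul_finset_iff]; exact ha
      · rw [← hgb, ← Equiv.Perm.smul_def, Finset.smul_mem_smul_finset_iff]; exact hb

/-- For the base vector and `w` there is an orthogonal minimal vector with inner product `-16` with `w`. -/
theorem exists_witness_base (w : leechLattice) (hw : sqNorm (coordVec w) = 32)
    (hd : dotInt (coordVec w) (coordVec baseP) = -16 ∨ dotInt (coordVec w) (coordVec baseP) = -8) :
    ∃ e : leechLattice, sqNorm (coordVec e) = 32 ∧ dotInt (coordVec baseP) (coordVec e) = 0 ∧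
      dotInt (coordVec w) (coordVec e) = -16 := by
  classical
  rw [dot_baseP] at hd
  have hdotP : ∀ e : leechLattice, coordVec e ptP + coordVec e ptQ = 0 →
      dotInt (coordVec baseP) (coordVec e) = 0 := fun e he => by
    rw [dotInt_comm', dot_baseP, he, mul_zero]
  have e0 : (coordVec w ptP - coordVec w ptQ = 4 ∨ coordVec w ptP - coordVec w ptQ = -4) →
      ∃ e : leechLattice, sqNorm (coordVec e) = 32 ∧ dotInt (coordVec baseP) (coordVec e) = 0 ∧
        dotInt (coordVec w) (coordVec e) = -16 := by
    have hself : ∀ b : Bool, coordVec (fourPair ptP ptQ b (!b)) ptP +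
        coordVec (fourPair ptP ptQ b (!b)) ptQ = 0 := fun b => by
      cases b <;> decide +kernel
    rintro (h | h)
    · refine ⟨_, sqNorm_fourPair ptP_ne_ptQ true (!true), hdotP _ (hself true), ?_⟩
      rw [dot_fourPair]; simp only [Bool.not_true, Bool.false_eq_true, if_false, if_true]; omega
    · refine ⟨_, sqNorm_fourPair ptP_ne_ptQ false (!false), hdotP _ (hself false), ?_⟩
      rw [dot_fourPair]; simp only [Bool.not_false, Bool.false_eq_true, if_false, if_true]; omega
  rcases even_or_odd_coords w with he | ho
  · rcases shape32 w hw he with ⟨O, hO, h2, h0⟩ | ⟨k, l, hkl, hk, hl, h0⟩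
    · have hcard := CfsgLib.Golay.card_eq_of_mem_octads hO
      obtain ⟨r, hr, s, hs, hrs⟩ := Finset.one_lt_card.1 (show 1 < ((O.erase ptP).erase ptQ).card by
        have h1 := Finset.pred_card_le_card_erase (s := O) (a := ptP)
        have h2 := Finset.pred_card_le_card_erase (s := O.erase ptP) (a := ptQ)
        omega)
      simp only [Finset.mem_erase] at hr hs
      refine ⟨fourPair r s (decide (0 < coordVec w r)) (decide (0 < coordVec w s)),
        sqNorm_fourPair hrs _ _, hdotP _ ?_, ?_⟩
      · rw [coordVec_fourPair, coordVec_fourPair, if_neg hr.2.1.symm, if_neg hs.2.1.symm,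
          if_neg hr.1.symm, if_neg hs.1.symm]
        norm_num
      · rw [dot_fourPair]
        have a := h2 r hr.2.2
        have b := h2 s hs.2.2
        rcases abs_cases (coordVec w r) with h | h <;> rcases abs_cases (coordVec w s) with h' | h' <;>
          simp only [decide_eq_true_eq] <;> split_ifs <;> omega
    · apply e0
      have hv : ∀ i, coordVec w i = 0 ∨ |coordVec w i| = 4 := fun i => by
        by_cases h1 : i = k
        · subst h1; exact Or.inr hk
        · by_cases h2 : i = l
          · subst h2; exact Or.inr hl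
          · exact Or.inl (h0 i h1 h2)
      rcases hv ptP with h | h <;> rcases hv ptQ with h' | h' <;>
        rcases abs_cases (coordVec w ptP) with a | a <;> rcases abs_cases (coordVec w ptQ) with b | b <;>
        omega
  · obtain ⟨k, hk, h1⟩ := odd_shape32 w hw ho
    rcases hd with hd | hd
    · have hk' : k = ptP ∨ k = ptQ := by
        by_contra hne
        simp only [not_or] at hne
        have a := h1 ptP (Ne.symm hne.1); have b := h1 ptQ (Ne.symm hne.2)
        rcases abs_cases (coordVec w ptP) with a' | a' <;>
          rcases abs_cases (coordVec w ptQ) with b' | b' <;> omega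
      obtain ⟨O, hO, hpO, hqO⟩ := exists_octad_avoiding (p := ptP) (q := ptQ)
      have hone : ∀ i ∈ O, |coordVec w i| = 1 := fun i hi => h1 i fun e => by
        rcases hk' with h | h <;> [exact hpO (h ▸ e ▸ hi); exact hqO (h ▸ e ▸ hi)]
      obtain ⟨e, he, hen⟩ := exists_octad_vec hO (fun i => -coordVec w i)
        (fun i hi => by rw [abs_neg]; exact hone i hi)
        (by rw [Finset.sum_neg_distrib, dvd_neg]; exact four_dvd_sum_octad w hO)
      refine ⟨e, hen, hdotP e (by rw [he, he, if_neg hpO, if_neg hqO, add_zero]), ?_⟩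
      simp only [dotInt, he, mul_ite, mul_zero, Finset.sum_ite_mem, Finset.univ_inter]
      rw [Finset.sum_congr rfl (g := fun _ => (-2 : ℤ)) fun i hi => by
        have := hone i hi
        rcases abs_cases (coordVec w i) with h | h <;>
          · rw [show coordVec w i * (2 * -coordVec w i) = -2 * (coordVec w i) ^ 2 by ring, ← sq_abs, this]
            norm_num,
        Finset.sum_const, CfsgLib.Golay.card_eq_of_mem_octads hO]
      norm_num
    · by_cases hk' : k = ptP ∨ k = ptQ
      · apply e0
        rcases hk' with rfl | rfl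
        · have b := h1 ptQ ptP_ne_ptQ.symm
          rcases abs_cases (coordVec w ptP) with a' | a' <;>
            rcases abs_cases (coordVec w ptQ) with b' | b' <;> omega
        · have a := h1 ptP ptP_ne_ptQ
          rcases abs_cases (coordVec w ptP) with a' | a' <;>
            rcases abs_cases (coordVec w ptQ) with b' | b' <;> omega
      · simp only [not_or] at hk'
        have hwp : coordVec w ptP = -1 ∧ coordVec w ptQ = -1 := by
          have a := h1 ptP (Ne.symm hk'.1); have b := h1 ptQ (Ne.symm hk'.2)
          rcases abs_cases (coordVec w ptP) with a' | a' <;>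
            rcases abs_cases (coordVec w ptQ) with b' | b' <;> omega
        obtain ⟨O, hO, hsub⟩ := exists_octad_superset (s := {ptP, ptQ, k})
          (Finset.card_le_three.trans (by norm_num))
        have hpO : ptP ∈ O := hsub (by simp)
        have hqO : ptQ ∈ O := hsub (by simp)
        have hkO : k ∈ O := hsub (by simp)
        let f : GolayPt → ℤ := fun i =>
          if i = ptQ then -1 else if i = k then (if 0 < coordVec w k then -1 else 1) else -coordVec w i
        have hf : ∀ i ∈ O, |f i| = 1 := fun i _ => by
          simp only [f]; split_ifs with a b c <;> try norm_num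
          exact h1 i b
        have hfsum : (4 : ℤ) ∣ ∑ i ∈ O, f i := by
          have hdiff : ∀ i ∈ O, f i = -coordVec w i + (if i = ptQ then -2 else 0) +
              (if i = k then (if 0 < coordVec w k then 2 else -2) else 0) := by
            intro i _
            simp only [f]
            by_cases a : i = ptQ
            · subst a
              rw [if_pos rfl, if_pos rfl, if_neg (Ne.symm hk'.2), hwp.2]; norm_num
            · by_cases b : i = k
              · subst b
                simp only [a, if_false, if_true]
                rcases abs_cases (coordVec w i) with h | h <;> split_ifs <;> omega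
              · simp [a, b]
          rw [Finset.sum_congr rfl hdiff, Finset.sum_add_distrib, Finset.sum_add_distrib,
            Finset.sum_neg_distrib, Finset.sum_ite_eq', Finset.sum_ite_eq', if_pos hqO, if_pos hkO]
          have := four_dvd_sum_octad w hO
          split_ifs <;> omega
        obtain ⟨e, he, hen⟩ := exists_octad_vec hO f hf hfsum
        have hfp : f ptP = 1 := by
          simp only [f, if_neg ptP_ne_ptQ, if_neg (Ne.symm hk'.1), hwp.1]; norm_num
        refine ⟨e, hen, hdotP e ?_, ?_⟩
        · rw [he, he, if_pos hpO, if_pos hqO, hfp]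
          simp [f]
        · simp only [dotInt, he, mul_ite, mul_zero, Finset.sum_ite_mem, Finset.univ_inter]
          have hval : ∀ i ∈ O, coordVec w i * (2 * f i) =
              -2 + (if i = ptQ then 4 else 0) + (if i = k then -4 else 0) := by
            intro i _
            simp only [f]
            by_cases a : i = ptQ
            · subst a
              rw [if_pos rfl, if_pos rfl, if_neg (Ne.symm hk'.2), hwp.2]; norm_num
            · by_cases b : i = k
              · subst b
                simp only [a, if_false, if_true]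
                rcases abs_cases (coordVec w i) with h | h <;> split_ifs <;> omega
              · simp only [a, b, if_false]
                rw [show coordVec w i * (2 * -coordVec w i) = -2 * (coordVec w i) ^ 2 by ring,
                  ← sq_abs, h1 i b]
                norm_num
          rw [Finset.sum_congr rfl hval, Finset.sum_add_distrib, Finset.sum_add_distrib,
            Finset.sum_ite_eq', Finset.sum_ite_eq', if_pos hqO, if_pos hkO, Finset.sum_const,
            CfsgLib.Golay.card_eq_of_mem_octads hO]
          norm_num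

theorem exists_M24_triple {a b c a' b' c' : GolayPt} (hab : a ≠ b) (hac : a ≠ c) (hbc : b ≠ c)
    (hab' : a' ≠ b') (hac' : a' ≠ c') (hbc' : b' ≠ c') :
    ∃ g ∈ M24, g a = a' ∧ g b = b' ∧ g c = c' := by
  have h5 : MulAction.IsMultiplyPretransitive M24 GolayPt 5 := CfsgLib.Golay.M24_five_transitive
  have h3 : MulAction.IsMultiplyPretransitive M24 GolayPt 3 :=
    MulAction.isMultiplyPretransitive_of_le (n := 5) (by norm_num) (by simp [GolayPt])
  have mk : ∀ a b c : GolayPt, a ≠ b → a ≠ c → b ≠ c → Function.Injective ![a, b, c] := by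
    intro a b c h1 h2 h3 i j h
    fin_cases i <;> fin_cases j <;> simp_all
  obtain ⟨g, hg⟩ := MulAction.exists_smul_eq M24
    (⟨![a, b, c], mk a b c hab hac hbc⟩ : Fin 3 ↪ GolayPt)
    (⟨![a', b', c'], mk a' b' c' hab' hac' hbc'⟩ : Fin 3 ↪ GolayPt)
  exact ⟨g, g.2, DFunLike.congr_fun hg 0, DFunLike.congr_fun hg 1, DFunLike.congr_fun hg 2⟩

/-- The canonical third vector for inner product `-16`. -/
def baseA : leechLattice := fourPair ptP ptR true false

/-- The canonical third vector for inner product `-8`. -/
def baseB : leechLattice := oddVec ptP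

/-- Normal form of a pair with inner product `-16` or `-8`. -/
theorem exists_pair_normal {v w : leechLattice} (hv : sqNorm (coordVec v) = 32)
    (hw : sqNorm (coordVec w) = 32) :
    (dotInt (coordVec v) (coordVec w) = -16 → ∃ g : Co0, g • v = baseP ∧ g • w = baseA) ∧
    (dotInt (coordVec v) (coordVec w) = -8 → ∃ g : Co0, g • v = baseP ∧ g • w = baseB) := by
  classical
  obtain ⟨g0, hg0⟩ := sameOrbit_norm32 hv ptP_ne_ptQ
  have hd0 : dotInt (coordVec (g0 • w)) (coordVec baseP) = dotInt (coordVec v) (coordVec w) := by
    rw [dotInt_comm', show baseP = g0 • v from hg0.symm]; exact dotInt_smul g0 v w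
  have step : (dotInt (coordVec v) (coordVec w) = -16 ∨ dotInt (coordVec v) (coordVec w) = -8) →
      ∃ g : Co0, g • v = baseP ∧ coordVec (g • w) ptP - coordVec (g • w) ptQ = -4 ∧
        4 * (coordVec (g • w) ptP + coordVec (g • w) ptQ) = dotInt (coordVec v) (coordVec w) := by
    intro hd
    obtain ⟨e, he, hpe, hwe⟩ := exists_witness_base (g0 • w) (by rw [sqNorm_smul', hw]) (by rwa [hd0])
    obtain ⟨g1, hP, hM⟩ := exists_orth_normal sqNorm_baseP he hpe
    refine ⟨g1 * g0, by rw [mul_smul, show g0 • v = baseP from hg0, hP], ?_, ?_⟩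
    · have h2 := dotInt_smul g1 (g0 • w) e
      rw [hM] at h2
      have h3 : dotInt (coordVec (g1 • g0 • w)) (coordVec baseM) = -16 := h2.trans hwe
      rw [baseM, dot_fourPair] at h3
      simp only [Bool.false_eq_true, if_false, if_true] at h3
      rw [mul_smul]; omega
    · rw [← dot_baseP, ← hd0, mul_smul]
      have h2 := dotInt_smul g1 (g0 • w) baseP
      rw [hP] at h2
      exact h2
  refine ⟨fun hd => ?_, fun hd => ?_⟩
  · obtain ⟨g, hgv, h1, h2⟩ := step (Or.inl hd)
    rw [hd] at h2
    set x := g • w with hx
    have hxn : sqNorm (coordVec x) = 32 := by rw [hx, sqNorm_smul', hw]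
    have he : ∀ p, coordVec x p % 2 = 0 := (even_or_odd_coords x).resolve_right fun h => by
      have := h ptQ; omega
    rcases shape32 x hxn he with ⟨O, hO, h8, h0⟩ | ⟨k, l, hkl, hk, hl, h0⟩
    · exfalso
      by_cases hp : ptP ∈ O
      · have := h8 ptP hp; rcases abs_cases (coordVec x ptP) with a | a <;> omega
      · have := h0 ptP hp; omega
    · obtain ⟨r, hrp, hrq, hr, hr0⟩ : ∃ r, r ≠ ptP ∧ r ≠ ptQ ∧ |coordVec x r| = 4 ∧
          ∀ i, i ≠ ptP → i ≠ r → coordVec x i = 0 := by
        have hpk : ptP = k ∨ ptP = l := by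
          by_contra hne; simp only [not_or] at hne
          have := h0 ptP hne.1 hne.2; omega
        rcases hpk with rfl | rfl
        · refine ⟨l, Ne.symm hkl, fun e => ?_, hl, h0⟩
          subst e; rcases abs_cases (coordVec x ptQ) with a | a <;> omega
        · refine ⟨k, hkl, fun e => ?_, hk, fun i a b => h0 i b a⟩
          subst e; rcases abs_cases (coordVec x ptQ) with a | a <;> omega
      obtain ⟨σ, hσ, hσp, hσq, hσr⟩ := exists_M24_triple ptP_ne_ptQ (Ne.symm hrp) (Ne.symm hrq)
        ptP_ne_ptQ ptP_ne_ptR ptQ_ne_ptR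
      obtain ⟨d, hdC, hdv⟩ := exists_code_on (T := {ptP, ptQ, r})
        (Finset.card_le_three.trans (by norm_num))
        (fun i => if i = r ∧ coordVec x r = -4 then 1 else 0)
      have hdp : d ptP = 0 := by
        rw [hdv _ (by simp), if_neg]; exact fun h => hrp h.1.symm
      have hdq : d ptQ = 0 := by
        rw [hdv _ (by simp), if_neg]; exact fun h => hrq h.1.symm
      have hdr := hdv r (by simp)
      have hsp : σ.symm ptP = ptP := by rw [Equiv.symm_apply_eq, hσp]
      have hsq : σ.symm ptQ = ptQ := by rw [Equiv.symm_apply_eq, hσq]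
      have hsr : σ.symm ptR = r := by rw [Equiv.symm_apply_eq, hσr]
      refine ⟨permAut ⟨σ, hσ⟩ * signAut ⟨d, hdC⟩ * g, ?_, ?_⟩
      · rw [mul_smul, mul_smul, hgv]
        refine Subtype.ext (funext fun i => ?_)
        show coordVec _ i = coordVec _ i
        rw [coordVec_permAut, coordVec_signAut, baseP_eq, coordVec_fourPair, coordVec_fourPair]
        show (if d (σ.symm i) = 0 then _ else _) = _
        simp only [Bool.false_eq_true, if_false]
        by_cases hp : i = ptP
        · subst hp; simp [hsp, hdp, ptP_ne_ptQ]
        · by_cases hq : i = ptQ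
          · subst hq; simp [hsq, hdq, ptP_ne_ptQ.symm]
          · have h1' : σ.symm i ≠ ptP := fun e => hp (by rw [← hσp, ← e, Equiv.apply_symm_apply])
            have h2' : σ.symm i ≠ ptQ := fun e => hq (by rw [← hσq, ← e, Equiv.apply_symm_apply])
            simp [hp, hq, h1', h2']
      · refine Subtype.ext (funext fun i => ?_)
        show coordVec _ i = coordVec _ i
        rw [mul_smul, mul_smul, ← hx, coordVec_permAut, coordVec_signAut, baseA, coordVec_fourPair]
        show (if d (σ.symm i) = 0 then _ else _) = _
        by_cases hp : i = ptP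
        · subst hp
          show (if d (σ.symm ptP) = 0 then coordVec x (σ.symm ptP) else -coordVec x (σ.symm ptP)) = _
          rw [hsp, if_pos hdp, if_neg ptP_ne_ptR]; simp; omega
        · by_cases hr' : i = ptR
          · subst hr'
            show (if d (σ.symm ptR) = 0 then coordVec x (σ.symm ptR) else -coordVec x (σ.symm ptR)) = _
            rw [hsr, hdr, if_neg hp]
            rcases abs_cases (coordVec x r) with a | a
            · have e4 : coordVec x r = 4 := by omega
              simp [e4]
            · have e4 : coordVec x r = -4 := by omega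
              simp [e4]
          · have h1' : σ.symm i ≠ ptP := fun e => hp (by rw [← hσp, ← e, Equiv.apply_symm_apply])
            have h2' : σ.symm i ≠ r := fun e => hr' (by rw [← hσr, ← e, Equiv.apply_symm_apply])
            show (if d (σ.symm i) = 0 then coordVec x (σ.symm i) else -coordVec x (σ.symm i)) = _
            rw [hr0 _ h1' h2']; simp [hp, hr']
  · obtain ⟨g, hgv, h1, h2⟩ := step (Or.inr hd)
    rw [hd] at h2
    set x := g • w with hx
    have hxn : sqNorm (coordVec x) = 32 := by rw [hx, sqNorm_smul', hw]
    have ho : ∀ p, coordVec x p % 2 = 1 := (even_or_odd_coords x).resolve_left fun h => by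
      have := h ptQ; omega
    obtain ⟨k, hk, hone⟩ := odd_shape32 x hxn ho
    have hkp : k = ptP := by
      by_contra hne
      have := hone ptP (Ne.symm hne)
      rcases abs_cases (coordVec x ptP) with a | a <;> omega
    subst hkp
    obtain ⟨m, -, -, hcls⟩ := mem_leechLattice_iff_mem_leechSet.1 x.2
    have hdC := mem_supports_iff.1 (hcls 3)
    refine ⟨signAut ⟨_, hdC⟩ * g, ?_, ?_⟩
    · rw [mul_smul, hgv]
      refine Subtype.ext (funext fun i => ?_)
      show coordVec _ i = coordVec _ i
      rw [coordVec_signAut]
      show (if (if i ∈ _ then (1 : ZMod 2) else 0) = 0 then _ else _) = _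
      simp only [Finset.mem_filter, Finset.mem_univ, true_and]
      by_cases hp : i = ptP
      · subst hp
        rw [if_neg (show ¬ coordVec x ptP ≡ 3 [ZMOD 4] by show ¬ _ % 4 = 3 % 4; omega), if_pos rfl]
      · by_cases hq : i = ptQ
        · subst hq
          rw [if_neg (show ¬ coordVec x ptQ ≡ 3 [ZMOD 4] by show ¬ _ % 4 = 3 % 4; omega), if_pos rfl]
        · rw [baseP_eq, coordVec_fourPair, if_neg hp, if_neg hq]; simp
    · refine Subtype.ext (funext fun i => ?_)
      show coordVec _ i = coordVec _ i
      rw [mul_smul, ← hx, coordVec_signAut, baseB, coordVec_oddVec]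
      show (if (if i ∈ _ then (1 : ZMod 2) else 0) = 0 then _ else _) = _
      simp only [Finset.mem_filter, Finset.mem_univ, true_and]
      by_cases hp : i = ptP
      · subst hp
        rw [if_neg (show ¬ coordVec x ptP ≡ 3 [ZMOD 4] by show ¬ _ % 4 = 3 % 4; omega), if_pos rfl,
          if_pos rfl]
        omega
      · have := hone i hp
        rcases abs_cases (coordVec x i) with a | a
        · rw [if_neg (show ¬ coordVec x i ≡ 3 [ZMOD 4] by show ¬ _ % 4 = 3 % 4; omega), if_pos rfl,
            if_neg hp]
          omega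
        · rw [if_pos (show coordVec x i ≡ 3 [ZMOD 4] by show _ % 4 = 3 % 4; omega),
            if_neg one_ne_zero, if_neg hp]
          omega

/-- Pairs of minimal vectors with the same inner product in `{0, -8, -16}` are conjugate. -/
theorem pair_transitive {v w v' w' : leechLattice} (hv : sqNorm (coordVec v) = 32)
    (hw : sqNorm (coordVec w) = 32) (hv' : sqNorm (coordVec v') = 32)
    (hw' : sqNorm (coordVec w') = 32) {d : ℤ} (hd : d = 0 ∨ d = -8 ∨ d = -16)
    (h : dotInt (coordVec v) (coordVec w) = d) (h' : dotInt (coordVec v') (coordVec w') = d) :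
    ∃ g : Co0, g • v = v' ∧ g • w = w' := by
  have key : ∀ (B : leechLattice) (g g' : Co0), g • v = baseP → g • w = B → g' • v' = baseP →
      g' • w' = B → ∃ g : Co0, g • v = v' ∧ g • w = w' := fun B g g' a b c e =>
    ⟨g'⁻¹ * g, by rw [mul_smul, a, ← c, inv_smul_smul], by rw [mul_smul, b, ← e, inv_smul_smul]⟩
  rcases hd with rfl | rfl | rfl
  · obtain ⟨g, a, b⟩ := exists_orth_normal hv hw h
    obtain ⟨g', c, e⟩ := exists_orth_normal hv' hw' h'
    exact key _ g g' a b c e
  · obtain ⟨g, a, b⟩ := (exists_pair_normal hv hw).2 h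
    obtain ⟨g', c, e⟩ := (exists_pair_normal hv' hw').2 h'
    exact key _ g g' a b c e
  · obtain ⟨g, a, b⟩ := (exists_pair_normal hv hw).1 h
    obtain ⟨g', c, e⟩ := (exists_pair_normal hv' hw').1 h'
    exact key _ g g' a b c e

end CfsgLib.Leech
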