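import Cfsg.Agent.Lib.Leech.Pairs

/-!
The 196560 minimal vectors as a list, and kernel-checkable counting of the minimal vectors by their
inner product with a fixed vector.
-/

set_option autoImplicit false

namespace CfsgLib.Leech

open Cfsg Finset CfsgLib.Fischer2
open CfsgLib.Golay (idx pt idx_pt pt_idx idx_lt codeMasks basisMasks spanMasks inCode popc wordOf)

/-! ### Vectors as lists -/

/-- The vector of a list of 24 entries. -/
def toVec (L : List ℤ) : GolayPt → ℤ := fun p => L.getD (idx p) 0

/-- The list of entries of a vector. -/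
def ofVec (x : GolayPt → ℤ) : List ℤ := (List.range 24).map fun i => x (pt i)

/-- The inner product of two lists. -/
def dotL (a b : List ℤ) : ℤ := (List.zipWith (· * ·) a b).sum

theorem length_ofVec (x : GolayPt → ℤ) : (ofVec x).length = 24 := by simp [ofVec]

theorem toVec_ofVec (x : GolayPt → ℤ) : toVec (ofVec x) = x := by
  funext p
  rw [toVec, List.getD_eq_getElem _ _ (by rw [length_ofVec]; exact idx_lt p)]
  simp [ofVec, pt_idx]

theorem sum_eq_sum_range {M : Type*} [AddCommMonoid M] (f : GolayPt → M) :
    ∑ p, f p = ((List.range 24).map fun i => f (pt i)).sum := by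
  have h : ∑ p, f p = ∑ i ∈ Finset.range 24, f (pt i) :=
    Finset.sum_bij' (fun p _ => idx p) (fun i _ => pt i) (fun p _ => Finset.mem_range.2 (idx_lt p))
      (fun i _ => Finset.mem_univ _) (fun p _ => pt_idx p)
      (fun i hi => idx_pt (Finset.mem_range.1 hi)) (fun p _ => by rw [pt_idx])
  exact h

theorem dotInt_toVec {a b : List ℤ} (ha : a.length = 24) (hb : b.length = 24) :
    dotInt (toVec a) (toVec b) = dotL a b := by
  rw [dotInt, sum_eq_sum_range, dotL]
  congr 1
  refine List.ext_getElem (by simp [ha, hb]) fun i h1 h2 => ?_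
  simp only [List.getElem_map, List.getElem_range, List.getElem_zipWith, toVec]
  simp only [List.length_map, List.length_range] at h1
  rw [idx_pt h1, List.getD_eq_getElem _ _ (by omega), List.getD_eq_getElem _ _ (by omega)]

theorem dotL_cons (a b : ℤ) (as bs : List ℤ) : dotL (a :: as) (b :: bs) = a * b + dotL as bs := by
  simp [dotL]

theorem dotL_nil (b : List ℤ) : dotL [] b = 0 := by simp [dotL]

theorem dotL_comm : ∀ a b : List ℤ, dotL a b = dotL b a
  | [], b => by simp [dotL]
  | _ :: _, [] => by simp [dotL]
  | a :: as, b :: bs => by rw [dotL_cons, dotL_cons, dotL_comm as bs, mul_comm]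

theorem dotL_map_mul (c : ℤ) : ∀ a b : List ℤ, dotL (a.map (c * ·)) b = c * dotL a b
  | [], b => by simp [dotL]
  | _ :: _, [] => by simp [dotL]
  | a :: as, b :: bs => by rw [List.map_cons, dotL_cons, dotL_cons, dotL_map_mul c as bs]; ring

/-! ### The list of minimal vectors -/

/-- The lowest `k` bits of a number. -/
def bitsOf : ℕ → ℕ → List Bool
  | 0, _ => []
  | k + 1, n => Nat.beq (n % 2) 1 :: bitsOf k (n / 2)

theorem bitsOf_eq : ∀ k n : ℕ, bitsOf k n = (List.range k).map n.testBit
  | 0, _ => rfl
  | k + 1, n => by
    rw [bitsOf, List.range_succ_eq_map, List.map_cons, List.map_map, bitsOf_eq k]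
    congr 1
    · rw [Nat.testBit_zero]
      rcases Nat.mod_two_eq_zero_or_one n with h | h <;> rw [h] <;> rfl
    · exact List.map_congr_left fun i _ => (Nat.testBit_succ n i).symm

/-- Number of set bits below `k`. -/
noncomputable def popR : ℕ → ℕ → ℕ := fun k =>
  Nat.rec (fun _ => 0) (fun _ r n => Nat.add (Nat.mod n 2) (r (Nat.div n 2))) k

theorem popR_eq : ∀ k n : ℕ, popR k n = (bitsOf k n).count true
  | 0, _ => rfl
  | k + 1, n => by
    show n % 2 + popR k (n / 2) = _
    rw [popR_eq k, bitsOf, List.count_cons]
    rcases Nat.mod_two_eq_zero_or_one n with h | h <;> rw [h] <;> simp <;> omega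

/-- Half of a vector of octad shape: `±1` on the set bits, with prescribed parity of minus signs. -/
def octHalf : List Bool → Bool → List (List ℤ)
  | [], p => bif p then [] else [[]]
  | false :: bs, p => (octHalf bs p).map (0 :: ·)
  | true :: bs, p => (octHalf bs p).map (1 :: ·) ++ (octHalf bs (!p)).map (-1 :: ·)

/-- A quarter of a vector with exactly `k` entries `±4`. -/
def fourQuarter : ℕ → ℕ → List (List ℤ)
  | 0, k => bif k == 0 then [[]] else []
  | n + 1, k => (fourQuarter n k).map (0 :: ·) ++ (bif k == 0 then [] else
      (fourQuarter n (k - 1)).map (1 :: ·) ++ (fourQuarter n (k - 1)).map (-1 :: ·))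

/-- The sign of a bit. -/
def sgnOf (b : Bool) : ℤ := bif b then -1 else 1

/-- A sign vector with one entry multiplied by `-3`. -/
def threeVecs : List ℤ → List (List ℤ)
  | [] => []
  | s :: ss => (-3 * s :: ss) :: (threeVecs ss).map (s :: ·)

/-- The masks of the octads. -/
def octLit : List ℕ :=
  [13062145, 4845570, 9347075, 13938692, 1302533, 10305542, 5902343, 7221256, 11100169, 2605066, 14716939,
      12222476, 3416079, 10170384, 6053905, 13811730, 1413139, 5210132, 8966165, 421910, 12656663, 16056344,
      3297305, 2207772, 6832158, 11952160, 7417889, 3719203, 6475812, 10846245, 2826278, 14176296, 2031657,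
      9543722, 843820, 4526126, 8536111, 2969648, 15335473, 6594610, 11538486, 4415544, 8663097, 692282,
      5275709, 15515712, 2854977, 10825794, 6447171, 3698756, 7438406, 8581192, 4563017, 13303882, 806987,
      5652556, 9506893, 11575377, 4063314, 10698836, 6557781, 1687640, 5255258, 663645, 8683614, 5939296,
      1265762, 13893731, 9310308, 4800613, 45159, 3444840, 14688364, 12685424, 442481, 8937586, 1384564,
      2162811, 2019456, 14254209, 5709954, 9465987, 13262980, 864389, 8622214, 4505735, 7397512, 3739786,
      10768524, 6488205, 8773776, 4370577, 13373586, 737427, 5329044, 9830549, 1613974, 2916505, 10625178,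
      11055264, 14762146, 2494627, 8126628, 13009064, 118953, 4726955, 1192108, 3375280, 2121909, 1327290,
      8978620, 15864000, 3489985, 2531524, 11010247, 10232008, 1212619, 4755660, 90318, 6889680, 2150610,
      463064, 12599513, 4485344, 8593633, 884962, 9486564, 2769128, 1577201, 4325622, 4038912, 7622914,
      11731203, 15274244, 3031301, 10543366, 5476616, 9748745, 1728778, 8855820, 4223245, 622863, 10916112,
      6406417, 2634003, 7479572, 13148440, 8474906, 4587803, 1839388, 9158944, 5017889, 12726562, 352547,
      9969957, 1474854, 2269481, 11272490, 3227948, 1110320, 5833010, 12861748, 201013, 13721920, 1454401,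
      9998658, 381252, 12747077, 4989254, 7864649, 2232654, 4870480, 9240913, 237906, 1065303, 2384216,
      6750560, 10506593, 602472, 4243818, 2654580, 9568632, 2322816, 14950785, 6979970, 3182981, 5063048,
      9048457, 307594, 13631886, 12075408, 2425238, 1122713, 180636, 9769376, 5390753, 4301220, 545190,
      926128, 8421811, 6295992, 582081, 8798658, 4264387, 1769924, 10584520, 5538256, 8401364, 3154402,
      262637, 8077824, 12325377, 3322370, 6857221, 15073798, 2183687, 1405448, 13771273, 6062602, 12698124,
      430605, 8925710, 14709264, 2564625, 11108882, 3457556, 9323032, 4788761, 57883, 1245726, 13443616,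
      684577, 8704546, 4424227, 1675812, 5268006, 10687016, 6570537, 5640752, 9519665, 8561204, 786999,
      3678776, 9929280, 5296705, 1647171, 4403780, 8675909, 705094, 11551306, 2949708, 832080, 4538962,
      8524371, 14156372, 6455896, 2220640, 6820450, 3277413, 8946281, 402026, 21116, 6656640, 10666625,
      2908802, 11608708, 762504, 4346506, 8716939, 1589901, 7340691, 2757268, 9474712, 4465308, 1352353,
      10093218, 475812, 12587685, 2130606, 4768432, 78514, 8999616, 5112513, 12624578, 1315526, 2110153,
      1204944, 99029, 5309160, 10748656, 4645632, 8499969, 987906, 13124355, 9589508, 5571333, 2675464,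
      6365962, 1737489, 9708306, 615188, 4231958, 10486557, 15762208, 2372388, 1053483, 4850476, 2245426,
      361272, 11150144, 2392899, 12849992, 213833, 1090380, 3216208, 1852256, 8455014, 4203377, 5780352,
      1164162, 9208708, 140167, 3539848, 12780432, 283537, 2687905, 8414120, 6308804, 525274, 168928,
      11654144, 7767041, 16262146, 6644740, 10630149, 2921478, 1618953, 9835530, 5325835, 742412, 13370381,
      4367374, 2810896, 6493202, 10765331, 3736597, 4510744, 8619033, 861210, 9462812, 504864, 12641313,
      5129250, 8983587, 13829156, 1332261, 6915112, 2126890, 10257456, 1188915, 4731956, 115766, 2491452,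
      6100032, 10110017, 1369154, 9020484, 12604486, 459847, 3351624, 2147405, 12985424, 95313, 4752467,
      1217620, 11015256, 2892897, 10650722, 8733800, 4330601, 1573998, 7357552, 11469952, 6837377, 2204803,
      3294342, 12661896, 418953, 8963210, 1410188, 3421328, 14714004, 5899416, 5279, 1664160, 5280930,
      689317, 8660134, 11535529, 8541360, 4523185, 4441280, 8688833, 668866, 5252293, 6554826, 9503954,
      804052, 2168036, 42232, 9204992, 4924673, 12944642, 185603, 5817604, 1127686, 14828808, 2430217,
      1525008, 13636881, 304405, 9045270, 3179802, 3806496, 6292775, 5514536, 8426796, 10560816, 542009,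
      6337856, 2704706, 11797828, 951624, 8398155, 4261212, 1148257, 157028, 267634, 9610624, 1836419,
      4593028, 8471941, 2631052, 628112, 4220306, 2409888, 198058, 1070536, 2229713, 13108704, 13276672,
      902657, 8611330, 4470275, 1975812, 9471495, 10790408, 2754059, 7345676, 5350928, 1594898, 8721940,
      4343317, 3474978, 11028004, 1230376, 75309, 2135601, 12584506, 2512448, 14747201, 4744776, 104010,
      2106966, 1312345, 9451104, 4490852, 722544, 13911680, 1250945, 63108, 4785798, 8922769, 427666,
      2180760, 6432416, 792232, 3704512, 8521420, 18147, 3172097, 2328324, 10028808, 280334, 7079696,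
      145176, 4282144, 8783649, 567074, 5375810, 530245, 8439632, 10491778, 4229001, 1050548, 337856,
      14919680, 2422785, 11163650, 7145475, 3610628, 15747077, 9279496, 4900873, 12871690, 210955, 5842956,
      1103886, 7903248, 3237906, 11282452, 2263063, 1484824, 9963547, 12720156, 346141, 5621792, 9607201,
      1849378, 8484900, 4597797, 13142054, 7473194, 2627629, 632881, 8849458, 4216883, 1722420, 10537016,
      1009728, 13121601, 4626498, 8505411, 1869893, 9578566, 6379592, 10881097, 2664522, 9721936, 5441617,
      4253780, 596054, 12126304, 2377830, 1075305, 231532, 2242672, 4982904, 3811457, 11831426, 2738308,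
      6305926, 9652360, 5511305, 8431757, 919694, 6703248, 10557585, 555160, 4294810, 4921504, 9193633,
      190626, 1116327, 2435240, 13641904, 301236, 1161408, 5785794, 12912836, 153797, 9078992, 272595,
      3147996, 6326497, 8394986, 14551296, 1661185, 5286147, 702724, 4409606, 8657159, 11548936, 6588684,
      4536592, 8546577, 837906, 9537812, 2820376, 6842656, 2201890, 416040, 12650793, 3410225, 10558,
      3328320, 2173253, 1378634, 8931660, 14682450, 39257, 8694112, 657763, 5249380, 12638592, 493953,
      8989058, 1337732, 2115979, 1186194, 4721045, 10619300, 1608104, 2890176, 4336072, 84464, 10021376,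
      13703682, 1460739, 5003780, 9112069, 371206, 3246601, 2255372, 252432, 12880401, 4860434, 1063445,
      2365978, 3050016, 10496547, 4241960, 608810, 9701932, 6359604, 7612992, 10525252, 1710664, 4196943,
      2640465, 8464984, 12733024, 334433, 1084018, 8796800, 4287105, 563843, 5409412, 15207048, 1903248,
      8407702, 3168928, 133817, 2296514, 314056, 535268, 10832640, 6429441, 3672838, 797449, 8555274,
      5262104, 1256224, 52005, 8919856, 4819776, 31554, 396116, 72588, 2141072, 4459426, 9440193,
      5405696, 9776129, 1805314, 8834052, 4299781, 551943, 3951624, 10554382, 13192208, 924689, 8436754,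
      5508118, 6302745, 14949408, 2313249, 3189796, 9055272, 298027, 1121336, 3152963, 6949956, 13667400,
      277580, 2460752, 150618, 580704, 4271202, 8391797, 5024896, 351362, 12717187, 9968772, 2268296,
      1100945, 208020, 4213932, 2624690, 10513600, 593097, 1445088, 11046145, 2501890, 126216, 4726026,
      1182989, 2120980, 9456930, 855332, 4361520, 8592704, 4476225, 1584464, 7409024, 8654232, 15777,
      36294, 2702848, 6344194, 4656648, 8412681, 11669008, 560668, 5770785, 138790, 290352, 175681,
      9178690, 1134148, 2363013, 1060490, 8490656, 4202192, 1351424, 12594948, 69395, 2101096, 675712]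

theorem octLit_check : (codeMasks.filter fun n => Nat.beq (popR 24 n) 8) = octLit := by
  decide +kernel

/-- The minimal vectors. -/
def minList : List (List ℤ) :=
  (fourQuarter 24 2).map (List.map (4 * ·)) ++
  (octLit.flatMap fun n => (octHalf (bitsOf 24 n) false).map (List.map (2 * ·))) ++
  codeMasks.flatMap fun n => threeVecs ((bitsOf 24 n).map sgnOf)

/-! ### Completeness -/

/-- Parity of the number of negative entries. -/
def negPar : List ℤ → Bool
  | [] => false
  | x :: xs => (decide (x < 0) != negPar xs)

theorem mem_octHalf : ∀ (bs : List Bool) (h : List ℤ), List.Forall₂ (fun b x =>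
    bif b then x = 1 ∨ x = -1 else x = 0) bs h → h ∈ octHalf bs (negPar h)
  | [], _, .nil => by simp [octHalf, negPar]
  | b :: bs, x :: h, .cons hx ht => by
    have ih := mem_octHalf bs h ht
    cases b
    · simp only [cond_false] at hx
      subst hx
      simp only [octHalf, negPar, lt_irrefl, decide_false, Bool.false_bne]
      exact List.mem_map_of_mem ih
    · simp only [cond_true] at hx
      rcases hx with rfl | rfl
      · simp only [octHalf, negPar, show ¬ (1 : ℤ) < 0 by norm_num, decide_false, Bool.false_bne]
        exact List.mem_append_left _ (List.mem_map_of_mem ih)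
      · simp only [octHalf, negPar, show (-1 : ℤ) < 0 by norm_num, decide_true, Bool.true_bne,
          Bool.not_not]
        exact List.mem_append_right _ (List.mem_map_of_mem ih)

theorem sum_negPar : ∀ (bs : List Bool) (h : List ℤ), List.Forall₂ (fun b x =>
    bif b then x = 1 ∨ x = -1 else x = 0) bs h →
      (4 : ℤ) ∣ h.sum - bs.count true + 2 * (bif negPar h then 1 else 0)
  | [], _, .nil => by simp [negPar]
  | b :: bs, x :: h, .cons hx ht => by
    have ih := sum_negPar bs h ht
    cases b
    · simp only [cond_false] at hx
      subst hx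
      simpa [negPar] using ih
    · simp only [cond_true] at hx
      rcases hx with rfl | rfl <;> cases hn : negPar h <;> simp [negPar, hn] at ih ⊢ <;> omega

theorem mem_fourQuarter : ∀ h : List ℤ, (∀ x ∈ h, x = 0 ∨ x = 1 ∨ x = -1) →
    h ∈ fourQuarter h.length (h.countP fun x => decide (x ≠ 0))
  | [], _ => by simp [fourQuarter]
  | x :: h, hh => by
    have ih := mem_fourQuarter h fun y hy => hh y (List.mem_cons_of_mem _ hy)
    rcases hh x List.mem_cons_self with rfl | rfl | rfl
    · simp only [ne_eq, decide_not] at ih ⊢
      simp [fourQuarter, ih]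
    · simp only [ne_eq, decide_not] at ih ⊢
      simp [fourQuarter, ih]
    · simp only [ne_eq, decide_not] at ih ⊢
      simp [fourQuarter, ih]

theorem mem_threeVecs : ∀ (ss : List ℤ) (i : ℕ) (hi : i < ss.length),
    ss.set i (-3 * ss[i]) ∈ threeVecs ss
  | s :: ss, 0, _ => by simp [threeVecs]
  | s :: ss, i + 1, hi => by
    simp only [List.set_cons_succ, List.getElem_cons_succ, threeVecs]
    exact List.mem_cons_of_mem _ (List.mem_map_of_mem (mem_threeVecs ss i (by simpa using hi)))

theorem bit_eq (n : ℕ) (p : GolayPt) :
    (bitsOf 24 n)[idx p]'(by simp [bitsOf_eq, idx_lt]) = decide (wordOf n p ≠ 0) := by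
  simp only [bitsOf_eq, List.getElem_map, List.getElem_range, wordOf]
  by_cases h : n.testBit (idx p) = true <;> simp [h]

theorem ofVec_mem_minList (v : leechLattice) (hv : sqNorm (coordVec v) = 32) :
    ofVec (coordVec v) ∈ minList := by
  classical
  simp only [minList, List.mem_append, List.mem_flatMap]
  rcases even_or_odd_coords v with he | ho
  · rcases shape32 v hv he with ⟨O, hO, h2, h0⟩ | ⟨k, l, hkl, hk, hl, h0⟩
    · left; right
      obtain ⟨n, hn, hpop, rfl⟩ := CfsgLib.Golay.mem_octads_iff.1 hO
      refine ⟨n, ?_, ?_⟩
      · rw [← octLit_check, List.mem_filter, popR_eq, bitsOf_eq]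
        refine ⟨hn, ?_⟩
        rw [List.count, List.countP_map]
        simp only [popc] at hpop
        simp [Function.comp_def, hpop]
      · rw [List.mem_map]
        set x := coordVec v with hx
        have hev : ∀ p, x p = 2 * (x p / 2) := fun p => by have := he p; omega
        refine ⟨ofVec fun p => x p / 2, ?_, ?_⟩
        · have hF : List.Forall₂ (fun b y => bif b then y = 1 ∨ y = -1 else y = 0) (bitsOf 24 n)
              (ofVec fun p => x p / 2) := by
            rw [List.forall₂_iff_get]
            refine ⟨by simp [bitsOf_eq, length_ofVec], fun i h1 h2' => ?_⟩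
            have hi : i < 24 := by simpa [bitsOf_eq] using h1
            simp only [List.get_eq_getElem, bitsOf_eq, ofVec, List.getElem_map, List.getElem_range]
            cases hb : n.testBit i
            · have := h0 (pt i) (by rw [CfsgLib.Golay.pt_mem_unmask hi, hb]; simp)
              simp only [cond_false]; omega
            · have := h2 (pt i) (by rw [CfsgLib.Golay.pt_mem_unmask hi, hb])
              simp only [cond_true]
              rcases abs_cases (x (pt i)) with a | a <;> omega
          have hpar := sum_negPar _ _ hF
          have hsum : (ofVec fun p => x p / 2).sum = ∑ p, x p / 2 :=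
            (sum_eq_sum_range (fun p => x p / 2)).symm
          have h8 := sum_mod_eight v he
          rw [← hx] at h8
          rw [Finset.sum_congr rfl fun p _ => hev p, ← Finset.mul_sum] at h8
          have hc : ((bitsOf 24 n).count true : ℤ) = 8 := by
            rw [List.count, bitsOf_eq, List.countP_map]
            simp only [popc] at hpop
            simp [Function.comp_def, hpop]
          rw [hsum, hc] at hpar
          have hfalse : negPar (ofVec fun p => x p / 2) = false := by
            cases hb : negPar (ofVec fun p => x p / 2)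
            · rfl
            · rw [hb] at hpar; simp only [cond_true] at hpar; omega
          have := mem_octHalf _ _ hF
          rwa [hfalse] at this
        · simp only [ofVec, List.map_map]
          exact List.map_congr_left fun i _ => (hev (pt i)).symm
    · left; left
      rw [List.mem_map]
      set x := coordVec v with hx
      have hval : ∀ p, x p = 0 ∨ x p = 4 ∨ x p = -4 := fun p => by
        by_cases a : p = k
        · subst a; rcases abs_cases (x p) with e | e <;> omega
        · by_cases b : p = l
          · subst b; rcases abs_cases (x p) with e | e <;> omega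
          · exact Or.inl (h0 p a b)
      refine ⟨ofVec fun p => x p / 4, ?_, ?_⟩
      · have := mem_fourQuarter (ofVec fun p => x p / 4) fun y hy => by
          simp only [ofVec, List.mem_map] at hy
          obtain ⟨i, -, rfl⟩ := hy
          rcases hval (pt i) with e | e | e <;> omega
        rw [length_ofVec] at this
        convert this using 2
        have h2 : ((List.range 24).map fun i => if x (pt i) / 4 ≠ 0 then 1 else 0).sum = 2 := by
          rw [← sum_eq_sum_range (fun p => if x p / 4 ≠ 0 then 1 else 0), ← Finset.card_filter,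
            show (Finset.univ.filter fun p => x p / 4 ≠ 0) = {k, l} by
              ext p
              simp only [Finset.mem_filter, Finset.mem_univ, true_and, Finset.mem_insert,
                Finset.mem_singleton]
              constructor
              · intro hp; by_contra hne; simp only [not_or] at hne
                exact hp (by rw [h0 p hne.1 hne.2]; norm_num)
              · rintro (rfl | rfl) <;> rcases abs_cases (x p) with ⟨a, -⟩ | ⟨a, -⟩ <;> omega,
            Finset.card_pair hkl]
        rw [← h2, ofVec, List.countP_map]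
        generalize List.range 24 = R
        induction R with
        | nil => rfl
        | cons i R ih =>
          simp only [List.countP_cons, List.map_cons, List.sum_cons, ih, Function.comp_apply]
          split_ifs <;> simp_all <;> omega
      · simp only [ofVec, List.map_map]
        exact List.map_congr_left fun i _ => by
          show 4 * (x (pt i) / 4) = x (pt i)
          rcases hval (pt i) with e | e | e <;> rw [e] <;> norm_num
  · right
    obtain ⟨m, hm, c, hc, hres, -⟩ := mem_leechLattice_iff_residues.1 v.2
    obtain ⟨k, hk, h1⟩ := odd_shape32 v hv ho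
    have hm1 : m = 1 := by
      have := hres k
      have := ho k
      simp only [coordVec] at this
      rcases hm with rfl | rfl <;> omega
    subst hm1
    obtain ⟨n, hn, rfl⟩ := CfsgLib.Golay.mem_golayCode_iff.1 hc
    refine ⟨n, hn, ?_⟩
    have hlen : idx k < ((bitsOf 24 n).map sgnOf).length := by simp [bitsOf_eq, idx_lt]
    have hmem := mem_threeVecs ((bitsOf 24 n).map sgnOf) (idx k) hlen
    have hs : ∀ p, coordVec v p % 4 = (sgnOf (decide (wordOf n p ≠ 0))) % 4 := fun p => by
      rw [show coordVec v p % 4 = _ from hres p]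
      rcases zmod2_cases (wordOf n p) with e | e <;> simp [bitVec, sgnOf, e]
    have hsgn : ∀ b, sgnOf b = 1 ∨ sgnOf b = -1 := fun b => by cases b <;> simp [sgnOf]
    convert hmem using 1
    refine List.ext_getElem (by simp [length_ofVec, bitsOf_eq]) fun i h1' h2' => ?_
    have hi : i < 24 := by simpa [length_ofVec] using h1'
    have hb : (bitsOf 24 n)[i]'(by simp [bitsOf_eq, hi]) = decide (wordOf n (pt i) ≠ 0) := by
      have := bit_eq n (pt i)
      simpa [idx_pt hi] using this
    have hkb := bit_eq n k
    rw [List.getElem_set]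
    simp only [ofVec, List.getElem_map, List.getElem_range]
    have h4 := hs (pt i)
    have h5 := hsgn (decide (wordOf n (pt i) ≠ 0))
    by_cases hik : idx k = i
    · subst hik
      rw [if_pos rfl, hkb]
      rw [pt_idx] at h4 h5 ⊢
      rcases abs_cases (coordVec v k) with a | a <;> omega
    · rw [if_neg hik, hb]
      have h6 := h1 (pt i) fun e => hik (by rw [← e, idx_pt hi])
      rcases abs_cases (coordVec v (pt i)) with a | a <;> omega

/-! ### Counting -/

/-- Lists biased to natural numbers. -/
def biased (B : ℕ) (W : List ℤ) : List ℕ := W.map fun w : ℤ => (w + (B : ℤ)).toNat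

/-- Strict evaluation of a natural number. -/
noncomputable def forceNat (x : ℕ) (k : ℕ → ℕ) : ℕ :=
  Nat.rec (k Nat.zero) (fun m _ => k (Nat.succ m)) x

/-- Sum over the span of a list of masks. -/
noncomputable def sumSpan (bs : List ℕ) : (ℕ → ℕ) → ℕ :=
  List.rec (fun f => f 0) (fun b _ r f => Nat.add (r f) (r fun n => f (Nat.xor b n))) bs

/-- The weights at the set bits. -/
noncomputable def withPicked (W : List ℕ) : ℕ → (List ℕ → ℕ) → ℕ :=
  List.rec (fun _ k => k []) (fun w _ r n k =>
    Bool.rec (r (Nat.div n 2) k) (r (Nat.div n 2) fun L => k (w :: L)) (Nat.beq (Nat.mod n 2) 1)) W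

/-- The weights, reflected at the set bits. -/
noncomputable def withSigned (B2 : ℕ) (W : List ℕ) : ℕ → (List ℕ → ℕ) → ℕ :=
  List.rec (fun _ k => k []) (fun w _ r n k =>
    Bool.rec (r (Nat.div n 2) fun L => k (w :: L)) (r (Nat.div n 2) fun L => k (Nat.sub B2 w :: L))
      (Nat.beq (Nat.mod n 2) 1)) W

/-- Sum over the sign choices of given parity. -/
noncomputable def signCount (B2 : ℕ) (P : ℕ → ℕ) (L : List ℕ) : Bool → ℕ → ℕ :=
  List.rec (fun p a => Bool.rec (P a) 0 p) (fun w _ r p a =>
    Nat.add (r p (Nat.add a w)) (r (Bool.rec true false p) (Nat.sub (Nat.add a B2) w))) L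

/-- Running total of a list. -/
noncomputable def sumCont (L : List ℕ) : ℕ → (ℕ → ℕ) → ℕ :=
  List.rec (fun a k => forceNat a k) (fun w _ r a k => r (Nat.add a w) k) L

/-- Sum over the position of the three. -/
noncomputable def threeLoop (B4 : ℕ) (P : ℕ → ℕ) (L : List ℕ) : ℕ → ℕ :=
  List.rec (fun _ => 0) (fun w _ r a =>
    Nat.add (P (Nat.sub (Nat.add a B4) (Nat.mul 4 w))) (r a)) L

/-- Sum over the vectors with `k` fours. -/
noncomputable def fourLoop (B4 : ℕ) (Q : ℕ → ℕ) (L : List ℕ) : ℕ → ℕ → ℕ :=
  List.rec (fun k a => Bool.rec 0 (Q a) (Nat.beq k 0)) (fun w _ r k a =>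
    Nat.add (r k a) (Bool.rec
      (Nat.add (r (Nat.sub k 1) (Nat.sub (Nat.add a (Nat.mul 4 w)) B4))
        (r (Nat.sub k 1) (Nat.sub (Nat.add a B4) (Nat.mul 4 w)))) 0 (Nat.beq k 0))) L

/-- Sum over a literal list. -/
noncomputable def sumList (L : List ℕ) : (ℕ → ℕ) → ℕ :=
  List.rec (fun _ => 0) (fun n _ r f => Nat.add (f n) (r f)) L

/-- Sum of `Q (32 B + ⟨w, x⟩)` over the minimal vectors `x`. -/
noncomputable def minCount (B : ℕ) (Wb : List ℕ) (Q : ℕ → ℕ) : ℕ :=
  Nat.add (Nat.add (fourLoop (Nat.mul 4 B) Q Wb 2 (Nat.mul 32 B))
    (sumList octLit fun n => withPicked Wb n fun L =>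
      signCount (Nat.mul 2 B) (fun A => Q (Nat.mul 2 A)) L false (Nat.mul 8 B)))
    (sumSpan basisMasks fun n => withSigned (Nat.mul 2 B) Wb n fun L =>
      sumCont L (Nat.mul 8 B) fun S => threeLoop (Nat.mul 4 B) Q L S)

theorem sumSpan_eq : ∀ (bs : List ℕ) (f : ℕ → ℕ), sumSpan bs f = ((spanMasks bs).map f).sum
  | [], f => by simp [sumSpan, CfsgLib.Golay.spanMasks]
  | b :: bs, f => by
    show sumSpan bs f + sumSpan bs (fun n => f (b ^^^ n)) = _
    rw [sumSpan_eq bs f, sumSpan_eq bs fun n => f (b ^^^ n), CfsgLib.Golay.spanMasks]
    simp [List.map_append, Function.comp_def]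

theorem sumList_eq : ∀ (L : List ℕ) (f : ℕ → ℕ), sumList L f = (L.map f).sum
  | [], _ => rfl
  | n :: L, f => by
    show f n + sumList L f = _
    rw [sumList_eq L f]; simp

theorem withPicked_eq : ∀ (W : List ℕ) (n : ℕ) (k : List ℕ → ℕ),
    withPicked W n k = k ((W.zip (bitsOf W.length n)).filterMap fun q => bif q.2 then some q.1 else none)
  | [], n, k => rfl
  | w :: W, n, k => by
    show Bool.rec (motive := fun _ => ℕ) (withPicked W (n / 2) k) (withPicked W (n / 2) fun L => k (w :: L))
      (Nat.beq (n % 2) 1) = _
    rw [withPicked_eq W (n / 2) k, withPicked_eq W (n / 2) fun L => k (w :: L)]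
    cases h : Nat.beq (n % 2) 1 <;> simp [bitsOf, h]

theorem withSigned_eq (B2 : ℕ) : ∀ (W : List ℕ) (n : ℕ) (k : List ℕ → ℕ),
    withSigned B2 W n k =
      k (List.zipWith (fun w b => bif b then B2 - w else w) W (bitsOf W.length n))
  | [], n, k => rfl
  | w :: W, n, k => by
    show Bool.rec (motive := fun _ => ℕ) (withSigned B2 W (n / 2) fun L => k (w :: L))
      (withSigned B2 W (n / 2) fun L => k ((B2 - w) :: L)) (Nat.beq (n % 2) 1) = _
    rw [withSigned_eq B2 W (n / 2) fun L => k (w :: L),
      withSigned_eq B2 W (n / 2) fun L => k ((B2 - w) :: L)]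
    cases h : Nat.beq (n % 2) 1 <;> simp [bitsOf, h]

theorem sumCont_eq : ∀ (L : List ℕ) (a : ℕ) (k : ℕ → ℕ), sumCont L a k = k (a + L.sum)
  | [], a, k => by cases a <;> rfl
  | w :: L, a, k => by
    show sumCont L (a + w) k = _
    rw [sumCont_eq L, List.sum_cons, Nat.add_assoc]

theorem signCount_spec (B : ℕ) (P : ℕ → ℕ) : ∀ (W : List ℤ) (bs : List Bool),
    W.length = bs.length → (∀ w ∈ W, |w| ≤ (B : ℤ)) → ∀ (p : Bool) (a : ℕ),
    signCount (2 * B) P (((biased B W).zip bs).filterMap fun q => bif q.2 then some q.1 else none)
        p a =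
      ((octHalf bs p).map fun h => P ((a : ℤ) + bs.count true * B + dotL h W).toNat).sum
  | [], [], _, _, p, a => by
    cases p <;> simp [biased, octHalf, signCount, dotL]
  | [], _ :: _, hl, _, _, _ => by simp at hl
  | _ :: _, [], hl, _, _, _ => by simp at hl
  | w :: W, b :: bs, hl, hW, p, a => by
    have hw := abs_le.1 (hW w List.mem_cons_self)
    have ih := signCount_spec B P W bs (by simpa using hl) fun y hy => hW y (List.mem_cons_of_mem _ hy)
    cases b
    · simp only [biased, List.map_cons, List.zip_cons_cons, List.filterMap_cons, cond_false, octHalf,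
        List.map_map, List.count_cons_of_ne (show false ≠ true by decide)]
      refine (ih p a).trans (congrArg List.sum (List.map_congr_left fun h _ => ?_))
      simp [dotL_cons]
    · simp only [biased, List.map_cons, List.zip_cons_cons, List.filterMap_cons, cond_true, octHalf,
        List.map_append, List.sum_append, List.map_map, List.count_cons_self]
      show signCount (2 * B) P _ p (a + (w + B).toNat) +
        signCount (2 * B) P _ (Bool.rec true false p) (a + 2 * B - (w + B).toNat) = _
      refine congrArg₂ (· + ·) ((ih p _).trans ?_) ?_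
      · refine congrArg List.sum (List.map_congr_left fun h _ => ?_)
        simp only [Function.comp_apply, dotL_cons]
        congr 2
        push_cast [Int.toNat_of_nonneg (show (0 : ℤ) ≤ w + B by omega)]
        ring
      · rw [show (Bool.rec true false p : Bool) = !p by cases p <;> rfl]
        refine (ih _ _).trans (congrArg List.sum (List.map_congr_left fun h _ => ?_))
        simp only [Function.comp_apply, dotL_cons]
        congr 2
        rw [Nat.cast_sub (by omega)]
        push_cast [Int.toNat_of_nonneg (show (0 : ℤ) ≤ w + B by omega)]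
        ring

theorem threeLoop_spec (B : ℕ) (P : ℕ → ℕ) : ∀ (ss W : List ℤ), ss.length = W.length →
    (∀ v ∈ List.zipWith (· * ·) ss W, |v| ≤ (B : ℤ)) → ∀ a : ℕ,
    threeLoop (4 * B) P (biased B (List.zipWith (· * ·) ss W)) a =
      ((threeVecs ss).map fun v => P ((a : ℤ) + dotL v W - dotL ss W).toNat).sum
  | [], [], _, _, a => by simp [biased, threeVecs, threeLoop]
  | [], _ :: _, hl, _, _ => by simp at hl
  | _ :: _, [], hl, _, _ => by simp at hl
  | s :: ss, w :: W, hl, hW, a => by
    have hv := abs_le.1 (hW (s * w) List.mem_cons_self)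
    have ih := threeLoop_spec B P ss W (by simpa using hl)
      (fun v hv => hW v (List.mem_cons_of_mem _ hv)) a
    show P (a + 4 * B - 4 * (s * w + B).toNat) + threeLoop (4 * B) P _ a = _
    simp only [threeVecs, List.map_cons, List.sum_cons, List.map_map]
    refine congrArg₂ (· + ·) ?_ (ih.trans (congrArg List.sum (List.map_congr_left fun v _ => ?_)))
    · congr 1
      rw [dotL_cons, dotL_cons]
      have := Int.toNat_of_nonneg (show (0 : ℤ) ≤ s * w + B by omega)
      have e : (a : ℤ) + (-3 * s * w + dotL ss W) - (s * w + dotL ss W) = a - 4 * (s * w) := by ring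
      rw [e]
      omega
    · simp only [Function.comp_apply, dotL_cons]
      congr 2
      ring

theorem fourLoop_spec (B : ℕ) (Q : ℕ → ℕ) : ∀ (W : List ℤ), (∀ w ∈ W, |w| ≤ (B : ℤ)) →
    ∀ k a : ℕ, 4 * B * k ≤ a → fourLoop (4 * B) Q (biased B W) k a =
      ((fourQuarter W.length k).map fun h => Q ((a : ℤ) + 4 * dotL h W).toNat).sum
  | [], _, k, a, _ => by
    rcases Nat.eq_zero_or_pos k with rfl | hk
    · simp [biased, fourLoop, fourQuarter, dotL]
    · obtain ⟨j, rfl⟩ : ∃ j, k = j + 1 := ⟨k - 1, by omega⟩
      simp [biased, fourLoop, fourQuarter]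
      rfl
  | w :: W, hW, k, a, hka => by
    have hw := abs_le.1 (hW w List.mem_cons_self)
    have ih := fourLoop_spec B Q W fun y hy => hW y (List.mem_cons_of_mem _ hy)
    have e := Int.toNat_of_nonneg (show (0 : ℤ) ≤ w + B by omega)
    show fourLoop (4 * B) Q (biased B W) k a + Bool.rec
      (fourLoop (4 * B) Q (biased B W) (k - 1) (a + 4 * (w + B).toNat - 4 * B) +
        fourLoop (4 * B) Q (biased B W) (k - 1) (a + 4 * B - 4 * (w + B).toNat)) 0 (Nat.beq k 0) = _
    simp only [List.length_cons, fourQuarter, List.map_append, List.sum_append, List.map_map]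
    refine congrArg₂ (· + ·) ((ih k a hka).trans ?_) ?_
    · exact congrArg List.sum (List.map_congr_left fun h _ => by simp [dotL_cons])
    · rcases Nat.eq_zero_or_pos k with rfl | hk
      · simp
      · rw [show Nat.beq k 0 = false by cases k <;> [omega; rfl], show (k == 0) = false by simp; omega]
        simp only [cond_false, List.map_append, List.sum_append, List.map_map]
        have hb : 4 * B * (k - 1) + 4 * B ≤ a := by
          obtain ⟨j, rfl⟩ : ∃ j, k = j + 1 := ⟨k - 1, by omega⟩
          simpa [Nat.mul_add] using hka
        refine congrArg₂ (· + ·) ((ih _ _ (by omega)).trans ?_) ((ih _ _ (by omega)).trans ?_) <;>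
        · refine congrArg List.sum (List.map_congr_left fun h _ => ?_)
          simp only [Function.comp_apply, dotL_cons]
          congr 2
          omega

theorem zipWith_sign (B : ℕ) : ∀ (W : List ℤ) (bs : List Bool), (∀ w ∈ W, |w| ≤ (B : ℤ)) →
    List.zipWith (fun w b => bif b then 2 * B - w else w) (biased B W) bs =
        biased B (List.zipWith (· * ·) (bs.map sgnOf) W) ∧
      ∀ v ∈ List.zipWith (· * ·) (bs.map sgnOf) W, |v| ≤ (B : ℤ)
  | [], bs, _ => by simp [biased]
  | _ :: _, [], _ => by simp [biased]
  | w :: W, b :: bs, hW => by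
    obtain ⟨h1, h2⟩ := zipWith_sign B W bs fun y hy => hW y (List.mem_cons_of_mem _ hy)
    have hw := hW w List.mem_cons_self
    constructor
    · simp only [biased, List.map_cons, List.zipWith_cons_cons] at h1 ⊢
      rw [h1]
      congr 1
      cases b
      · simp [sgnOf]
      · simp only [sgnOf, cond_true]
        rw [abs_le] at hw
        omega
    · intro v hv
      simp only [List.map_cons, List.zipWith_cons_cons, List.mem_cons] at hv
      rcases hv with rfl | hv
      · cases b <;> simp [sgnOf, hw]
      · exact h2 v hv

theorem sum_biased (B : ℕ) : ∀ W : List ℤ, (∀ w ∈ W, |w| ≤ (B : ℤ)) →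
    ((biased B W).sum : ℤ) = W.sum + W.length * B
  | [], _ => by simp [biased]
  | w :: W, hW => by
    have hw := abs_le.1 (hW w List.mem_cons_self)
    have ih := sum_biased B W fun y hy => hW y (List.mem_cons_of_mem _ hy)
    simp only [biased, List.map_cons, List.sum_cons, List.length_cons] at ih ⊢
    push_cast [Int.toNat_of_nonneg (show (0 : ℤ) ≤ w + B by omega), ih]
    ring

theorem sum_flatMap_map {α β : Type*} (L : List α) (g : α → List β) (f : β → ℕ) :
    ((L.flatMap g).map f).sum = (L.map fun n => ((g n).map f).sum).sum := by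
  induction L with
  | nil => rfl
  | cons n L ih => simp [List.flatMap_cons, ih]

set_option maxRecDepth 20000 in
/-- The counting programme computes sums over the list of minimal vectors. -/
theorem minCount_spec {B : ℕ} {W : List ℤ} (hl : W.length = 24) (hW : ∀ w ∈ W, |w| ≤ (B : ℤ))
    (Q : ℕ → ℕ) :
    minCount B (biased B W) Q =
      (minList.map fun v => Q (32 * (B : ℤ) + dotL v W).toNat).sum := by
  simp only [minCount, minList, Nat.add_eq, Nat.mul_eq, List.map_append, List.sum_append, sum_flatMap_map, List.map_map]
  rw [sumList_eq, sumSpan_eq]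
  refine congrArg₂ (· + ·) (congrArg₂ (· + ·) ?_ ?_) ?_
  · refine (fourLoop_spec B Q W hW 2 (32 * B) (by omega)).trans ?_
    rw [hl]
    exact congrArg List.sum (List.map_congr_left fun h _ => by
      simp only [Function.comp_apply, dotL_map_mul]; push_cast; rfl)
  · refine congrArg List.sum (List.map_congr_left fun n hn => ?_)
    have h8 : (bitsOf 24 n).count true = 8 := by
      rw [← octLit_check, List.mem_filter, popR_eq] at hn
      exact Nat.eq_of_beq_eq_true hn.2
    simp only [Function.comp_apply, withPicked_eq, show (biased B W).length = 24 by simp [biased, hl],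
      List.map_map]
    refine (signCount_spec B _ W (bitsOf 24 n) (by simp [hl, bitsOf_eq]) hW false (8 * B)).trans
      (congrArg List.sum (List.map_congr_left fun h _ => ?_))
    simp only [Function.comp_apply, dotL_map_mul, h8]
    congr 1
    omega
  · refine congrArg List.sum (List.map_congr_left fun n _ => ?_)
    simp only [Function.comp_apply, withSigned_eq, show (biased B W).length = 24 by simp [biased, hl],
      sumCont_eq]
    obtain ⟨he, hb⟩ := zipWith_sign B W (bitsOf 24 n) hW
    show threeLoop (4 * B) Q (List.zipWith (fun w b => bif b then 2 * B - w else w) _ _) _ = _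
    rw [he, threeLoop_spec B Q _ W (by simp [bitsOf_eq, hl]) hb]
    refine congrArg List.sum (List.map_congr_left fun v _ => ?_)
    congr 2
    rw [Nat.cast_add, sum_biased B _ hb,
      show (List.zipWith (· * ·) ((bitsOf 24 n).map sgnOf) W).length = 24 by simp [bitsOf_eq, hl]]
    show ((8 * B : ℕ) : ℤ) + (dotL ((bitsOf 24 n).map sgnOf) W + (24 : ℕ) * B) + dotL v W - _ = _
    push_cast
    ring

theorem sum_map_one {α : Type*} (L : List α) : (L.map fun _ => (1 : ℕ)).sum = L.length := by
  induction L <;> simp [*, add_comm]

theorem minCount_all : minCount 1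
    [1, 1, 1, 1, 1, 1, 1, 1, 1, 1, 1, 1, 1, 1, 1, 1, 1, 1, 1, 1, 1, 1, 1, 1] (fun _ => 1) = 196560 := by
  decide +kernel

theorem biased_zero : biased 1 (List.replicate 24 0) =
    [1, 1, 1, 1, 1, 1, 1, 1, 1, 1, 1, 1, 1, 1, 1, 1, 1, 1, 1, 1, 1, 1, 1, 1] := by
  decide

theorem abs_replicate_zero : ∀ w ∈ List.replicate 24 (0 : ℤ), |w| ≤ ((1 : ℕ) : ℤ) := by
  intro w hw
  rw [List.eq_of_mem_replicate hw]
  norm_num

theorem length_minList : minList.length = 196560 :=
  (sum_map_one minList).symm.trans
    (((minCount_spec (B := 1) (W := List.replicate 24 0) List.length_replicate abs_replicate_zero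
      fun _ => 1).symm.trans (congrArg (fun W => minCount 1 W fun _ => 1) biased_zero)).trans
      minCount_all)

theorem minList_spec : (minList.map toVec).Nodup ∧
    {x | x ∈ leechLattice ∧ sqNorm x = 32} = {x | x ∈ minList.map toVec} := by
  classical
  have hfin := layer_finite 32
  have hsub : {x | x ∈ leechLattice ∧ sqNorm x = 32} ⊆
      ↑(minList.map toVec).toFinset := fun x hx => by
    simp only [List.coe_toFinset, Set.mem_ofPred_eq, List.mem_map]
    exact ⟨ofVec x, ofVec_mem_minList ⟨x, hx.1⟩ hx.2, toVec_ofVec x⟩
  have hcard : (minList.map toVec).toFinset.card ≤ 196560 := by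
    refine (List.toFinset_card_le _).trans ?_
    rw [List.length_map, length_minList]
  have h32 : {x : GolayPt → ℤ | x ∈ leechLattice ∧ sqNorm x = 32}.ncard = 196560 := ncard_layer_32
  have heq : {x | x ∈ leechLattice ∧ sqNorm x = 32} = ↑(minList.map toVec).toFinset :=
    Set.eq_of_subset_of_ncard_le hsub (by rw [h32, Set.ncard_coe_finset]; exact hcard)
      (Finset.finite_toSet _)
  refine ⟨?_, by rw [heq, List.coe_toFinset]⟩
  have h2 : (minList.map toVec).toFinset.card = (minList.map toVec).length := by
    rw [← Set.ncard_coe_finset, ← heq, h32, List.length_map, length_minList]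
  rw [List.card_toFinset] at h2
  rw [← (List.dedup_sublist _).eq_of_length h2]
  exact List.nodup_dedup _

theorem length_fourQuarter : ∀ (n k : ℕ), ∀ v ∈ fourQuarter n k, v.length = n
  | 0, k, v, h => by cases k <;> simp_all [fourQuarter]
  | n + 1, k, v, h => by
    have ih := length_fourQuarter n
    cases k <;> simp [fourQuarter] at h
    · obtain ⟨a, ha, rfl⟩ := h; simp [ih _ a ha]
    · rcases h with ⟨a, ha, rfl⟩ | ⟨a, ha, rfl⟩ | ⟨a, ha, rfl⟩ <;> simp [ih _ a ha]

theorem length_octHalf : ∀ (bs : List Bool) (p : Bool), ∀ v ∈ octHalf bs p, v.length = bs.length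
  | [], p, v, h => by cases p <;> simp_all [octHalf]
  | b :: bs, p, v, h => by
    have ih := length_octHalf bs
    cases b <;> simp [octHalf] at h
    · obtain ⟨a, ha, rfl⟩ := h; simp [ih _ a ha]
    · rcases h with ⟨a, ha, rfl⟩ | ⟨a, ha, rfl⟩ <;> simp [ih _ a ha]

theorem length_threeVecs : ∀ (ss : List ℤ), ∀ v ∈ threeVecs ss, v.length = ss.length
  | [], v, h => by simp [threeVecs] at h
  | s :: ss, v, h => by
    simp [threeVecs] at h
    rcases h with rfl | ⟨a, ha, rfl⟩
    · simp
    · simp [length_threeVecs ss a ha]

theorem minList_length_mem (v : List ℤ) (hv : v ∈ minList) : v.length = 24 := by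
  simp only [minList, List.mem_append, List.mem_flatMap, List.mem_map] at hv
  rcases hv with (⟨a, ha, rfl⟩ | ⟨n, -, a, ha, rfl⟩) | ⟨n, -, hv⟩
  · simp [length_fourQuarter _ _ a ha]
  · simp [length_octHalf _ _ a ha, bitsOf_eq]
  · simp [length_threeVecs _ v hv, bitsOf_eq]

theorem beq_false_of_ne {a b : ℕ} (h : a ≠ b) : Nat.beq a b = false := by
  cases hb : Nat.beq a b
  · rfl
  · exact absurd (Nat.eq_of_beq_eq_true hb) h

attribute [irreducible] minList

/-- Digits of base `2 ^ 20`. -/
def pack : List ℕ → ℕ
  | [] => 0
  | c :: cs => c + 1048576 * pack cs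

/-- The packed indicators of the targets. -/
noncomputable def tally (ts : List ℕ) : ℕ → ℕ :=
  List.rec (fun _ => 0) (fun t _ r A => Nat.add (Bool.rec 0 1 (Nat.beq A t)) (Nat.mul 1048576 (r A))) ts

theorem pack_inj : ∀ {a b : List ℕ}, a.length = b.length → (∀ x ∈ a, x < 1048576) →
    (∀ x ∈ b, x < 1048576) → pack a = pack b → a = b
  | [], [], _, _, _, _ => rfl
  | [], _ :: _, h, _, _, _ => by simp at h
  | _ :: _, [], h, _, _, _ => by simp at h
  | x :: a, y :: b, hl, ha, hb, h => by
    simp only [pack] at h
    have hx := ha x List.mem_cons_self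
    have hy := hb y List.mem_cons_self
    have e : x = y := by omega
    subst e
    rw [pack_inj (by simpa using hl) (fun z hz => ha z (List.mem_cons_of_mem _ hz))
      (fun z hz => hb z (List.mem_cons_of_mem _ hz)) (by omega)]

theorem sum_tally {B : ℕ} (d : List ℤ → ℤ) (L : List (List ℤ)) :
    ∀ ts : List ℤ, (∀ t ∈ ts, 0 < 32 * (B : ℤ) + t) →
      (L.map fun v => tally (ts.map fun t => (32 * (B : ℤ) + t).toNat) (32 * (B : ℤ) + d v).toNat).sum =
        pack (ts.map fun t => L.countP fun v => decide (d v = t))
  | [], _ => by simp [tally, pack]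
  | t :: ts, ht => by
    have h0 := ht t List.mem_cons_self
    have ih := sum_tally d L ts fun s hs => ht s (List.mem_cons_of_mem _ hs)
    simp only [List.map_cons, pack, ← ih]
    clear ih
    induction L with
    | nil => rfl
    | cons v L ihL =>
      rw [List.map_cons, List.sum_cons, ihL, List.countP_cons, List.map_cons, List.sum_cons]
      show Nat.add (Bool.rec 0 1 (Nat.beq _ _)) _ + _ = _
      by_cases hv : d v = t
      · simp [hv, Nat.beq_refl,
          tally]
        omega
      · simp [hv, beq_false_of_ne
          (show (32 * (B : ℤ) + d v).toNat ≠ (32 * (B : ℤ) + t).toNat by omega), tally]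
        omega

theorem ncard_dot_eq (W : List ℤ) (hl : W.length = 24) (t : ℤ) :
    {x : GolayPt → ℤ | x ∈ leechLattice ∧ sqNorm x = 32 ∧ dotInt (toVec W) x = t}.ncard =
      minList.countP fun v => decide (dotL v W = t) := by
  classical
  obtain ⟨hnd, hset⟩ := minList_spec
  have hlen : ∀ v ∈ minList, v.length = 24 := minList_length_mem
  have e : {x : GolayPt → ℤ | x ∈ leechLattice ∧ sqNorm x = 32 ∧ dotInt (toVec W) x = t} =
      ↑((minList.filter fun v => decide (dotL v W = t)).map toVec).toFinset := by
    ext x
    have hx : x ∈ leechLattice ∧ sqNorm x = 32 ↔ x ∈ minList.map toVec := by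
      exact Set.ext_iff.1 hset x
    simp only [Set.mem_ofPred_eq, List.coe_toFinset, List.mem_map, List.mem_filter, ← and_assoc, hx,
      decide_eq_true_eq]
    constructor
    · rintro ⟨⟨v, hv, rfl⟩, hd⟩
      rw [dotInt_toVec hl (hlen v hv), dotL_comm] at hd
      exact ⟨v, ⟨hv, hd⟩, rfl⟩
    · rintro ⟨v, ⟨hv, hd⟩, rfl⟩
      exact ⟨⟨v, hv, rfl⟩, by rw [dotInt_toVec hl (hlen v hv), dotL_comm, hd]⟩
  rw [e, Set.ncard_coe_finset, List.toFinset_card_of_nodup (hnd.sublist (List.filter_sublist.map _)),
    List.length_map, List.countP_eq_length_filter]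

/-- Numbers of minimal vectors with prescribed inner products with a fixed vector. -/
theorem ncard_dots {B : ℕ} {W : List ℤ} {Wb : List ℕ} (hWb : biased B W = Wb) (hl : W.length = 24)
    (hW : ∀ w ∈ W, |w| ≤ (B : ℤ)) (ts : List ℤ) (ht : ∀ t ∈ ts, 0 < 32 * (B : ℤ) + t)
    {tb : List ℕ} (htb : (ts.map fun t => (32 * (B : ℤ) + t).toNat) = tb) (cs : List ℕ) (hcl : cs.length = ts.length) (hcs : ∀ c ∈ cs, c < 1048576)
    (h : minCount B Wb (tally tb) = pack cs) :
    ts.map (fun t =>
      {x : GolayPt → ℤ | x ∈ leechLattice ∧ sqNorm x = 32 ∧ dotInt (toVec W) x = t}.ncard) = cs := by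
  subst hWb htb
  simp only [ncard_dot_eq W hl]
  rw [minCount_spec hl hW, sum_tally (fun v => dotL v W) minList ts ht] at h
  refine pack_inj (by simp [hcl]) ?_ hcs h
  intro c hc
  obtain ⟨t, -, rfl⟩ := List.mem_map.1 hc
  exact lt_of_le_of_lt List.countP_le_length (by rw [length_minList]; norm_num)

end CfsgLib.Leech
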