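import Cfsg.Agent.Lib.Leech.Norm48
import Cfsg.Agent.Lib.Leech.MinVecs

/-!
Reduction of counting problems about minimal vectors to canonical representatives.
-/

set_option autoImplicit false

namespace CfsgLib.Leech

open Cfsg CfsgLib.Fischer2
open scoped Pointwise

/-- The canonical vector of squared length 48. -/
def base48 : leechLattice := baseP + baseB

/-- The entries of `baseP`. -/
def listP : List ℤ := 4 :: List.replicate 22 0 ++ [4]

/-- The entries of `base48`. -/
def list48 : List ℤ := 5 :: List.replicate 23 1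

theorem toVec_listP : toVec listP = coordVec baseP := by
  funext p; revert p; decide +kernel

theorem toVec_list48 : toVec list48 = coordVec base48 := by
  funext p; revert p; decide +kernel

theorem sqNorm_base48 : sqNorm (coordVec base48) = 48 := by
  rw [← toVec_list48]; decide +kernel

theorem ncard_mem_sep (P : (GolayPt → ℤ) → Prop) :
    {x : GolayPt → ℤ | x ∈ leechLattice ∧ P x}.ncard = {x : leechLattice | P (coordVec x)}.ncard := by
  rw [← Set.ncard_image_of_injective _ (Subtype.val_injective (p := fun x => x ∈ leechLattice))]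
  congr 1
  ext x
  simp only [Set.mem_image, Set.mem_ofPred_eq]
  exact ⟨fun h => ⟨⟨x, h.1⟩, h.2, rfl⟩, by rintro ⟨y, hy, rfl⟩; exact ⟨y.2, hy⟩⟩

theorem ncard_smul_sep (g : Co0) (P Q : leechLattice → Prop) (h : ∀ x, P x ↔ Q (g • x)) :
    {x | P x}.ncard = {x | Q x}.ncard := by
  rw [← Set.ncard_image_of_injective {x | P x} (MulAction.injective g)]
  congr 1
  ext y
  simp only [Set.mem_image, Set.mem_ofPred_eq]
  exact ⟨fun ⟨x, hx, e⟩ => e ▸ (h x).1 hx,
    fun hy => ⟨g⁻¹ • y, (h _).2 (by rwa [smul_inv_smul]), smul_inv_smul g y⟩⟩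

/-- Counting by inner product with `v` reduces to a vector in the same orbit. -/
theorem ncard_dot_orbit {v v' : leechLattice} {g : Co0} (hg : g • v = v') {W : List ℤ}
    (hW : toVec W = coordVec v') (t : ℤ) :
    {x : leechLattice | sqNorm (coordVec x) = 32 ∧ dotInt (coordVec v) (coordVec x) = t}.ncard =
      {x : GolayPt → ℤ | x ∈ leechLattice ∧ sqNorm x = 32 ∧ dotInt (toVec W) x = t}.ncard := by
  rw [ncard_mem_sep fun x => sqNorm x = 32 ∧ dotInt (toVec W) x = t]
  refine ncard_smul_sep g _ _ fun x => ?_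
  rw [sqNorm_smul', hW, ← hg]
  exact and_congr_right fun _ => by rw [show dotInt (coordVec (g • v)) (coordVec (g • x)) =
    dotInt (coordVec v) (coordVec x) from dotInt_smul g v x]

theorem ncard_dots_base32 {v : leechLattice} (hv : sqNorm (coordVec v) = 32) (ts : List ℤ)
    (ht : ∀ t ∈ ts, 0 < 32 * (4 : ℤ) + t) {tb : List ℕ}
    (htb : (ts.map fun t => (32 * (4 : ℤ) + t).toNat) = tb) (cs : List ℕ)
    (hcl : cs.length = ts.length) (hcs : ∀ c ∈ cs, c < 1048576)
    (h : minCount 4
      [8, 4, 4, 4, 4, 4, 4, 4, 4, 4, 4, 4, 4, 4, 4, 4, 4, 4, 4, 4, 4, 4, 4, 8]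
      (tally tb) = pack cs) :
    ts.map (fun t => {x : leechLattice | sqNorm (coordVec x) = 32 ∧
      dotInt (coordVec v) (coordVec x) = t}.ncard) = cs := by
  obtain ⟨g, hg⟩ := sameOrbit_norm32 hv ptP_ne_ptQ
  rw [List.map_congr_left fun t _ => ncard_dot_orbit (show g • v = baseP from hg) toVec_listP t]
  exact ncard_dots (B := 4) (by decide) (by decide) (by decide) ts ht htb cs hcl hcs h

theorem ncard_dots_base48 {u : leechLattice} (hu : sqNorm (coordVec u) = 48) (ts : List ℤ)
    (ht : ∀ t ∈ ts, 0 < 32 * (5 : ℤ) + t) {tb : List ℕ}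
    (htb : (ts.map fun t => (32 * (5 : ℤ) + t).toNat) = tb) (cs : List ℕ)
    (hcl : cs.length = ts.length) (hcs : ∀ c ∈ cs, c < 1048576)
    (h : minCount 5
      [10, 6, 6, 6, 6, 6, 6, 6, 6, 6, 6, 6, 6, 6, 6, 6, 6, 6, 6, 6, 6, 6, 6, 6]
      (tally tb) = pack cs) :
    ts.map (fun t => {x : leechLattice | sqNorm (coordVec x) = 32 ∧
      dotInt (coordVec u) (coordVec x) = t}.ncard) = cs := by
  obtain ⟨g, hg⟩ := transitive_norm48 hu sqNorm_base48
  rw [List.map_congr_left fun t _ => ncard_dot_orbit hg toVec_list48 t]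
  exact ncard_dots (B := 5) (by decide) (by decide) (by decide) ts ht htb cs hcl hcs h

end CfsgLib.Leech
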