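import Cfsg.Agent.Lib.Leech.Canon

/-!
Automorphisms of the lattice given by integer matrices, and kernel-checked lower bounds for the
orbits of the groups they generate.
-/

set_option autoImplicit false

namespace CfsgLib.Leech

open Cfsg Finset CfsgLib.Fischer2
open CfsgLib.Golay (idx pt idx_pt pt_idx idx_lt codeMasks basisMasks spanMasks inCode wordOf)
open scoped Pointwise

/-! ### Membership test -/

/-- The number with the given bits. -/
def maskOf : List Bool → ℕ
  | [] => 0
  | b :: bs => (bif b then 1 else 0) + 2 * maskOf bs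

theorem bitsOf_maskOf : ∀ bs : List Bool, bitsOf bs.length (maskOf bs) = bs
  | [] => rfl
  | b :: bs => by
    simp only [List.length_cons, bitsOf, maskOf]
    refine List.cons_eq_cons.2 ⟨?_, ?_⟩
    · cases b <;> simp [Nat.add_mul_mod_self_left] <;> rfl
    · rw [show ((bif b then 1 else 0) + 2 * maskOf bs) / 2 = maskOf bs by cases b <;> simp <;> omega]
      exact bitsOf_maskOf bs

/-- The two possible shapes of residues. -/
def resOk (m : ℤ) (L : List ℤ) : Bool :=
  L.all (fun a => decide (a % 2 = m)) && inCode (maskOf (L.map fun a => decide (a % 4 = m + 2))) &&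
    decide (L.sum % 8 = 4 * m)

/-- Membership test for a list. -/
def memTest (L : List ℤ) : Bool := decide (L.length = 24) && (resOk 0 L || resOk 1 L)

theorem sum_toVec {L : List ℤ} (hl : L.length = 24) : ∑ p, toVec L p = L.sum := by
  rw [sum_eq_sum_range]
  congr 1
  refine List.ext_getElem (by simp [hl]) fun i h1 h2 => ?_
  simp only [List.getElem_map, List.getElem_range, toVec]
  rw [idx_pt (by simpa using h1), List.getD_eq_getElem _ _ h2]

theorem toVec_mem {L : List ℤ} (h : memTest L = true) : toVec L ∈ leechLattice := by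
  simp only [memTest, Bool.and_eq_true, Bool.or_eq_true, decide_eq_true_eq] at h
  obtain ⟨hl, h⟩ := h
  have key : ∀ m : ℤ, (m = 0 ∨ m = 1) → resOk m L = true → toVec L ∈ leechLattice := by
    intro m hm hr
    simp only [resOk, Bool.and_eq_true, decide_eq_true_eq, List.all_eq_true] at hr
    obtain ⟨⟨hall, hin⟩, hsum⟩ := hr
    set bs := L.map fun a => decide (a % 4 = m + 2) with hbs
    refine mem_leechLattice_iff_residues.2 ⟨m, hm, wordOf (maskOf bs),
      CfsgLib.Golay.wordOf_mem_golayCode (CfsgLib.Golay.inCode_iff.1 hin), fun p => ?_, ?_⟩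
    · have hp : idx p < L.length := by rw [hl]; exact idx_lt p
      have h2 : (bitsOf 24 (maskOf bs))[idx p]'(by simp [bitsOf_eq, idx_lt]) =
          decide (L[idx p] % 4 = m + 2) := by
        have hb := bitsOf_maskOf bs
        simp only [hbs, List.length_map, hl] at hb ⊢
        simp [hb]
      rw [bit_eq] at h2
      have h3 := hall _ (List.getElem_mem hp)
      rw [toVec, List.getD_eq_getElem _ _ hp]
      by_cases hz : wordOf (maskOf bs) p = 0
      · simp only [ne_eq, hz, not_true_eq_false, decide_false] at h2
        have h4 : ¬ L[idx p] % 4 = m + 2 := of_decide_eq_false h2.symm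
        simp only [bitVec, hz, if_true]
        omega
      · simp only [ne_eq, hz, not_false_eq_true, decide_true] at h2
        have h4 : L[idx p] % 4 = m + 2 := of_decide_eq_true h2.symm
        simp only [bitVec, hz, if_false]
        omega
    · rw [sum_toVec hl]
      show _ % 8 = _ % 8
      omega
  rcases h with h | h
  · exact key 0 (Or.inl rfl) h
  · exact key 1 (Or.inr rfl) h

/-- The lattice vector of a list. -/
def ofList (L : List ℤ) (h : memTest L = true) : leechLattice := ⟨toVec L, toVec_mem h⟩

theorem coordVec_ofList (L : List ℤ) (h : memTest L = true) : coordVec (ofList L h) = toVec L := rfl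

/-! ### Generators of the lattice -/

/-- The odd generator. -/
def oddGen : List ℤ := List.replicate 23 1 ++ [5]

/-- Twice a code word. -/
def codeGen (n : ℕ) : List ℤ := (bitsOf 24 n).map fun b => bif b then 2 else 0

/-- Four at two points. -/
def fourGen (k : ℕ) : List ℤ :=
  (List.range 24).map fun i => (if i = k then 4 else 0) + (if i = 23 then 4 else 0)

/-- A generating list. -/
def gensList : List (List ℤ) := oddGen :: basisMasks.map codeGen ++ (List.range 24).map fourGen

theorem toVec_codeGen (n : ℕ) : toVec (codeGen n) = fun p => 2 * bitVec (wordOf n) p := by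
  funext p
  rw [toVec, codeGen, List.getD_eq_getElem _ _ (by simp [bitsOf_eq, idx_lt]), List.getElem_map, bit_eq]
  by_cases h : wordOf n p = 0 <;> simp [bitVec, h]

theorem toVec_fourGen {k : ℕ} (hk : k < 24) :
    toVec (fourGen k) = fun p => 4 * ((if p = pt k then 1 else 0) + (if p = none then 1 else 0)) := by
  funext p
  rw [toVec, fourGen, List.getD_eq_getElem _ _ (by simp [idx_lt]), List.getElem_map, List.getElem_range]
  have e1 : idx p = k ↔ p = pt k :=
    ⟨fun h => by rw [← h, pt_idx], fun h => by rw [h, idx_pt hk]⟩
  have e2 : idx p = 23 ↔ p = none :=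
    ⟨fun h => by rw [← pt_idx p, h]; rfl, fun h => by rw [h]; rfl⟩
  simp only [e1, e2]
  split_ifs <;> rfl

theorem toVec_oddGen : toVec oddGen = fun p => 1 + 4 * (if p = none then 1 else 0) := by
  funext p; revert p; decide +kernel

/-- The subgroup spanned by the generating list. -/
def gensSpan : AddSubgroup (GolayPt → ℤ) :=
  AddSubgroup.closure {x | ∃ g ∈ gensList, x = toVec g}

theorem mem_gensSpan {x : GolayPt → ℤ} (hx : x ∈ leechLattice) : x ∈ gensSpan := by
  classical
  have hgen : ∀ g ∈ gensList, toVec g ∈ gensSpan := fun g hg =>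
    AddSubgroup.subset_closure ⟨g, hg, rfl⟩
  have hG : ∀ k < 24,
      (fun p => 4 * ((if p = pt k then (1 : ℤ) else 0) + (if p = none then 1 else 0))) ∈ gensSpan :=
    fun k hk => toVec_fourGen hk ▸ hgen _ (List.mem_append_right _
      (List.mem_map_of_mem (List.mem_range.2 hk)))
  have hfour : ∀ z : GolayPt → ℤ, (2 : ℤ) ∣ ∑ p, z p → (fun p => 4 * z p) ∈ gensSpan := by
    intro z hz
    obtain ⟨t, ht⟩ := hz
    have e : (fun p => 4 * z p) = ∑ q, z q •
        (fun p => 4 * ((if p = pt (idx q) then (1 : ℤ) else 0) + (if p = none then 1 else 0))) +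
        (-t) • (fun p => 4 * ((if p = pt 23 then (1 : ℤ) else 0) + (if p = none then 1 else 0))) := by
      funext p
      simp only [Pi.add_apply, Finset.sum_apply, Pi.smul_apply, smul_eq_mul, pt_idx,
        show pt 23 = none from rfl, mul_add, Finset.sum_add_distrib, mul_ite, mul_one, mul_zero,
        Finset.sum_ite_eq, Finset.mem_univ, if_true]
      by_cases hp : p = none
      · simp only [hp, if_true, ← Finset.sum_mul, ht]; ring
      · simp only [hp, if_false, Finset.sum_const_zero]; ring
    rw [e]
    exact gensSpan.add_mem (gensSpan.sum_mem fun q _ => gensSpan.zsmul_mem (hG _ (idx_lt q)) _)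
      (gensSpan.zsmul_mem (hG 23 (by norm_num)) _)
  have hcode : ∀ n ∈ spanMasks basisMasks,
      (fun p => 2 * bitVec (wordOf n) p) ∈ gensSpan ∧ wordOf n ∈ golayCode := by
    intro n hn
    refine CfsgLib.Golay.spanMasks_induction
      (P := fun w => (fun p => 2 * bitVec w p) ∈ gensSpan ∧ w ∈ golayCode) ?_ ?_ ?_ hn
    · refine ⟨?_, golayCode.zero_mem⟩
      rw [show (fun p => 2 * bitVec (0 : GolayPt → ZMod 2) p) = (0 : GolayPt → ℤ) by
        funext p; simp [bitVec]]
      exact gensSpan.zero_mem
    · rintro v w ⟨hv, hvc⟩ ⟨hw, hwc⟩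
      refine ⟨?_, golayCode.add_mem hvc hwc⟩
      rw [show (fun p => 2 * bitVec (v + w) p) = (fun p => 2 * bitVec v p) + (fun p => 2 * bitVec w p) +
          (fun p => 4 * -(bitVec v p * bitVec w p)) by
        funext p
        simp only [Pi.add_apply, bitVec]
        rcases zmod2_cases (v p) with a | a <;> rcases zmod2_cases (w p) with b | b <;>
          simp [a, b, show (1 : ZMod 2) + 1 = 0 by decide]]
      refine gensSpan.add_mem (gensSpan.add_mem hv hw) (hfour _ ?_)
      rw [Finset.sum_neg_distrib, dvd_neg]
      exact even_sum_bitVec_mul hvc hwc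
    · intro b hb
      refine ⟨toVec_codeGen b ▸ hgen _ (List.mem_append_left _
        (List.mem_cons_of_mem _ (List.mem_map_of_mem hb))), ?_⟩
      exact CfsgLib.Golay.wordOf_mem_golayCode (CfsgLib.Golay.mem_spanMasks_self hb)
  obtain ⟨m, -, c, hc, z, rfl, hz⟩ := mem_leechLattice_iff.1 hx
  obtain ⟨n, hn, rfl⟩ := CfsgLib.Golay.mem_golayCode_iff.1 hc
  have e : mkVec m (wordOf n) z = m • toVec oddGen + (fun p => 2 * bitVec (wordOf n) p) +
      (fun p => 4 * (z p - m * (if p = none then 1 else 0))) := by
    funext p
    simp only [toVec_oddGen, mkVec, Pi.add_apply, Pi.smul_apply, smul_eq_mul]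
    ring
  rw [e]
  refine gensSpan.add_mem (gensSpan.add_mem (gensSpan.zsmul_mem (hgen _ (List.mem_append_left _
    List.mem_cons_self)) _) (hcode n hn).1) (hfour _ ?_)
  simp only [Finset.sum_sub_distrib, mul_ite, mul_one, mul_zero, Finset.sum_ite_eq', Finset.mem_univ,
    if_true]
  exact hz

/-! ### Automorphisms from matrices -/

/-- The image of a vector under a matrix, times eight. -/
def matApply (M : List (List ℤ)) (x : GolayPt → ℤ) : GolayPt → ℤ :=
  fun p => dotInt (toVec (M.getD (idx p) [])) x

/-- The image under the matrix divided by eight. -/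
def matAct (M : List (List ℤ)) (x : GolayPt → ℤ) : GolayPt → ℤ := fun p => matApply M x p / 8

/-- The image of a list under a matrix. -/
def applyM (M : List (List ℤ)) (L : List ℤ) : List ℤ := M.map fun r => dotL r L

/-- A column of a matrix. -/
def colAt (M : List (List ℤ)) (q : ℕ) : List ℤ := M.map fun r => r.getD q 0

/-- The check that a matrix gives an automorphism. -/
def matOk (M : List (List ℤ)) : Bool :=
  decide (M.length = 24) && M.all (fun r => decide (r.length = 24)) &&
  gensList.all (fun g => (applyM M g).all (fun a => decide (a % 8 = 0)) &&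
    memTest ((applyM M g).map (· / 8))) &&
  ((List.range 24).all fun q => (List.range 24).all fun r =>
    decide (dotL (colAt M q) (colAt M r) = if q = r then 64 else 0))

theorem length_gensList_mem {g : List ℤ} (hg : g ∈ gensList) : g.length = 24 := by
  simp only [gensList, List.cons_append, List.mem_cons, List.mem_append, List.mem_map] at hg
  rcases hg with rfl | ⟨a, -, rfl⟩ | ⟨a, -, rfl⟩ <;> simp [oddGen, codeGen, fourGen, bitsOf_eq]

theorem matApply_add (M : List (List ℤ)) (x y : GolayPt → ℤ) :
    matApply M (x + y) = matApply M x + matApply M y := funext fun _ => dotInt_add_right _ x y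

theorem matApply_zero (M : List (List ℤ)) : matApply M 0 = 0 :=
  funext fun _ => by simp [matApply, dotInt]

theorem matApply_neg (M : List (List ℤ)) (x : GolayPt → ℤ) : matApply M (-x) = -matApply M x :=
  funext fun _ => dotInt_neg_right _ x

theorem matApply_toVec {M : List (List ℤ)} (hM : M.length = 24) (hr : ∀ r ∈ M, r.length = 24)
    {g : List ℤ} (hg : g.length = 24) : matApply M (toVec g) = toVec (applyM M g) := by
  funext p
  have hp : idx p < M.length := by rw [hM]; exact idx_lt p
  show dotInt (toVec (M.getD (idx p) [])) (toVec g) = _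
  rw [List.getD_eq_getElem _ _ hp, dotInt_toVec (hr _ (List.getElem_mem hp)) hg, toVec,
    List.getD_eq_getElem _ _ (by simpa [applyM] using hp)]
  simp [applyM]

theorem matAct_props {M : List (List ℤ)} (h : matOk M = true) {x : GolayPt → ℤ}
    (hx : x ∈ leechLattice) : (∀ p, (8 : ℤ) ∣ matApply M x p) ∧ matAct M x ∈ leechLattice := by
  simp only [matOk, Bool.and_eq_true, List.all_eq_true, decide_eq_true_eq] at h
  obtain ⟨⟨⟨hM, hr⟩, hg⟩, -⟩ := h
  suffices key : ∀ y ∈ gensSpan, (∀ p, (8 : ℤ) ∣ matApply M y p) ∧ matAct M y ∈ leechLattice from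
    key x (mem_gensSpan hx)
  intro y hy
  induction hy using AddSubgroup.closure_induction with
  | mem y hy =>
    obtain ⟨g, hgm, rfl⟩ := hy
    have hl := length_gensList_mem hgm
    obtain ⟨hdiv, hmem⟩ := hg g hgm
    rw [matApply_toVec hM hr hl]
    have hlen : (applyM M g).length = 24 := by simp [applyM, hM]
    refine ⟨fun p => ?_, ?_⟩
    · have hp : idx p < (applyM M g).length := by rw [hlen]; exact idx_lt p
      rw [toVec, List.getD_eq_getElem _ _ hp]
      exact Int.dvd_of_emod_eq_zero (hdiv _ (List.getElem_mem hp))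
    · have e : matAct M (toVec g) = toVec ((applyM M g).map (· / 8)) := by
        funext p
        have hp : idx p < (applyM M g).length := by rw [hlen]; exact idx_lt p
        rw [matAct, matApply_toVec hM hr hl, toVec, toVec, List.getD_eq_getElem _ _ hp,
          List.getD_eq_getElem _ _ (by simpa using hp), List.getElem_map]
      rw [e]; exact toVec_mem hmem
  | zero =>
    refine ⟨fun p => by simp [matApply_zero], ?_⟩
    rw [show matAct M 0 = 0 from funext fun p => by simp [matAct, matApply_zero]]
    exact leechLattice.zero_mem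
  | add a b _ _ ha hb =>
    obtain ⟨ha1, ha2⟩ := ha
    obtain ⟨hb1, hb2⟩ := hb
    refine ⟨fun p => by rw [matApply_add]; exact dvd_add (ha1 p) (hb1 p), ?_⟩
    rw [show matAct M (a + b) = matAct M a + matAct M b from funext fun p => by
      simp only [matAct, matApply_add, Pi.add_apply]
      exact Int.add_ediv_of_dvd_left (ha1 p)]
    exact leechLattice.add_mem ha2 hb2
  | neg a _ ha =>
    obtain ⟨ha1, ha2⟩ := ha
    refine ⟨fun p => by rw [matApply_neg]; exact dvd_neg.2 (ha1 p), ?_⟩
    rw [show matAct M (-a) = -matAct M a from funext fun p => by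
      simp only [matAct, matApply_neg, Pi.neg_apply]
      exact Int.neg_ediv_of_dvd (ha1 p)]
    exact leechLattice.neg_mem ha2

theorem matAct_add {M : List (List ℤ)} (h : matOk M = true) {x y : GolayPt → ℤ}
    (hx : x ∈ leechLattice) : matAct M (x + y) = matAct M x + matAct M y := funext fun p => by
  simp only [matAct, matApply_add, Pi.add_apply]
  exact Int.add_ediv_of_dvd_left ((matAct_props h hx).1 p)

theorem dot_matApply {M : List (List ℤ)} (h : matOk M = true) (x y : GolayPt → ℤ) :
    dotInt (matApply M x) (matApply M y) = 64 * dotInt x y := by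
  simp only [matOk, Bool.and_eq_true, List.all_eq_true, decide_eq_true_eq] at h
  obtain ⟨⟨⟨hM, -⟩, -⟩, hcol⟩ := h
  have hrow : ∀ p, ∀ q, toVec (M.getD (idx p) []) q = toVec (colAt M (idx q)) p := by
    intro p q
    have hp : idx p < M.length := by rw [hM]; exact idx_lt p
    have e : (colAt M (idx q)).getD (idx p) 0 = M[idx p].getD (idx q) 0 := by
      rw [List.getD_eq_getElem _ _ (by simpa [colAt] using hp)]
      simp [colAt]
    simp only [toVec]
    rw [e, List.getD_eq_getElem M [] hp]
  have horth : ∀ q r, dotInt (toVec (colAt M (idx q))) (toVec (colAt M (idx r))) =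
      if q = r then 64 else 0 := fun q r => by
    rw [dotInt_toVec (by simp [colAt, hM]) (by simp [colAt, hM]),
      hcol (idx q) (List.mem_range.2 (idx_lt q)) (idx r) (List.mem_range.2 (idx_lt r))]
    exact if_congr (CfsgLib.Golay.idx_injective.eq_iff) rfl rfl
  calc dotInt (matApply M x) (matApply M y)
      = ∑ p, (∑ q, toVec (colAt M (idx q)) p * x q) * ∑ r, toVec (colAt M (idx r)) p * y r := by
        simp only [dotInt, matApply, hrow]
    _ = ∑ q, ∑ r, x q * y r * dotInt (toVec (colAt M (idx q))) (toVec (colAt M (idx r))) := by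
        rw [Finset.sum_congr rfl fun p _ => Finset.sum_mul_sum _ _ _ _, Finset.sum_comm]
        simp only [dotInt, Finset.mul_sum]
        refine Finset.sum_congr rfl fun q _ => ?_
        rw [Finset.sum_comm]
        exact Finset.sum_congr rfl fun r _ => Finset.sum_congr rfl fun p _ => by ring
    _ = _ := by
        simp only [horth, mul_ite, mul_zero, Finset.sum_ite_eq, Finset.mem_univ, if_true]
        rw [dotInt, Finset.mul_sum]
        exact Finset.sum_congr rfl fun q _ => by ring

theorem dotInt_mul_mul (c : ℤ) (x y : GolayPt → ℤ) :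
    dotInt (fun p => c * x p) (fun p => c * y p) = c * c * dotInt x y := by
  simp only [dotInt, Finset.mul_sum]
  exact Finset.sum_congr rfl fun p _ => by ring

theorem sqNorm_matAct {M : List (List ℤ)} (h : matOk M = true) {x : GolayPt → ℤ}
    (hx : x ∈ leechLattice) : sqNorm (matAct M x) = sqNorm x := by
  have h1 := dot_matApply h x x
  have e : matApply M x = fun p => 8 * matAct M x p :=
    funext fun p => (Int.mul_ediv_cancel' ((matAct_props h hx).1 p)).symm
  rw [e, dotInt_mul_mul, dotInt_self, dotInt_self] at h1
  omega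

/-- The map of the lattice given by a checked matrix. -/
def matMap (M : List (List ℤ)) (h : matOk M = true) (v : leechLattice) : leechLattice :=
  ⟨matAct M v, (matAct_props h v.2).2⟩

theorem matMap_bijective (M : List (List ℤ)) (h : matOk M = true) :
    Function.Bijective (matMap M h) := by
  have hinj : Function.Injective (matMap M h) := fun v w e => by
    have e' : matAct M (v : GolayPt → ℤ) = matAct M w := congrArg Subtype.val e
    have e2 : ((v : GolayPt → ℤ) - w) + w = v := sub_add_cancel _ _
    have := matAct_add (y := (w : GolayPt → ℤ)) h (leechLattice.sub_mem v.2 w.2)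
    rw [e2, e'] at this
    have hz : matAct M ((v : GolayPt → ℤ) - w) = 0 := by
      funext p; have := congrFun this p; simp only [Pi.add_apply] at this; simpa using this
    have hn := sqNorm_matAct h (leechLattice.sub_mem v.2 w.2)
    rw [hz, show sqNorm (0 : GolayPt → ℤ) = 0 from sqNorm_eq_zero_iff.2 rfl] at hn
    exact Subtype.ext (sub_eq_zero.1 (sqNorm_eq_zero_iff.1 hn.symm))
  refine ⟨hinj, fun w => ?_⟩
  let S := {v : leechLattice | sqNorm (coordVec v) = sqNorm (coordVec w)}
  have hfin : S.Finite := ((layer_finite (sqNorm (coordVec w))).preimage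
    Subtype.val_injective.injOn).subset fun v hv => ⟨v.2, hv⟩
  have hmaps : Set.MapsTo (matMap M h) S S := fun v hv => (sqNorm_matAct h v.2).trans hv
  obtain ⟨v, -, hv⟩ := ((Set.Finite.injOn_iff_bijOn_of_mapsTo hfin hmaps).1 hinj.injOn).surjOn
    (show w ∈ S from rfl)
  exact ⟨v, hv⟩

/-- The automorphism of the lattice given by a checked matrix. -/
noncomputable def matAut (M : List (List ℤ)) (h : matOk M = true) : Co0 :=
  toCo0 (Equiv.ofBijective (matMap M h) (matMap_bijective M h))
    (fun v w => Subtype.ext (matAct_add h v.2)) (fun v => sqNorm_matAct h v.2)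

theorem coordVec_matAut (M : List (List ℤ)) (h : matOk M = true) (v : leechLattice) :
    coordVec (matAut M h • v) = matAct M (coordVec v) := rfl

/-- The check that a matrix fixes a list. -/
def fixOk (M : List (List ℤ)) (L : List ℤ) : Bool :=
  decide (L.length = 24) && decide (applyM M L = L.map (8 * ·))

theorem matAut_fixes {M : List (List ℤ)} (h : matOk M = true) {L : List ℤ} (hf : fixOk M L = true)
    {v : leechLattice} (hv : toVec L = coordVec v) : matAut M h • v = v := by
  simp only [fixOk, Bool.and_eq_true, decide_eq_true_eq] at hf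
  obtain ⟨hl, ha⟩ := hf
  have hM := h
  simp only [matOk, Bool.and_eq_true, List.all_eq_true, decide_eq_true_eq] at hM
  apply Subtype.ext
  show matAct M (coordVec v) = coordVec v
  rw [← hv]
  funext p
  rw [matAct, matApply_toVec hM.1.1.1 hM.1.1.2 hl, ha, toVec, toVec,
    List.getD_eq_getElem _ _ (by simp [hl, idx_lt]), List.getD_eq_getElem _ _ (by simp [hl, idx_lt]),
    List.getElem_map]
  omega

/-- The elements fixing every vector of a list. -/
def fixGroup (F : List leechLattice) : Subgroup Co0 where
  carrier := {g | ∀ v ∈ F, g • v = v}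
  one_mem' := fun v _ => one_smul _ v
  mul_mem' := fun ha hb v hv => by rw [mul_smul, hb v hv, ha v hv]
  inv_mem' := fun ha v hv => by rw [inv_smul_eq_iff, ha v hv]

theorem mem_fixGroup {F : List leechLattice} {g : Co0} :
    g ∈ fixGroup F ↔ ∀ v ∈ F, g • v = v := Iff.rfl

end CfsgLib.Leech
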