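import Cfsg.Agent.Lib.Leech.Subdegrees

/-!
The 352 minimal vectors with inner products 16 and -24 against a Higman–Sims pair.
-/

set_option autoImplicit false

namespace CfsgLib.Leech

open Cfsg CfsgLib.Fischer2
open scoped Pointwise

theorem mem_dotSet_hs352 {v w x : leechLattice} :
    x ∈ dotSet2 v w 16 (-24) ↔ -x ∈ dotSet2 v (-(v + w)) (-16) (-8) := by
  simp only [dotSet2, Set.mem_ofPred_eq, coordVec, AddSubgroup.coe_neg, AddSubgroup.coe_add]
  have e : sqNorm (-(x : GolayPt → ℤ)) = sqNorm (x : GolayPt → ℤ) := by simp [sqNorm]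
  have e2 : dotInt (-((v : GolayPt → ℤ) + (w : GolayPt → ℤ))) (-(x : GolayPt → ℤ)) =
      dotInt (v : GolayPt → ℤ) (x : GolayPt → ℤ) + dotInt (w : GolayPt → ℤ) (x : GolayPt → ℤ) := by
    rw [dotInt_neg_right, dotInt_comm', dotInt_neg_right, neg_neg, dotInt_add_right,
      dotInt_comm', dotInt_comm' (x : GolayPt → ℤ)]
  rw [e, dotInt_neg_right, e2]
  constructor <;> rintro ⟨h1, h2, h3⟩ <;> exact ⟨h1, by omega, by omega⟩

/-- The Higman–Sims group permutes 352 vectors transitively. -/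
theorem hs352 {v w : leechLattice} (hv : sqNorm (coordVec v) = 48)
    (hw : sqNorm (coordVec w) = 48) (hvw : dotInt (coordVec v) (coordVec w) = -32) :
    (dotSet2 v w 16 (-24)).ncard = 352 ∧
      (∀ x ∈ dotSet2 v w 16 (-24), -w - x ∈ dotSet2 v w 16 (-24)) ∧
      ∀ x ∈ dotSet2 v w 16 (-24), ∀ x' ∈ dotSet2 v w 16 (-24),
        ∃ g : Co0, g • v = v ∧ g • w = w ∧ g • x = x' := by
  obtain ⟨g, h1, h2⟩ := exists_map_hs hv hw hvw
  have h3 : g • baseX = -(v + w) := by
    have : baseX = -(base48 + baseH) := by rw [baseH_eq]; abel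
    rw [this, smul_neg_co0, smul_add_co0, h1, h2]
  refine ⟨?_, ?_, ?_⟩
  · have := (ncard_dotSet2_smul h1 h3 (-16) (-8)).trans ncard_class352
    rw [← this]
    refine Set.ncard_congr (fun x _ => -x) (fun x hx => mem_dotSet_hs352.1 hx)
      (fun x y _ _ h => neg_injective h) fun y hy => ⟨-y, mem_dotSet_hs352.2 ?_, neg_neg y⟩
    rwa [neg_neg]
  · intro x hx
    simp only [dotSet2, Set.mem_ofPred_eq, coordVec] at hx ⊢
    have e : ((-w - x : leechLattice) : GolayPt → ℤ) =
        -((w : GolayPt → ℤ) + (x : GolayPt → ℤ)) := by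
      rw [AddSubgroup.coe_sub, AddSubgroup.coe_neg]; abel
    have en : ∀ z : GolayPt → ℤ, sqNorm (-z) = sqNorm z := fun z => by simp [sqNorm]
    have hn := sqNorm_add (w : GolayPt → ℤ) (x : GolayPt → ℤ)
    obtain ⟨hx1, hx2, hx3⟩ := hx
    simp only [coordVec] at hw hvw
    rw [e, en, dotInt_neg_right, dotInt_neg_right, dotInt_add_right, dotInt_add_right,
      dotInt_self, hw, hn, hx1, hx2, hx3, hvw]
    norm_num
    omega
  · intro x hx x' hx'
    obtain ⟨k, k1, k2, k3⟩ := transport2 h1 h3 transitive_class352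
      (mem_dotSet_hs352.1 hx) (mem_dotSet_hs352.1 hx')
    refine ⟨k, k1, ?_, by rw [smul_neg_co0] at k3; exact neg_injective k3⟩
    rw [smul_neg_co0, smul_add_co0, k1] at k2
    exact add_left_cancel (neg_injective k2)

end CfsgLib.Leech
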