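import Cfsg.Agent.Lib.Leech.Config
import Cfsg.Agent.Lib.Leech.Cert.Orb275
import Cfsg.Agent.Lib.Leech.Cert.Orb112
import Cfsg.Agent.Lib.Leech.Cert.Orb162
import Cfsg.Agent.Lib.Leech.Cert.Orb100
import Cfsg.Agent.Lib.Leech.Cert.Orb22
import Cfsg.Agent.Lib.Leech.Cert.Orb77
import Cfsg.Agent.Lib.Leech.Cert.Orb352
import Cfsg.Agent.Lib.Leech.Cert.Orb4125
import Cfsg.Agent.Lib.Leech.Cert.Orb5600
import Cfsg.Agent.Lib.Leech.Cert.Orb1100
import Cfsg.Agent.Lib.Leech.Cert.Orb2025
import Cfsg.Agent.Lib.Leech.Cert.Orb330
import Cfsg.Agent.Lib.Leech.Cert.Orb462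
import Cfsg.Agent.Lib.Leech.Cert.Orb1232

/-!
The minimal vectors with prescribed inner products with the standard configurations: numbers and
transitivity of the joint stabilisers.
-/

set_option autoImplicit false

namespace CfsgLib.Leech

open Cfsg CfsgLib.Fischer2

/-- A point of the configuration of 275 vectors. -/
def root275 : leechLattice := ofList Cert.Orb275.root Cert.Orb275.root_mem

/-- A point of the configuration of 100 vectors. -/
def root100 : leechLattice := ofList Cert.Orb100.root Cert.Orb100.root_mem

/-- A point of the configuration of 2025 vectors. -/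
def root2025 : leechLattice := ofList Cert.Orb2025.root Cert.Orb2025.root_mem

/-- The packed weights for the class of 275. -/
def weight275 : List ℤ :=
  [517, 1, 1, 1, 1, 1, 1, 1, 1, 1, 1, 1, 1, 1, 1, 1, 1, 1, 1, 1, 1, 1, 1, 513]

theorem toVec_weight275 : toVec weight275 = fun p => coordVec base48 p + 128 * coordVec baseP p := by
  rw [← toVec_list48, ← toVec_listP]
  funext p; revert p; decide +kernel

theorem ncard_class275 : (dotSet2 base48 baseP (24) (16)).ncard = 275 := by
  have h := ncard_dots (B := 1000) (W := weight275)
    (Wb := [1517, 1001, 1001, 1001, 1001, 1001, 1001, 1001, 1001, 1001, 1001, 1001, 1001, 1001, 1001, 1001, 1001, 1001, 1001, 1001, 1001, 1001, 1001, 1513])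
    (by decide +kernel) (by decide +kernel) (by decide +kernel) [2072] (by decide +kernel)
    (tb := [34072]) (by decide +kernel) [275] rfl (by decide +kernel) (by decide +kernel)
  simp only [List.map_cons, List.map_nil, List.cons.injEq, and_true] at h
  rw [dotSet2, ncard_two (by simp only [← toVec_list48]; decide +kernel) (by simp only [← toVec_listP]; decide +kernel) toVec_weight275 (24) (16) (by decide +kernel)]
  exact h

/-- The root of the class of 275. -/
def classRoot275 : leechLattice := ofList Cert.Orb275.root Cert.Orb275.root_mem

theorem classRoot275_mem : classRoot275 ∈ dotSet2 base48 baseP (24) (16) := by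
  simp only [dotSet2, Set.mem_ofPred_eq, classRoot275, coordVec_ofList, ← toVec_list48, ← toVec_listP]
  decide +kernel

/-- The certificate for the class of 275. -/
def cert275 : OrbitCert [base48, baseP] classRoot275 where
  M1 := Cert.matA1
  M2 := Cert.matA2
  D1 := Cert.dataA1
  D2 := Cert.dataA2
  ok1 := Cert.okA1
  ok2 := Cert.okA2
  data1 := Cert.dataOkA1
  data2 := Cert.dataOkA2
  fix1 := fix_two Cert.okA1 (by decide +kernel : fixOk Cert.matA1 list48 = true) toVec_list48 (by decide +kernel : fixOk Cert.matA1 listP = true) toVec_listP
  fix2 := fix_two Cert.okA2 (by decide +kernel : fixOk Cert.matA2 list48 = true) toVec_list48 (by decide +kernel : fixOk Cert.matA2 listP = true) toVec_listP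
  norm := classRoot275_mem.1
  k₀ := Cert.Orb275.k0
  hk₀ := by
    rw [key, classRoot275, coordVec_ofList]
    decide +kernel

theorem transitive_class275 : ∀ x ∈ dotSet2 base48 baseP (24) (16), ∀ x' ∈ dotSet2 base48 baseP (24) (16),
    ∃ k ∈ fixGroup [base48, baseP], k • x = x' :=
  trans2_of_cert cert275 Cert.Orb275.count ncard_class275 classRoot275_mem

/-- The packed weights for the class of 112. -/
def weight112 : List ℤ :=
  [66053, 65537, 1, 1, 1, 1, 1, 1, 1, 1, 1, 1, 1, 1, 1, 1, 1, 1, 1, 1, 1, 1, 1, 513]

theorem toVec_weight112 : toVec weight112 = fun p => coordVec base48 p + 128 * coordVec baseP p + 16384 * coordVec root275 p := by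
  rw [← toVec_list48, ← toVec_listP]
  funext p; revert p; decide +kernel

theorem ncard_class112 : (dotSet3 base48 baseP root275 (24) (16) (8)).ncard = 112 := by
  have h := ncard_dots (B := 100000) (W := weight112)
    (Wb := [166053, 165537, 100001, 100001, 100001, 100001, 100001, 100001, 100001, 100001, 100001, 100001, 100001, 100001, 100001, 100001, 100001, 100001, 100001, 100001, 100001, 100001, 100001, 100513])
    (by decide +kernel) (by decide +kernel) (by decide +kernel) [133144] (by decide +kernel)
    (tb := [3333144]) (by decide +kernel) [112] rfl (by decide +kernel) (by decide +kernel)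
  simp only [List.map_cons, List.map_nil, List.cons.injEq, and_true] at h
  rw [dotSet3, ncard_three (by simp only [← toVec_list48]; decide +kernel) (by simp only [← toVec_listP]; decide +kernel) (by simp only [root275, coordVec_ofList]; decide +kernel) toVec_weight112 (24) (16) (8) (by decide +kernel) (by decide +kernel)]
  exact h

/-- The root of the class of 112. -/
def classRoot112 : leechLattice := ofList Cert.Orb112.root Cert.Orb112.root_mem

theorem classRoot112_mem : classRoot112 ∈ dotSet3 base48 baseP root275 (24) (16) (8) := by
  simp only [dotSet3, Set.mem_ofPred_eq, classRoot112, coordVec_ofList, ← toVec_list48, ← toVec_listP, root275]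
  decide +kernel

/-- The certificate for the class of 112. -/
def cert112 : OrbitCert [base48, baseP, root275] classRoot112 where
  M1 := Cert.matB1
  M2 := Cert.matB2
  D1 := Cert.dataB1
  D2 := Cert.dataB2
  ok1 := Cert.okB1
  ok2 := Cert.okB2
  data1 := Cert.dataOkB1
  data2 := Cert.dataOkB2
  fix1 := fix_three Cert.okB1 (by decide +kernel : fixOk Cert.matB1 list48 = true) toVec_list48 (by decide +kernel : fixOk Cert.matB1 listP = true) toVec_listP (by decide +kernel : fixOk Cert.matB1 Cert.Orb275.root = true) rfl
  fix2 := fix_three Cert.okB2 (by decide +kernel : fixOk Cert.matB2 list48 = true) toVec_list48 (by decide +kernel : fixOk Cert.matB2 listP = true) toVec_listP (by decide +kernel : fixOk Cert.matB2 Cert.Orb275.root = true) rfl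
  norm := classRoot112_mem.1
  k₀ := Cert.Orb112.k0
  hk₀ := by
    rw [key, classRoot112, coordVec_ofList]
    decide +kernel

theorem transitive_class112 : ∀ x ∈ dotSet3 base48 baseP root275 (24) (16) (8), ∀ x' ∈ dotSet3 base48 baseP root275 (24) (16) (8),
    ∃ k ∈ fixGroup [base48, baseP, root275], k • x = x' :=
  trans3_of_cert cert112 Cert.Orb112.count ncard_class112 classRoot112_mem

/-- The packed weights for the class of 162. -/
def weight162 : List ℤ :=
  [66053, 65537, 1, 1, 1, 1, 1, 1, 1, 1, 1, 1, 1, 1, 1, 1, 1, 1, 1, 1, 1, 1, 1, 513]

theorem toVec_weight162 : toVec weight162 = fun p => coordVec base48 p + 128 * coordVec baseP p + 16384 * coordVec root275 p := by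
  rw [← toVec_list48, ← toVec_listP]
  funext p; revert p; decide +kernel

theorem ncard_class162 : (dotSet3 base48 baseP root275 (24) (16) (16)).ncard = 162 := by
  have h := ncard_dots (B := 100000) (W := weight162)
    (Wb := [166053, 165537, 100001, 100001, 100001, 100001, 100001, 100001, 100001, 100001, 100001, 100001, 100001, 100001, 100001, 100001, 100001, 100001, 100001, 100001, 100001, 100001, 100001, 100513])
    (by decide +kernel) (by decide +kernel) (by decide +kernel) [264216] (by decide +kernel)
    (tb := [3464216]) (by decide +kernel) [162] rfl (by decide +kernel) (by decide +kernel)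
  simp only [List.map_cons, List.map_nil, List.cons.injEq, and_true] at h
  rw [dotSet3, ncard_three (by simp only [← toVec_list48]; decide +kernel) (by simp only [← toVec_listP]; decide +kernel) (by simp only [root275, coordVec_ofList]; decide +kernel) toVec_weight162 (24) (16) (16) (by decide +kernel) (by decide +kernel)]
  exact h

/-- The root of the class of 162. -/
def classRoot162 : leechLattice := ofList Cert.Orb162.root Cert.Orb162.root_mem

theorem classRoot162_mem : classRoot162 ∈ dotSet3 base48 baseP root275 (24) (16) (16) := by
  simp only [dotSet3, Set.mem_ofPred_eq, classRoot162, coordVec_ofList, ← toVec_list48, ← toVec_listP, root275]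
  decide +kernel

/-- The certificate for the class of 162. -/
def cert162 : OrbitCert [base48, baseP, root275] classRoot162 where
  M1 := Cert.matB1
  M2 := Cert.matB2
  D1 := Cert.dataB1
  D2 := Cert.dataB2
  ok1 := Cert.okB1
  ok2 := Cert.okB2
  data1 := Cert.dataOkB1
  data2 := Cert.dataOkB2
  fix1 := fix_three Cert.okB1 (by decide +kernel : fixOk Cert.matB1 list48 = true) toVec_list48 (by decide +kernel : fixOk Cert.matB1 listP = true) toVec_listP (by decide +kernel : fixOk Cert.matB1 Cert.Orb275.root = true) rfl
  fix2 := fix_three Cert.okB2 (by decide +kernel : fixOk Cert.matB2 list48 = true) toVec_list48 (by decide +kernel : fixOk Cert.matB2 listP = true) toVec_listP (by decide +kernel : fixOk Cert.matB2 Cert.Orb275.root = true) rfl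
  norm := classRoot162_mem.1
  k₀ := Cert.Orb162.k0
  hk₀ := by
    rw [key, classRoot162, coordVec_ofList]
    decide +kernel

theorem transitive_class162 : ∀ x ∈ dotSet3 base48 baseP root275 (24) (16) (16), ∀ x' ∈ dotSet3 base48 baseP root275 (24) (16) (16),
    ∃ k ∈ fixGroup [base48, baseP, root275], k • x = x' :=
  trans3_of_cert cert162 Cert.Orb162.count ncard_class162 classRoot162_mem

/-- The packed weights for the class of 100. -/
def weight100 : List ℤ :=
  [-123, -639, -127, -127, -127, -127, -127, -127, -127, -127, -127, -127, -127, -127, -127, -127, -127, -127, -127, -127, -127, -127, -127, -127]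

theorem toVec_weight100 : toVec weight100 = fun p => coordVec base48 p + 128 * coordVec baseH p := by
  rw [← toVec_list48]
  funext p; revert p; decide +kernel

theorem ncard_class100 : (dotSet2 base48 baseH (24) (-24)).ncard = 100 := by
  have h := ncard_dots (B := 1000) (W := weight100)
    (Wb := [877, 361, 873, 873, 873, 873, 873, 873, 873, 873, 873, 873, 873, 873, 873, 873, 873, 873, 873, 873, 873, 873, 873, 873])
    (by decide +kernel) (by decide +kernel) (by decide +kernel) [-3048] (by decide +kernel)
    (tb := [28952]) (by decide +kernel) [100] rfl (by decide +kernel) (by decide +kernel)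
  simp only [List.map_cons, List.map_nil, List.cons.injEq, and_true] at h
  rw [dotSet2, ncard_two (by simp only [← toVec_list48]; decide +kernel) (by simp only [baseH, coordVec_ofList]; decide +kernel) toVec_weight100 (24) (-24) (by decide +kernel)]
  exact h

/-- The root of the class of 100. -/
def classRoot100 : leechLattice := ofList Cert.Orb100.root Cert.Orb100.root_mem

theorem classRoot100_mem : classRoot100 ∈ dotSet2 base48 baseH (24) (-24) := by
  simp only [dotSet2, Set.mem_ofPred_eq, classRoot100, coordVec_ofList, ← toVec_list48, baseH]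
  decide +kernel

/-- The certificate for the class of 100. -/
def cert100 : OrbitCert [base48, baseH] classRoot100 where
  M1 := Cert.matC1
  M2 := Cert.matC2
  D1 := Cert.dataC1
  D2 := Cert.dataC2
  ok1 := Cert.okC1
  ok2 := Cert.okC2
  data1 := Cert.dataOkC1
  data2 := Cert.dataOkC2
  fix1 := fix_two Cert.okC1 (by decide +kernel : fixOk Cert.matC1 list48 = true) toVec_list48 (by decide +kernel : fixOk Cert.matC1 Cert.listH = true) rfl
  fix2 := fix_two Cert.okC2 (by decide +kernel : fixOk Cert.matC2 list48 = true) toVec_list48 (by decide +kernel : fixOk Cert.matC2 Cert.listH = true) rfl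
  norm := classRoot100_mem.1
  k₀ := Cert.Orb100.k0
  hk₀ := by
    rw [key, classRoot100, coordVec_ofList]
    decide +kernel

theorem transitive_class100 : ∀ x ∈ dotSet2 base48 baseH (24) (-24), ∀ x' ∈ dotSet2 base48 baseH (24) (-24),
    ∃ k ∈ fixGroup [base48, baseH], k • x = x' :=
  trans2_of_cert cert100 Cert.Orb100.count ncard_class100 classRoot100_mem

/-- The packed weights for the class of 22. -/
def weight22 : List ℤ :=
  [65413, 64897, -127, -127, -127, -127, -127, -127, -127, -127, -127, -127, -127, -127, -127, -127, -127, -127, -127, -127, -127, -127, -127, -127]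

theorem toVec_weight22 : toVec weight22 = fun p => coordVec base48 p + 128 * coordVec baseH p + 16384 * coordVec root100 p := by
  rw [← toVec_list48]
  funext p; revert p; decide +kernel

theorem ncard_class22 : (dotSet3 base48 baseH root100 (24) (-24) (8)).ncard = 22 := by
  have h := ncard_dots (B := 100000) (W := weight22)
    (Wb := [165413, 164897, 99873, 99873, 99873, 99873, 99873, 99873, 99873, 99873, 99873, 99873, 99873, 99873, 99873, 99873, 99873, 99873, 99873, 99873, 99873, 99873, 99873, 99873])
    (by decide +kernel) (by decide +kernel) (by decide +kernel) [128024] (by decide +kernel)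
    (tb := [3328024]) (by decide +kernel) [22] rfl (by decide +kernel) (by decide +kernel)
  simp only [List.map_cons, List.map_nil, List.cons.injEq, and_true] at h
  rw [dotSet3, ncard_three (by simp only [← toVec_list48]; decide +kernel) (by simp only [baseH, coordVec_ofList]; decide +kernel) (by simp only [root100, coordVec_ofList]; decide +kernel) toVec_weight22 (24) (-24) (8) (by decide +kernel) (by decide +kernel)]
  exact h

/-- The root of the class of 22. -/
def classRoot22 : leechLattice := ofList Cert.Orb22.root Cert.Orb22.root_mem

theorem classRoot22_mem : classRoot22 ∈ dotSet3 base48 baseH root100 (24) (-24) (8) := by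
  simp only [dotSet3, Set.mem_ofPred_eq, classRoot22, coordVec_ofList, ← toVec_list48, baseH, root100]
  decide +kernel

/-- The certificate for the class of 22. -/
def cert22 : OrbitCert [base48, baseH, root100] classRoot22 where
  M1 := Cert.matD1
  M2 := Cert.matD2
  D1 := Cert.dataD1
  D2 := Cert.dataD2
  ok1 := Cert.okD1
  ok2 := Cert.okD2
  data1 := Cert.dataOkD1
  data2 := Cert.dataOkD2
  fix1 := fix_three Cert.okD1 (by decide +kernel : fixOk Cert.matD1 list48 = true) toVec_list48 (by decide +kernel : fixOk Cert.matD1 Cert.listH = true) rfl (by decide +kernel : fixOk Cert.matD1 Cert.Orb100.root = true) rfl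
  fix2 := fix_three Cert.okD2 (by decide +kernel : fixOk Cert.matD2 list48 = true) toVec_list48 (by decide +kernel : fixOk Cert.matD2 Cert.listH = true) rfl (by decide +kernel : fixOk Cert.matD2 Cert.Orb100.root = true) rfl
  norm := classRoot22_mem.1
  k₀ := Cert.Orb22.k0
  hk₀ := by
    rw [key, classRoot22, coordVec_ofList]
    decide +kernel

theorem transitive_class22 : ∀ x ∈ dotSet3 base48 baseH root100 (24) (-24) (8), ∀ x' ∈ dotSet3 base48 baseH root100 (24) (-24) (8),
    ∃ k ∈ fixGroup [base48, baseH, root100], k • x = x' :=
  trans3_of_cert cert22 Cert.Orb22.count ncard_class22 classRoot22_mem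

/-- The packed weights for the class of 77. -/
def weight77 : List ℤ :=
  [65413, 64897, -127, -127, -127, -127, -127, -127, -127, -127, -127, -127, -127, -127, -127, -127, -127, -127, -127, -127, -127, -127, -127, -127]

theorem toVec_weight77 : toVec weight77 = fun p => coordVec base48 p + 128 * coordVec baseH p + 16384 * coordVec root100 p := by
  rw [← toVec_list48]
  funext p; revert p; decide +kernel

theorem ncard_class77 : (dotSet3 base48 baseH root100 (24) (-24) (16)).ncard = 77 := by
  have h := ncard_dots (B := 100000) (W := weight77)
    (Wb := [165413, 164897, 99873, 99873, 99873, 99873, 99873, 99873, 99873, 99873, 99873, 99873, 99873, 99873, 99873, 99873, 99873, 99873, 99873, 99873, 99873, 99873, 99873, 99873])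
    (by decide +kernel) (by decide +kernel) (by decide +kernel) [259096] (by decide +kernel)
    (tb := [3459096]) (by decide +kernel) [77] rfl (by decide +kernel) (by decide +kernel)
  simp only [List.map_cons, List.map_nil, List.cons.injEq, and_true] at h
  rw [dotSet3, ncard_three (by simp only [← toVec_list48]; decide +kernel) (by simp only [baseH, coordVec_ofList]; decide +kernel) (by simp only [root100, coordVec_ofList]; decide +kernel) toVec_weight77 (24) (-24) (16) (by decide +kernel) (by decide +kernel)]
  exact h

/-- The root of the class of 77. -/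
def classRoot77 : leechLattice := ofList Cert.Orb77.root Cert.Orb77.root_mem

theorem classRoot77_mem : classRoot77 ∈ dotSet3 base48 baseH root100 (24) (-24) (16) := by
  simp only [dotSet3, Set.mem_ofPred_eq, classRoot77, coordVec_ofList, ← toVec_list48, baseH, root100]
  decide +kernel

/-- The certificate for the class of 77. -/
def cert77 : OrbitCert [base48, baseH, root100] classRoot77 where
  M1 := Cert.matD1
  M2 := Cert.matD2
  D1 := Cert.dataD1
  D2 := Cert.dataD2
  ok1 := Cert.okD1
  ok2 := Cert.okD2
  data1 := Cert.dataOkD1
  data2 := Cert.dataOkD2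
  fix1 := fix_three Cert.okD1 (by decide +kernel : fixOk Cert.matD1 list48 = true) toVec_list48 (by decide +kernel : fixOk Cert.matD1 Cert.listH = true) rfl (by decide +kernel : fixOk Cert.matD1 Cert.Orb100.root = true) rfl
  fix2 := fix_three Cert.okD2 (by decide +kernel : fixOk Cert.matD2 list48 = true) toVec_list48 (by decide +kernel : fixOk Cert.matD2 Cert.listH = true) rfl (by decide +kernel : fixOk Cert.matD2 Cert.Orb100.root = true) rfl
  norm := classRoot77_mem.1
  k₀ := Cert.Orb77.k0
  hk₀ := by
    rw [key, classRoot77, coordVec_ofList]
    decide +kernel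

theorem transitive_class77 : ∀ x ∈ dotSet3 base48 baseH root100 (24) (-24) (16), ∀ x' ∈ dotSet3 base48 baseH root100 (24) (-24) (16),
    ∃ k ∈ fixGroup [base48, baseH, root100], k • x = x' :=
  trans3_of_cert cert77 Cert.Orb77.count ncard_class77 classRoot77_mem

/-- The packed weights for the class of 352. -/
def weight352 : List ℤ :=
  [-507, 513, 1, 1, 1, 1, 1, 1, 1, 1, 1, 1, 1, 1, 1, 1, 1, 1, 1, 1, 1, 1, 1, 1]

theorem toVec_weight352 : toVec weight352 = fun p => coordVec base48 p + 128 * coordVec baseX p := by
  rw [← toVec_list48]
  funext p; revert p; decide +kernel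

theorem ncard_class352 : (dotSet2 base48 baseX (-16) (-8)).ncard = 352 := by
  have h := ncard_dots (B := 1000) (W := weight352)
    (Wb := [493, 1513, 1001, 1001, 1001, 1001, 1001, 1001, 1001, 1001, 1001, 1001, 1001, 1001, 1001, 1001, 1001, 1001, 1001, 1001, 1001, 1001, 1001, 1001])
    (by decide +kernel) (by decide +kernel) (by decide +kernel) [-1040] (by decide +kernel)
    (tb := [30960]) (by decide +kernel) [352] rfl (by decide +kernel) (by decide +kernel)
  simp only [List.map_cons, List.map_nil, List.cons.injEq, and_true] at h
  rw [dotSet2, ncard_two (by simp only [← toVec_list48]; decide +kernel) (by simp only [baseX, coordVec_ofList]; decide +kernel) toVec_weight352 (-16) (-8) (by decide +kernel)]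
  exact h

/-- The root of the class of 352. -/
def classRoot352 : leechLattice := ofList Cert.Orb352.root Cert.Orb352.root_mem

theorem classRoot352_mem : classRoot352 ∈ dotSet2 base48 baseX (-16) (-8) := by
  simp only [dotSet2, Set.mem_ofPred_eq, classRoot352, coordVec_ofList, ← toVec_list48, baseX]
  decide +kernel

/-- The certificate for the class of 352. -/
def cert352 : OrbitCert [base48, baseX] classRoot352 where
  M1 := Cert.matC1
  M2 := Cert.matC2
  D1 := Cert.dataC1
  D2 := Cert.dataC2
  ok1 := Cert.okC1
  ok2 := Cert.okC2
  data1 := Cert.dataOkC1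
  data2 := Cert.dataOkC2
  fix1 := fix_two Cert.okC1 (by decide +kernel : fixOk Cert.matC1 list48 = true) toVec_list48 (by decide +kernel : fixOk Cert.matC1 Cert.listX = true) rfl
  fix2 := fix_two Cert.okC2 (by decide +kernel : fixOk Cert.matC2 list48 = true) toVec_list48 (by decide +kernel : fixOk Cert.matC2 Cert.listX = true) rfl
  norm := classRoot352_mem.1
  k₀ := Cert.Orb352.k0
  hk₀ := by
    rw [key, classRoot352, coordVec_ofList]
    decide +kernel

theorem transitive_class352 : ∀ x ∈ dotSet2 base48 baseX (-16) (-8), ∀ x' ∈ dotSet2 base48 baseX (-16) (-8),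
    ∃ k ∈ fixGroup [base48, baseX], k • x = x' :=
  trans2_of_cert cert352 Cert.Orb352.count ncard_class352 classRoot352_mem

/-- The packed weights for the class of 4125. -/
def weight4125 : List ℤ :=
  [-507, 513, 1, 1, 1, 1, 1, 1, 1, 1, 1, 1, 1, 1, 1, 1, 1, 1, 1, 1, 1, 1, 1, 1]

theorem toVec_weight4125 : toVec weight4125 = fun p => coordVec base48 p + 128 * coordVec baseX p := by
  rw [← toVec_list48]
  funext p; revert p; decide +kernel

theorem ncard_class4125 : (dotSet2 base48 baseX (-16) (0)).ncard = 4125 := by
  have h := ncard_dots (B := 1000) (W := weight4125)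
    (Wb := [493, 1513, 1001, 1001, 1001, 1001, 1001, 1001, 1001, 1001, 1001, 1001, 1001, 1001, 1001, 1001, 1001, 1001, 1001, 1001, 1001, 1001, 1001, 1001])
    (by decide +kernel) (by decide +kernel) (by decide +kernel) [-16] (by decide +kernel)
    (tb := [31984]) (by decide +kernel) [4125] rfl (by decide +kernel) (by decide +kernel)
  simp only [List.map_cons, List.map_nil, List.cons.injEq, and_true] at h
  rw [dotSet2, ncard_two (by simp only [← toVec_list48]; decide +kernel) (by simp only [baseX, coordVec_ofList]; decide +kernel) toVec_weight4125 (-16) (0) (by decide +kernel)]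
  exact h

/-- The root of the class of 4125. -/
def classRoot4125 : leechLattice := ofList Cert.Orb4125.root Cert.Orb4125.root_mem

theorem classRoot4125_mem : classRoot4125 ∈ dotSet2 base48 baseX (-16) (0) := by
  simp only [dotSet2, Set.mem_ofPred_eq, classRoot4125, coordVec_ofList, ← toVec_list48, baseX]
  decide +kernel

/-- The certificate for the class of 4125. -/
def cert4125 : OrbitCert [base48, baseX] classRoot4125 where
  M1 := Cert.matC1
  M2 := Cert.matC2
  D1 := Cert.dataC1
  D2 := Cert.dataC2
  ok1 := Cert.okC1
  ok2 := Cert.okC2
  data1 := Cert.dataOkC1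
  data2 := Cert.dataOkC2
  fix1 := fix_two Cert.okC1 (by decide +kernel : fixOk Cert.matC1 list48 = true) toVec_list48 (by decide +kernel : fixOk Cert.matC1 Cert.listX = true) rfl
  fix2 := fix_two Cert.okC2 (by decide +kernel : fixOk Cert.matC2 list48 = true) toVec_list48 (by decide +kernel : fixOk Cert.matC2 Cert.listX = true) rfl
  norm := classRoot4125_mem.1
  k₀ := Cert.Orb4125.k0
  hk₀ := by
    rw [key, classRoot4125, coordVec_ofList]
    decide +kernel

theorem transitive_class4125 : ∀ x ∈ dotSet2 base48 baseX (-16) (0), ∀ x' ∈ dotSet2 base48 baseX (-16) (0),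
    ∃ k ∈ fixGroup [base48, baseX], k • x = x' :=
  trans2_of_cert cert4125 Cert.Orb4125.count ncard_class4125 classRoot4125_mem

/-- The packed weights for the class of 5600. -/
def weight5600 : List ℤ :=
  [-507, 513, 1, 1, 1, 1, 1, 1, 1, 1, 1, 1, 1, 1, 1, 1, 1, 1, 1, 1, 1, 1, 1, 1]

theorem toVec_weight5600 : toVec weight5600 = fun p => coordVec base48 p + 128 * coordVec baseX p := by
  rw [← toVec_list48]
  funext p; revert p; decide +kernel

theorem ncard_class5600 : (dotSet2 base48 baseX (-16) (8)).ncard = 5600 := by
  have h := ncard_dots (B := 1000) (W := weight5600)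
    (Wb := [493, 1513, 1001, 1001, 1001, 1001, 1001, 1001, 1001, 1001, 1001, 1001, 1001, 1001, 1001, 1001, 1001, 1001, 1001, 1001, 1001, 1001, 1001, 1001])
    (by decide +kernel) (by decide +kernel) (by decide +kernel) [1008] (by decide +kernel)
    (tb := [33008]) (by decide +kernel) [5600] rfl (by decide +kernel) (by decide +kernel)
  simp only [List.map_cons, List.map_nil, List.cons.injEq, and_true] at h
  rw [dotSet2, ncard_two (by simp only [← toVec_list48]; decide +kernel) (by simp only [baseX, coordVec_ofList]; decide +kernel) toVec_weight5600 (-16) (8) (by decide +kernel)]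
  exact h

/-- The root of the class of 5600. -/
def classRoot5600 : leechLattice := ofList Cert.Orb5600.root Cert.Orb5600.root_mem

theorem classRoot5600_mem : classRoot5600 ∈ dotSet2 base48 baseX (-16) (8) := by
  simp only [dotSet2, Set.mem_ofPred_eq, classRoot5600, coordVec_ofList, ← toVec_list48, baseX]
  decide +kernel

/-- The certificate for the class of 5600. -/
def cert5600 : OrbitCert [base48, baseX] classRoot5600 where
  M1 := Cert.matC1
  M2 := Cert.matC2
  D1 := Cert.dataC1
  D2 := Cert.dataC2
  ok1 := Cert.okC1
  ok2 := Cert.okC2
  data1 := Cert.dataOkC1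
  data2 := Cert.dataOkC2
  fix1 := fix_two Cert.okC1 (by decide +kernel : fixOk Cert.matC1 list48 = true) toVec_list48 (by decide +kernel : fixOk Cert.matC1 Cert.listX = true) rfl
  fix2 := fix_two Cert.okC2 (by decide +kernel : fixOk Cert.matC2 list48 = true) toVec_list48 (by decide +kernel : fixOk Cert.matC2 Cert.listX = true) rfl
  norm := classRoot5600_mem.1
  k₀ := Cert.Orb5600.k0
  hk₀ := by
    rw [key, classRoot5600, coordVec_ofList]
    decide +kernel

theorem transitive_class5600 : ∀ x ∈ dotSet2 base48 baseX (-16) (8), ∀ x' ∈ dotSet2 base48 baseX (-16) (8),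
    ∃ k ∈ fixGroup [base48, baseX], k • x = x' :=
  trans2_of_cert cert5600 Cert.Orb5600.count ncard_class5600 classRoot5600_mem

/-- The packed weights for the class of 1100. -/
def weight1100 : List ℤ :=
  [-507, 513, 1, 1, 1, 1, 1, 1, 1, 1, 1, 1, 1, 1, 1, 1, 1, 1, 1, 1, 1, 1, 1, 1]

theorem toVec_weight1100 : toVec weight1100 = fun p => coordVec base48 p + 128 * coordVec baseX p := by
  rw [← toVec_list48]
  funext p; revert p; decide +kernel

theorem ncard_class1100 : (dotSet2 base48 baseX (-16) (16)).ncard = 1100 := by
  have h := ncard_dots (B := 1000) (W := weight1100)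
    (Wb := [493, 1513, 1001, 1001, 1001, 1001, 1001, 1001, 1001, 1001, 1001, 1001, 1001, 1001, 1001, 1001, 1001, 1001, 1001, 1001, 1001, 1001, 1001, 1001])
    (by decide +kernel) (by decide +kernel) (by decide +kernel) [2032] (by decide +kernel)
    (tb := [34032]) (by decide +kernel) [1100] rfl (by decide +kernel) (by decide +kernel)
  simp only [List.map_cons, List.map_nil, List.cons.injEq, and_true] at h
  rw [dotSet2, ncard_two (by simp only [← toVec_list48]; decide +kernel) (by simp only [baseX, coordVec_ofList]; decide +kernel) toVec_weight1100 (-16) (16) (by decide +kernel)]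
  exact h

/-- The root of the class of 1100. -/
def classRoot1100 : leechLattice := ofList Cert.Orb1100.root Cert.Orb1100.root_mem

theorem classRoot1100_mem : classRoot1100 ∈ dotSet2 base48 baseX (-16) (16) := by
  simp only [dotSet2, Set.mem_ofPred_eq, classRoot1100, coordVec_ofList, ← toVec_list48, baseX]
  decide +kernel

/-- The certificate for the class of 1100. -/
def cert1100 : OrbitCert [base48, baseX] classRoot1100 where
  M1 := Cert.matC1
  M2 := Cert.matC2
  D1 := Cert.dataC1
  D2 := Cert.dataC2
  ok1 := Cert.okC1
  ok2 := Cert.okC2
  data1 := Cert.dataOkC1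
  data2 := Cert.dataOkC2
  fix1 := fix_two Cert.okC1 (by decide +kernel : fixOk Cert.matC1 list48 = true) toVec_list48 (by decide +kernel : fixOk Cert.matC1 Cert.listX = true) rfl
  fix2 := fix_two Cert.okC2 (by decide +kernel : fixOk Cert.matC2 list48 = true) toVec_list48 (by decide +kernel : fixOk Cert.matC2 Cert.listX = true) rfl
  norm := classRoot1100_mem.1
  k₀ := Cert.Orb1100.k0
  hk₀ := by
    rw [key, classRoot1100, coordVec_ofList]
    decide +kernel

theorem transitive_class1100 : ∀ x ∈ dotSet2 base48 baseX (-16) (16), ∀ x' ∈ dotSet2 base48 baseX (-16) (16),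
    ∃ k ∈ fixGroup [base48, baseX], k • x = x' :=
  trans2_of_cert cert1100 Cert.Orb1100.count ncard_class1100 classRoot1100_mem

/-- The packed weights for the class of 2025. -/
def weight2025 : List ℤ :=
  [132, 128, 128, 128, 128, 128, 128, 128, 128, 128, 128, 128, 128, 128, 128, 128, 128, 128, 128, 128, 128, 128, 128, -380]

theorem toVec_weight2025 : toVec weight2025 = fun p => coordVec baseP p + 128 * coordVec baseB p := by
  rw [← toVec_listP, ← toVec_listB]
  funext p; revert p; decide +kernel

theorem ncard_class2025 : (dotSet2 baseP baseB (0) (16)).ncard = 2025 := by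
  have h := ncard_dots (B := 1000) (W := weight2025)
    (Wb := [1132, 1128, 1128, 1128, 1128, 1128, 1128, 1128, 1128, 1128, 1128, 1128, 1128, 1128, 1128, 1128, 1128, 1128, 1128, 1128, 1128, 1128, 1128, 620])
    (by decide +kernel) (by decide +kernel) (by decide +kernel) [2048] (by decide +kernel)
    (tb := [34048]) (by decide +kernel) [2025] rfl (by decide +kernel) (by decide +kernel)
  simp only [List.map_cons, List.map_nil, List.cons.injEq, and_true] at h
  rw [dotSet2, ncard_two (by simp only [← toVec_listP]; decide +kernel) (by simp only [← toVec_listB]; decide +kernel) toVec_weight2025 (0) (16) (by decide +kernel)]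
  exact h

/-- The root of the class of 2025. -/
def classRoot2025 : leechLattice := ofList Cert.Orb2025.root Cert.Orb2025.root_mem

theorem classRoot2025_mem : classRoot2025 ∈ dotSet2 baseP baseB (0) (16) := by
  simp only [dotSet2, Set.mem_ofPred_eq, classRoot2025, coordVec_ofList, ← toVec_listP, ← toVec_listB]
  decide +kernel

/-- The certificate for the class of 2025. -/
def cert2025 : OrbitCert [baseP, baseB] classRoot2025 where
  M1 := Cert.matA1
  M2 := Cert.matA2
  D1 := Cert.dataA1
  D2 := Cert.dataA2
  ok1 := Cert.okA1
  ok2 := Cert.okA2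
  data1 := Cert.dataOkA1
  data2 := Cert.dataOkA2
  fix1 := fix_two Cert.okA1 (by decide +kernel : fixOk Cert.matA1 listP = true) toVec_listP (by decide +kernel : fixOk Cert.matA1 listB = true) toVec_listB
  fix2 := fix_two Cert.okA2 (by decide +kernel : fixOk Cert.matA2 listP = true) toVec_listP (by decide +kernel : fixOk Cert.matA2 listB = true) toVec_listB
  norm := classRoot2025_mem.1
  k₀ := Cert.Orb2025.k0
  hk₀ := by
    rw [key, classRoot2025, coordVec_ofList]
    decide +kernel

theorem transitive_class2025 : ∀ x ∈ dotSet2 baseP baseB (0) (16), ∀ x' ∈ dotSet2 baseP baseB (0) (16),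
    ∃ k ∈ fixGroup [baseP, baseB], k • x = x' :=
  trans2_of_cert cert2025 Cert.Orb2025.count ncard_class2025 classRoot2025_mem

/-- The packed weights for the class of 330. -/
def weight330 : List ℤ :=
  [65668, 128, 128, 128, 128, 128, 128, 128, 128, 128, 128, 128, 128, 128, 128, 128, 128, 128, 128, 128, 128, 128, 128, -65916]

theorem toVec_weight330 : toVec weight330 = fun p => coordVec baseP p + 128 * coordVec baseB p + 16384 * coordVec root2025 p := by
  rw [← toVec_listP, ← toVec_listB]
  funext p; revert p; decide +kernel

theorem ncard_class330 : (dotSet3 baseP baseB root2025 (0) (16) (0)).ncard = 330 := by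
  have h := ncard_dots (B := 100000) (W := weight330)
    (Wb := [165668, 100128, 100128, 100128, 100128, 100128, 100128, 100128, 100128, 100128, 100128, 100128, 100128, 100128, 100128, 100128, 100128, 100128, 100128, 100128, 100128, 100128, 100128, 34084])
    (by decide +kernel) (by decide +kernel) (by decide +kernel) [2048] (by decide +kernel)
    (tb := [3202048]) (by decide +kernel) [330] rfl (by decide +kernel) (by decide +kernel)
  simp only [List.map_cons, List.map_nil, List.cons.injEq, and_true] at h
  rw [dotSet3, ncard_three (by simp only [← toVec_listP]; decide +kernel) (by simp only [← toVec_listB]; decide +kernel) (by simp only [root2025, coordVec_ofList]; decide +kernel) toVec_weight330 (0) (16) (0) (by decide +kernel) (by decide +kernel)]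
  exact h

/-- The root of the class of 330. -/
def classRoot330 : leechLattice := ofList Cert.Orb330.root Cert.Orb330.root_mem

theorem classRoot330_mem : classRoot330 ∈ dotSet3 baseP baseB root2025 (0) (16) (0) := by
  simp only [dotSet3, Set.mem_ofPred_eq, classRoot330, coordVec_ofList, ← toVec_listP, ← toVec_listB, root2025]
  decide +kernel

/-- The certificate for the class of 330. -/
def cert330 : OrbitCert [baseP, baseB, root2025] classRoot330 where
  M1 := Cert.matF1
  M2 := Cert.matF2
  D1 := Cert.dataF1
  D2 := Cert.dataF2
  ok1 := Cert.okF1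
  ok2 := Cert.okF2
  data1 := Cert.dataOkF1
  data2 := Cert.dataOkF2
  fix1 := fix_three Cert.okF1 (by decide +kernel : fixOk Cert.matF1 listP = true) toVec_listP (by decide +kernel : fixOk Cert.matF1 listB = true) toVec_listB (by decide +kernel : fixOk Cert.matF1 Cert.Orb2025.root = true) rfl
  fix2 := fix_three Cert.okF2 (by decide +kernel : fixOk Cert.matF2 listP = true) toVec_listP (by decide +kernel : fixOk Cert.matF2 listB = true) toVec_listB (by decide +kernel : fixOk Cert.matF2 Cert.Orb2025.root = true) rfl
  norm := classRoot330_mem.1
  k₀ := Cert.Orb330.k0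
  hk₀ := by
    rw [key, classRoot330, coordVec_ofList]
    decide +kernel

theorem transitive_class330 : ∀ x ∈ dotSet3 baseP baseB root2025 (0) (16) (0), ∀ x' ∈ dotSet3 baseP baseB root2025 (0) (16) (0),
    ∃ k ∈ fixGroup [baseP, baseB, root2025], k • x = x' :=
  trans3_of_cert cert330 Cert.Orb330.count ncard_class330 classRoot330_mem

/-- The packed weights for the class of 462. -/
def weight462 : List ℤ :=
  [65668, 128, 128, 128, 128, 128, 128, 128, 128, 128, 128, 128, 128, 128, 128, 128, 128, 128, 128, 128, 128, 128, 128, -65916]

theorem toVec_weight462 : toVec weight462 = fun p => coordVec baseP p + 128 * coordVec baseB p + 16384 * coordVec root2025 p := by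
  rw [← toVec_listP, ← toVec_listB]
  funext p; revert p; decide +kernel

theorem ncard_class462 : (dotSet3 baseP baseB root2025 (0) (16) (16)).ncard = 462 := by
  have h := ncard_dots (B := 100000) (W := weight462)
    (Wb := [165668, 100128, 100128, 100128, 100128, 100128, 100128, 100128, 100128, 100128, 100128, 100128, 100128, 100128, 100128, 100128, 100128, 100128, 100128, 100128, 100128, 100128, 100128, 34084])
    (by decide +kernel) (by decide +kernel) (by decide +kernel) [264192] (by decide +kernel)
    (tb := [3464192]) (by decide +kernel) [462] rfl (by decide +kernel) (by decide +kernel)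
  simp only [List.map_cons, List.map_nil, List.cons.injEq, and_true] at h
  rw [dotSet3, ncard_three (by simp only [← toVec_listP]; decide +kernel) (by simp only [← toVec_listB]; decide +kernel) (by simp only [root2025, coordVec_ofList]; decide +kernel) toVec_weight462 (0) (16) (16) (by decide +kernel) (by decide +kernel)]
  exact h

/-- The root of the class of 462. -/
def classRoot462 : leechLattice := ofList Cert.Orb462.root Cert.Orb462.root_mem

theorem classRoot462_mem : classRoot462 ∈ dotSet3 baseP baseB root2025 (0) (16) (16) := by
  simp only [dotSet3, Set.mem_ofPred_eq, classRoot462, coordVec_ofList, ← toVec_listP, ← toVec_listB, root2025]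
  decide +kernel

/-- The certificate for the class of 462. -/
def cert462 : OrbitCert [baseP, baseB, root2025] classRoot462 where
  M1 := Cert.matF1
  M2 := Cert.matF2
  D1 := Cert.dataF1
  D2 := Cert.dataF2
  ok1 := Cert.okF1
  ok2 := Cert.okF2
  data1 := Cert.dataOkF1
  data2 := Cert.dataOkF2
  fix1 := fix_three Cert.okF1 (by decide +kernel : fixOk Cert.matF1 listP = true) toVec_listP (by decide +kernel : fixOk Cert.matF1 listB = true) toVec_listB (by decide +kernel : fixOk Cert.matF1 Cert.Orb2025.root = true) rfl
  fix2 := fix_three Cert.okF2 (by decide +kernel : fixOk Cert.matF2 listP = true) toVec_listP (by decide +kernel : fixOk Cert.matF2 listB = true) toVec_listB (by decide +kernel : fixOk Cert.matF2 Cert.Orb2025.root = true) rfl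
  norm := classRoot462_mem.1
  k₀ := Cert.Orb462.k0
  hk₀ := by
    rw [key, classRoot462, coordVec_ofList]
    decide +kernel

theorem transitive_class462 : ∀ x ∈ dotSet3 baseP baseB root2025 (0) (16) (16), ∀ x' ∈ dotSet3 baseP baseB root2025 (0) (16) (16),
    ∃ k ∈ fixGroup [baseP, baseB, root2025], k • x = x' :=
  trans3_of_cert cert462 Cert.Orb462.count ncard_class462 classRoot462_mem

/-- The packed weights for the class of 1232. -/
def weight1232 : List ℤ :=
  [65668, 128, 128, 128, 128, 128, 128, 128, 128, 128, 128, 128, 128, 128, 128, 128, 128, 128, 128, 128, 128, 128, 128, -65916]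

theorem toVec_weight1232 : toVec weight1232 = fun p => coordVec baseP p + 128 * coordVec baseB p + 16384 * coordVec root2025 p := by
  rw [← toVec_listP, ← toVec_listB]
  funext p; revert p; decide +kernel

theorem ncard_class1232 : (dotSet3 baseP baseB root2025 (0) (16) (8)).ncard = 1232 := by
  have h := ncard_dots (B := 100000) (W := weight1232)
    (Wb := [165668, 100128, 100128, 100128, 100128, 100128, 100128, 100128, 100128, 100128, 100128, 100128, 100128, 100128, 100128, 100128, 100128, 100128, 100128, 100128, 100128, 100128, 100128, 34084])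
    (by decide +kernel) (by decide +kernel) (by decide +kernel) [133120] (by decide +kernel)
    (tb := [3333120]) (by decide +kernel) [1232] rfl (by decide +kernel) (by decide +kernel)
  simp only [List.map_cons, List.map_nil, List.cons.injEq, and_true] at h
  rw [dotSet3, ncard_three (by simp only [← toVec_listP]; decide +kernel) (by simp only [← toVec_listB]; decide +kernel) (by simp only [root2025, coordVec_ofList]; decide +kernel) toVec_weight1232 (0) (16) (8) (by decide +kernel) (by decide +kernel)]
  exact h

/-- The root of the class of 1232. -/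
def classRoot1232 : leechLattice := ofList Cert.Orb1232.root Cert.Orb1232.root_mem

theorem classRoot1232_mem : classRoot1232 ∈ dotSet3 baseP baseB root2025 (0) (16) (8) := by
  simp only [dotSet3, Set.mem_ofPred_eq, classRoot1232, coordVec_ofList, ← toVec_listP, ← toVec_listB, root2025]
  decide +kernel

/-- The certificate for the class of 1232. -/
def cert1232 : OrbitCert [baseP, baseB, root2025] classRoot1232 where
  M1 := Cert.matF1
  M2 := Cert.matF2
  D1 := Cert.dataF1
  D2 := Cert.dataF2
  ok1 := Cert.okF1
  ok2 := Cert.okF2
  data1 := Cert.dataOkF1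
  data2 := Cert.dataOkF2
  fix1 := fix_three Cert.okF1 (by decide +kernel : fixOk Cert.matF1 listP = true) toVec_listP (by decide +kernel : fixOk Cert.matF1 listB = true) toVec_listB (by decide +kernel : fixOk Cert.matF1 Cert.Orb2025.root = true) rfl
  fix2 := fix_three Cert.okF2 (by decide +kernel : fixOk Cert.matF2 listP = true) toVec_listP (by decide +kernel : fixOk Cert.matF2 listB = true) toVec_listB (by decide +kernel : fixOk Cert.matF2 Cert.Orb2025.root = true) rfl
  norm := classRoot1232_mem.1
  k₀ := Cert.Orb1232.k0
  hk₀ := by
    rw [key, classRoot1232, coordVec_ofList]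
    decide +kernel

theorem transitive_class1232 : ∀ x ∈ dotSet3 baseP baseB root2025 (0) (16) (8), ∀ x' ∈ dotSet3 baseP baseB root2025 (0) (16) (8),
    ∃ k ∈ fixGroup [baseP, baseB, root2025], k • x = x' :=
  trans3_of_cert cert1232 Cert.Orb1232.count ncard_class1232 classRoot1232_mem

end CfsgLib.Leech
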