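import Cfsg.Agent.Lib.Leech.Orbit
import Cfsg.Agent.Lib.Leech.Cert.Mats
import Cfsg.Agent.Lib.GolayStructure.ConwayOrbit

/-!
Standard configurations of two or three vectors and transport of statements about the minimal vectors
with prescribed inner products to them.
-/

set_option autoImplicit false

namespace CfsgLib.Leech

open Cfsg CfsgLib.Fischer2
open scoped Pointwise

/-- Minimal vectors with prescribed inner products with two vectors. -/
def dotSet2 (a b : leechLattice) (s t : ℤ) : Set leechLattice :=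
  {x | sqNorm (coordVec x) = 32 ∧ dotInt (coordVec a) (coordVec x) = s ∧
    dotInt (coordVec b) (coordVec x) = t}

/-- Minimal vectors with prescribed inner products with three vectors. -/
def dotSet3 (a b c : leechLattice) (s t r : ℤ) : Set leechLattice :=
  {x | sqNorm (coordVec x) = 32 ∧ dotInt (coordVec a) (coordVec x) = s ∧
    dotInt (coordVec b) (coordVec x) = t ∧ dotInt (coordVec c) (coordVec x) = r}

theorem minimal_finite (P : leechLattice → Prop) :
    {x : leechLattice | sqNorm (coordVec x) = 32 ∧ P x}.Finite :=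
  ((layer_finite 32).preimage Subtype.val_injective.injOn).subset fun x hx => ⟨x.2, hx.1⟩

theorem dot_smul_eq (g : Co0) (a x : leechLattice) :
    dotInt (coordVec (g • a)) (coordVec (g • x)) = dotInt (coordVec a) (coordVec x) :=
  CfsgLib.Leech.dotInt_smul g a x

theorem smul_mem_dotSet2 {g : Co0} {a b : leechLattice} {s t : ℤ} {x : leechLattice} :
    g • x ∈ dotSet2 (g • a) (g • b) s t ↔ x ∈ dotSet2 a b s t := by
  simp only [dotSet2, Set.mem_ofPred_eq, sqNorm_smul', dot_smul_eq]

theorem smul_mem_dotSet3 {g : Co0} {a b c : leechLattice} {s t r : ℤ} {x : leechLattice} :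
    g • x ∈ dotSet3 (g • a) (g • b) (g • c) s t r ↔ x ∈ dotSet3 a b c s t r := by
  simp only [dotSet3, Set.mem_ofPred_eq, sqNorm_smul', dot_smul_eq]

theorem ncard_dotSet2_smul {g : Co0} {a b a' b' : leechLattice} (ha : g • a = a') (hb : g • b = b')
    (s t : ℤ) : (dotSet2 a' b' s t).ncard = (dotSet2 a b s t).ncard := by
  subst ha hb
  exact (ncard_smul_sep g (· ∈ dotSet2 a b s t) (· ∈ dotSet2 (g • a) (g • b) s t)
    fun x => smul_mem_dotSet2.symm).symm

theorem ncard_dotSet3_smul {g : Co0} {a b c a' b' c' : leechLattice} (ha : g • a = a')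
    (hb : g • b = b') (hc : g • c = c') (s t r : ℤ) :
    (dotSet3 a' b' c' s t r).ncard = (dotSet3 a b c s t r).ncard := by
  subst ha hb hc
  exact (ncard_smul_sep g (· ∈ dotSet3 a b c s t r) (· ∈ dotSet3 (g • a) (g • b) (g • c) s t r)
    fun x => smul_mem_dotSet3.symm).symm

theorem transport2 {g : Co0} {a b a' b' : leechLattice} (ha : g • a = a') (hb : g • b = b')
    {s t : ℤ}
    (h : ∀ x ∈ dotSet2 a b s t, ∀ x' ∈ dotSet2 a b s t, ∃ k ∈ fixGroup [a, b], k • x = x')
    {x x' : leechLattice} (hx : x ∈ dotSet2 a' b' s t) (hx' : x' ∈ dotSet2 a' b' s t) :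
    ∃ k : Co0, k • a' = a' ∧ k • b' = b' ∧ k • x = x' := by
  subst ha hb
  rw [← smul_inv_smul g x, smul_mem_dotSet2] at hx
  rw [← smul_inv_smul g x', smul_mem_dotSet2] at hx'
  obtain ⟨k, hk, e⟩ := h _ hx _ hx'
  refine ⟨g * k * g⁻¹, ?_, ?_, ?_⟩
  · rw [mul_smul, mul_smul, inv_smul_smul, hk a (by simp)]
  · rw [mul_smul, mul_smul, inv_smul_smul, hk b (by simp)]
  · rw [mul_smul, mul_smul, e, smul_inv_smul]

theorem transport3 {g : Co0} {a b c a' b' c' : leechLattice} (ha : g • a = a') (hb : g • b = b')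
    (hc : g • c = c') {s t r : ℤ}
    (h : ∀ x ∈ dotSet3 a b c s t r, ∀ x' ∈ dotSet3 a b c s t r,
      ∃ k ∈ fixGroup [a, b, c], k • x = x')
    {x x' : leechLattice} (hx : x ∈ dotSet3 a' b' c' s t r) (hx' : x' ∈ dotSet3 a' b' c' s t r) :
    ∃ k : Co0, k • a' = a' ∧ k • b' = b' ∧ k • c' = c' ∧ k • x = x' := by
  subst ha hb hc
  rw [← smul_inv_smul g x, smul_mem_dotSet3] at hx
  rw [← smul_inv_smul g x', smul_mem_dotSet3] at hx'
  obtain ⟨k, hk, e⟩ := h _ hx _ hx'
  refine ⟨g * k * g⁻¹, ?_, ?_, ?_, ?_⟩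
  · rw [mul_smul, mul_smul, inv_smul_smul, hk a (by simp)]
  · rw [mul_smul, mul_smul, inv_smul_smul, hk b (by simp)]
  · rw [mul_smul, mul_smul, inv_smul_smul, hk c (by simp)]
  · rw [mul_smul, mul_smul, e, smul_inv_smul]

theorem inv_dotSet2 {a b : leechLattice} (s t : ℤ) :
    ∀ g ∈ fixGroup [a, b], ∀ y ∈ dotSet2 a b s t, g • y ∈ dotSet2 a b s t := by
  intro g hg y hy
  have := (smul_mem_dotSet2 (g := g)).2 hy
  rwa [hg a (by simp), hg b (by simp)] at this

theorem inv_dotSet3 {a b c : leechLattice} (s t r : ℤ) :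
    ∀ g ∈ fixGroup [a, b, c], ∀ y ∈ dotSet3 a b c s t r, g • y ∈ dotSet3 a b c s t r := by
  intro g hg y hy
  have := (smul_mem_dotSet3 (g := g)).2 hy
  rwa [hg a (by simp), hg b (by simp), hg c (by simp)] at this

theorem trans2_of_cert {a b x₀ : leechLattice} (C : OrbitCert [a, b] x₀) {packed : List ℕ} {n : ℕ}
    (h : countD 60 ((certKeys C.D1 C.D2 C.k₀ packed).map hashKey) = n) {s t : ℤ}
    (hX : (dotSet2 a b s t).ncard = n) (h0 : x₀ ∈ dotSet2 a b s t) :
    ∀ x ∈ dotSet2 a b s t, ∀ x' ∈ dotSet2 a b s t, ∃ k ∈ fixGroup [a, b], k • x = x' :=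
  transitive_of_cert C h (minimal_finite _) hX (inv_dotSet2 s t) h0

theorem trans3_of_cert {a b c x₀ : leechLattice} (C : OrbitCert [a, b, c] x₀) {packed : List ℕ}
    {n : ℕ} (h : countD 60 ((certKeys C.D1 C.D2 C.k₀ packed).map hashKey) = n) {s t r : ℤ}
    (hX : (dotSet3 a b c s t r).ncard = n) (h0 : x₀ ∈ dotSet3 a b c s t r) :
    ∀ x ∈ dotSet3 a b c s t r, ∀ x' ∈ dotSet3 a b c s t r,
      ∃ k ∈ fixGroup [a, b, c], k • x = x' :=
  transitive_of_cert C h (minimal_finite _) hX (inv_dotSet3 s t r) h0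

theorem fix_two {M : List (List ℤ)} (h : matOk M = true) {La Lb : List ℤ} {a b : leechLattice}
    (fa : fixOk M La = true) (ea : toVec La = coordVec a) (fb : fixOk M Lb = true)
    (eb : toVec Lb = coordVec b) : matAut M h ∈ fixGroup [a, b] := by
  intro v hv
  simp only [List.mem_cons, List.not_mem_nil, or_false] at hv
  rcases hv with rfl | rfl
  · exact matAut_fixes h fa ea
  · exact matAut_fixes h fb eb

theorem fix_three {M : List (List ℤ)} (h : matOk M = true) {La Lb Lc : List ℤ}
    {a b c : leechLattice} (fa : fixOk M La = true) (ea : toVec La = coordVec a)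
    (fb : fixOk M Lb = true) (eb : toVec Lb = coordVec b) (fc : fixOk M Lc = true)
    (ec : toVec Lc = coordVec c) : matAut M h ∈ fixGroup [a, b, c] := by
  intro v hv
  simp only [List.mem_cons, List.not_mem_nil, or_false] at hv
  rcases hv with rfl | rfl | rfl
  · exact matAut_fixes h fa ea
  · exact matAut_fixes h fb eb
  · exact matAut_fixes h fc ec

/-! ### Standard vectors -/

/-- The entries of `baseB`. -/
def listB : List ℤ := List.replicate 23 1 ++ [-3]

theorem toVec_listB : toVec listB = coordVec baseB := by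
  funext p; revert p; decide +kernel

theorem listX_mem : memTest Cert.listX = true := by decide +kernel
theorem listH_mem : memTest Cert.listH = true := by decide +kernel

/-- A minimal vector with inner product `-16` with `base48`. -/
def baseX : leechLattice := ofList Cert.listX listX_mem

/-- The partner of `base48` in the standard Higman-Sims pair. -/
def baseH : leechLattice := ofList Cert.listH listH_mem

theorem baseH_eq : baseH = -(base48 + baseX) := by
  apply Subtype.ext
  show toVec Cert.listH = -(coordVec base48 + toVec Cert.listX)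
  rw [← toVec_list48]
  funext p; revert p; decide +kernel

theorem exists_map_ux {u x : leechLattice} (hu : sqNorm (coordVec u) = 48)
    (hx : sqNorm (coordVec x) = 32) (hd : dotInt (coordVec u) (coordVec x) = -16) :
    ∃ g : Co0, g • base48 = u ∧ g • baseX = x := by
  have key : ∀ {u x : leechLattice}, sqNorm (coordVec u) = 48 → sqNorm (coordVec x) = 32 →
      dotInt (coordVec u) (coordVec x) = -16 →
      ∃ g : Co0, g • GolayStructure.vecU = u ∧ g • (-baseM) = x := by
    intro u x hu hx hd
    obtain ⟨g1, hg1⟩ := transitive_norm48 hu GolayStructure.sqNorm_vecU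
    have hmem : -(g1 • x) ∈ GolayStructure.dotSixteen := by
      refine ⟨?_, ?_⟩
      · show sqNorm (coordVec (-(g1 • x))) = 32
        rw [← sqNorm_smul' g1 x] at hx
        simpa [coordVec, sqNorm] using hx
      · show dotInt (coordVec GolayStructure.vecU) (coordVec (-(g1 • x))) = 16
        rw [← hg1]
        simp only [coordVec, AddSubgroup.coe_neg]
        rw [dotInt_neg_right]
        have := CfsgLib.Leech.dotInt_smul g1 u x
        simp only [coordVec] at hd
        omega
    rw [← GolayStructure.orbitSet_dotSixteen] at hmem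
    obtain ⟨k, hk, e⟩ := hmem
    refine ⟨g1⁻¹ * k, ?_, ?_⟩
    · rw [mul_smul, show k • GolayStructure.vecU = GolayStructure.vecU from hk, ← hg1, inv_smul_smul]
    · rw [mul_smul, smul_neg_co0, e, neg_neg, inv_smul_smul]
  obtain ⟨g, h1, h2⟩ := key hu hx hd
  obtain ⟨g', h1', h2'⟩ := key sqNorm_base48 (u := base48) (x := baseX)
    (by rw [baseX, coordVec_ofList]; decide +kernel)
    (by rw [baseX, coordVec_ofList, ← toVec_list48]; decide +kernel)
  exact ⟨g * g'⁻¹, by rw [mul_smul, ← h1', inv_smul_smul, h1],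
    by rw [mul_smul, ← h2', inv_smul_smul, h2]⟩

theorem exists_map_uv {u v : leechLattice} (hu : sqNorm (coordVec u) = 48)
    (hv : sqNorm (coordVec v) = 32) (huv : sqNorm (coordVec (u - v)) = 32) :
    ∃ g : Co0, g • base48 = u ∧ g • baseP = v := by
  have hd : dotInt (coordVec v) (coordVec (u - v)) = -8 := by
    simp only [coordVec, AddSubgroup.coe_sub] at *
    have h := sqNorm_sub (u : GolayPt → ℤ) (v : GolayPt → ℤ)
    rw [huv, hu, hv] at h
    rw [sub_eq_add_neg, dotInt_add_right, dotInt_neg_right, dotInt_comm', dotInt_self, hv]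
    omega
  have hB : sqNorm (coordVec baseB) = 32 := by rw [← toVec_listB]; decide +kernel
  have hPB : dotInt (coordVec baseP) (coordVec baseB) = -8 := by
    rw [← toVec_listB, ← toVec_listP]; decide +kernel
  obtain ⟨g, h1, h2⟩ := pair_transitive sqNorm_baseP hB hv huv (Or.inr (Or.inl rfl)) hPB hd
  refine ⟨g, ?_, h1⟩
  rw [base48, smul_add_co0, h1, h2]
  abel

theorem exists_map_hs {v w : leechLattice} (hv : sqNorm (coordVec v) = 48)
    (hw : sqNorm (coordVec w) = 48) (hvw : dotInt (coordVec v) (coordVec w) = -32) :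
    ∃ g : Co0, g • base48 = v ∧ g • baseH = w := by
  obtain ⟨g, h1, h2⟩ := exists_map_ux hv (x := -(v + w))
    (by
      simp only [coordVec, AddSubgroup.coe_neg, AddSubgroup.coe_add] at *
      have h := sqNorm_add (v : GolayPt → ℤ) (w : GolayPt → ℤ)
      rw [hv, hw, hvw] at h
      have e : ∀ z : GolayPt → ℤ, sqNorm (-z) = sqNorm z := fun z => by simp [sqNorm]
      rw [e, h]
      norm_num)
    (by
      simp only [coordVec, AddSubgroup.coe_neg, AddSubgroup.coe_add] at *
      rw [dotInt_neg_right, dotInt_add_right, dotInt_self, hv, hvw]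
      norm_num)
  refine ⟨g, h1, ?_⟩
  rw [baseH_eq, smul_neg_co0, smul_add_co0, h1, h2]
  abel

end CfsgLib.Leech
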