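import Cfsg.Agent.Lib.Leech.Pairs

/-!
Vectors of squared length 48 split as a sum of two minimal vectors with inner product -8, hence
`Co0` is transitive on them.
-/

set_option autoImplicit false

namespace CfsgLib.Leech

open Cfsg Finset CfsgLib.Fischer2
open scoped Pointwise

theorem exists_pair_dot24 (u : leechLattice) {i j : GolayPt} (hij : i ≠ j)
    (h : |coordVec u i| + |coordVec u j| = 6) :
    ∃ v : leechLattice, sqNorm (coordVec v) = 32 ∧ dotInt (coordVec u) (coordVec v) = 24 := by
  refine ⟨fourPair i j (decide (coordVec u i < 0)) (decide (coordVec u j < 0)),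
    sqNorm_fourPair hij _ _, ?_⟩
  rw [dot_fourPair]
  rcases abs_cases (coordVec u i) with a | a <;> rcases abs_cases (coordVec u j) with b | b <;>
    simp only [decide_eq_true_eq] <;> split_ifs <;> omega

theorem sq_eq_of_abs_eq {a k : ℤ} (h : |a| = k) : a ^ 2 = k * k := by
  rw [← sq_abs, h, sq]

theorem odd48_pair (u : leechLattice) (hn : sqNorm (coordVec u) = 48)
    (ho : ∀ p, coordVec u p % 2 = 1) :
    ∃ i j, i ≠ j ∧ |coordVec u i| + |coordVec u j| = 6 := by
  classical
  have hsum : ∑ p, (coordVec u p ^ 2 - 1) = 24 := by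
    rw [Finset.sum_sub_distrib]
    change sqNorm (coordVec u) - _ = 24
    rw [hn]; simp [GolayPt]
  have hval : ∀ p, |coordVec u p| = 1 ∨ |coordVec u p| = 3 ∨ 5 ≤ |coordVec u p| := fun p => by
    have := ho p
    rcases abs_cases (coordVec u p) with h | h <;> omega
  have hnn : ∀ p, 0 ≤ coordVec u p ^ 2 - 1 := fun p => by
    have h1 : 1 ≤ |coordVec u p| := by rcases hval p with h | h | h <;> omega
    have := sq_ge_of_abs (k := 1) (by norm_num) h1
    omega
  by_cases h5 : ∃ k, 5 ≤ |coordVec u k|
  · obtain ⟨k, hk⟩ := h5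
    obtain ⟨j, hj⟩ := exists_ne k
    refine ⟨k, j, hj.symm, ?_⟩
    have h25 := sq_ge_of_abs (k := 5) (by norm_num) hk
    rw [← Finset.add_sum_erase _ _ (Finset.mem_univ k)] at hsum
    have hnr := Finset.sum_nonneg fun p (_ : p ∈ Finset.univ.erase k) => hnn p
    have hz := (Finset.sum_eq_zero_iff_of_nonneg fun p _ => hnn p).1
      (show ∑ p ∈ Finset.univ.erase k, (coordVec u p ^ 2 - 1) = 0 by omega)
    have hj1 : |coordVec u j| = 1 := by
      have h0 := hz j (Finset.mem_erase.2 ⟨hj, Finset.mem_univ j⟩)
      rcases hval j with h | h | h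
      · exact h
      · have := sq_eq_of_abs_eq h; omega
      · have := sq_ge_of_abs (k := 5) (by norm_num) h; omega
    have hk5 : |coordVec u k| = 5 := by
      by_contra hne
      have := sq_ge_of_abs (a := coordVec u k) (k := 6) (by norm_num) (by omega)
      omega
    omega
  · simp only [not_exists, not_le] at h5
    set N := Finset.univ.filter fun p => |coordVec u p| = 3 with hN
    have h8 : ∑ p, (coordVec u p ^ 2 - 1) = 8 * (N.card : ℤ) := by
      rw [hN, Finset.card_filter, Nat.cast_sum, Finset.mul_sum]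
      refine Finset.sum_congr rfl fun p _ => ?_
      rcases hval p with h | h | h
      · rw [if_neg (by omega), sq_eq_of_abs_eq h]; norm_num
      · rw [if_pos h, sq_eq_of_abs_eq h]; norm_num
      · exact absurd h (not_le.2 (h5 p))
    obtain ⟨i, hi, j, hj, hij⟩ := Finset.one_lt_card.1 (show 1 < N.card by omega)
    simp only [hN, Finset.mem_filter] at hi hj
    exact ⟨i, j, hij, by rw [hi.2, hj.2]; norm_num⟩

theorem even48_cases (u : leechLattice) (hn : sqNorm (coordVec u) = 48)
    (he : ∀ p, coordVec u p % 2 = 0) :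
    (∃ i j, i ≠ j ∧ |coordVec u i| + |coordVec u j| = 6) ∨
      ((twoSet u).card = 12 ∧ ∀ p ∈ twoSet u, |coordVec u p| = 2) := by
  classical
  have hsmall : ∀ p, coordVec u p ^ 2 ≤ 48 := fun p => hn ▸ sq_le_sqNorm (coordVec u) p
  have h6 : ∀ p, |coordVec u p| ≤ 6 := fun p => by
    by_contra hlt
    have := sq_ge_of_abs (a := coordVec u p) (k := 7) (by norm_num) (by omega)
    have := hsmall p
    omega
  rcases card_twoSet u with h | h | h | h | h
  · exfalso
    have h4 : ∀ p, coordVec u p % 4 = 0 := fun p => by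
      have := he p
      have h2 : coordVec u p % 4 ≠ 2 := fun hp => by
        have := Finset.card_eq_zero.1 h ▸ mem_twoSet.2 hp
        simp at this
      omega
    set N := Finset.univ.filter fun p => coordVec u p ≠ 0 with hN
    have hval : ∀ p, coordVec u p ^ 2 = 16 * (if coordVec u p ≠ 0 then 1 else 0) ∧
        coordVec u p % 8 = 4 * (if coordVec u p ≠ 0 then 1 else 0) := fun p => by
      have := h4 p
      have := h6 p
      rcases (show coordVec u p = 0 ∨ coordVec u p = 4 ∨ coordVec u p = -4 by
        rcases abs_cases (coordVec u p) with a | a <;> omega) with e | e | e <;> rw [e] <;> norm_num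
    have hN3 : (N.card : ℤ) = 3 := by
      have : sqNorm (coordVec u) = 16 * (N.card : ℤ) := by
        rw [hN, Finset.card_filter, Nat.cast_sum, Finset.mul_sum]
        exact Finset.sum_congr rfl fun p _ => by rw [(hval p).1]; push_cast; rfl
      omega
    have hd : (8 : ℤ) ∣ ∑ p, (coordVec u p - 4 * (if coordVec u p ≠ 0 then 1 else 0)) :=
      Finset.dvd_sum fun p _ => by have := (hval p).2; omega
    have hs := sum_mod_eight u he
    rw [Finset.sum_sub_distrib, ← Finset.mul_sum] at hd
    have : (∑ p, if coordVec u p ≠ 0 then (1 : ℤ) else 0) = 3 := by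
      rw [← hN3, hN, Finset.card_filter, Nat.cast_sum]
      push_cast; rfl
    rw [this] at hd
    omega
  · left
    obtain ⟨j, hj⟩ := Finset.card_pos.1 (show 0 < (twoSet u).card by omega)
    by_cases h4 : ∃ i ∉ twoSet u, coordVec u i ≠ 0
    · obtain ⟨i, hi, hi0⟩ := h4
      have hij : i ≠ j := fun e => hi (e ▸ hj)
      refine ⟨i, j, hij, ?_⟩
      have hm : coordVec u i % 4 = 0 := by
        have := he i
        have : coordVec u i % 4 ≠ 2 := fun e => hi (mem_twoSet.2 e)
        omega
      have := h6 i
      have := mem_twoSet.1 hj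
      have hi4 : |coordVec u i| = 4 := by rcases abs_cases (coordVec u i) with a | a <;> omega
      have hj2 : |coordVec u j| = 2 := by
        by_contra hne
        have h36 := sq_ge_of_abs (a := coordVec u j) (k := 6) (by norm_num)
          (by rcases abs_cases (coordVec u j) with a | a <;> omega)
        have hb := norm_bound (coordVec u) (A := (twoSet u).erase j) (B := {j}) (a := 4) (b := 36)
          (by simp) (fun p hp => four_le_sq (Finset.mem_of_mem_erase hp))
          (fun p hp => by rw [Finset.mem_singleton.1 hp]; omega)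
        rw [Finset.card_erase_of_mem hj, h, hn] at hb
        norm_num at hb
      omega
    · exfalso
      simp only [not_exists, not_and, not_not] at h4
      have hs : sqNorm (coordVec u) = ∑ p ∈ twoSet u, coordVec u p ^ 2 := by
        refine (Finset.sum_subset (Finset.subset_univ _) fun p _ hp => ?_).symm
        rw [h4 p hp]; norm_num
      have hd : (32 : ℤ) ∣ ∑ p ∈ twoSet u, (coordVec u p ^ 2 - 4) := Finset.dvd_sum fun p hp => by
        have := mem_twoSet.1 hp
        have := h6 p
        rcases (show coordVec u p = 2 ∨ coordVec u p = -2 ∨ coordVec u p = 6 ∨ coordVec u p = -6 by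
          rcases abs_cases (coordVec u p) with a | a <;> omega) with e | e | e | e <;>
          rw [e] <;> norm_num
      rw [Finset.sum_sub_distrib, ← hs, Finset.sum_const, h, hn] at hd
      norm_num at hd
  · right
    refine ⟨h, fun p hp => ?_⟩
    have := mem_twoSet.1 hp
    by_contra hne
    have h36 := sq_ge_of_abs (a := coordVec u p) (k := 6) (by norm_num)
      (by rcases abs_cases (coordVec u p) with a | a <;> omega)
    have hb := norm_bound (coordVec u) (A := (twoSet u).erase p) (B := {p}) (a := 4) (b := 36)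
      (by simp) (fun q hq => four_le_sq (Finset.mem_of_mem_erase hq))
      (fun q hq => by rw [Finset.mem_singleton.1 hq]; omega)
    rw [Finset.card_erase_of_mem hp, h, hn] at hb
    norm_num at hb
  all_goals
    exfalso
    have hb := mul_le_sqNorm (coordVec u) (twoSet u) 4 fun p hp => four_le_sq hp
    rw [h, hn] at hb
    norm_num at hb

theorem dodecad48_dot24 (u : leechLattice) (hn48' : sqNorm (coordVec u) = 48) (hc : (twoSet u).card = 12)
    (h2 : ∀ p ∈ twoSet u, |coordVec u p| = 2) :
    ∃ v : leechLattice, sqNorm (coordVec v) = 32 ∧ dotInt (coordVec u) (coordVec v) = 24 := by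
  classical
  obtain ⟨S, hS, hScard⟩ := Finset.exists_subset_card_eq (show 5 ≤ (twoSet u).card by omega)
  obtain ⟨O, hO, hSO⟩ := exists_octad_superset hScard.le
  have hO8 := CfsgLib.Golay.card_eq_of_mem_octads hO
  set T := twoSet u with hT
  set s : GolayPt → ℤ := fun p => if 0 < coordVec u p then 1 else -1 with hs
  have hus : ∀ p ∈ T, coordVec u p = 2 * s p := fun p hp => by
    have := h2 p hp
    simp only [hs]
    rcases abs_cases (coordVec u p) with a | a <;> split_ifs <;> omega
  have hk5 : 5 ≤ (O ∩ T).card := hScard ▸ Finset.card_le_card (Finset.subset_inter hSO hS)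
  have hk8 : (O ∩ T).card ≤ 8 := hO8 ▸ Finset.card_le_card Finset.inter_subset_left
  have hk8' : (O ∩ T).card ≠ 8 := fun e => by
    have hsub : O ⊆ T := by
      intro p hp
      have hi : O ∩ T = O := Finset.eq_of_subset_of_card_le Finset.inter_subset_left (by omega)
      rw [← hi] at hp
      exact (Finset.mem_inter.1 hp).2
    have hsum : indWord (T \ O) = indWord T + indWord O := by
      funext p
      by_cases hp : p ∈ O
      · simp [indWord, hp, hsub hp, show (1 : ZMod 2) + 1 = 0 from rfl]
      · by_cases hq : p ∈ T <;> simp [indWord, hp, hq]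
    have hcard : (T \ O).card = 4 := by rw [Finset.card_sdiff_of_subset hsub]; omega
    apply indWord_notMem (U := T \ O) (Finset.card_pos.1 (by omega)) (by omega)
    rw [hsum]
    exact golayCode.add_mem (mem_supports_iff.1 (twoSet_mem u)) (mem_supports_iff.1 hO.1)
  have h4 := four_dvd_sum_octad u hO
  rw [← Finset.sum_inter_add_sum_sdiff O T] at h4
  have hout : (4 : ℤ) ∣ ∑ p ∈ O \ T, coordVec u p := Finset.dvd_sum fun p hp => by
    have hp' := (Finset.mem_sdiff.1 hp).2
    have h2' : coordVec u p % 4 ≠ 2 := fun e => hp' (mem_twoSet.2 e)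
    rcases even_or_odd_coords u with he | ho
    · have := he p; omega
    · obtain ⟨q, hq⟩ := Finset.card_pos.1 (show 0 < T.card by omega)
      have := mem_twoSet.1 hq
      have := ho q
      omega
  rw [Finset.sum_congr rfl fun p hp => hus p (Finset.mem_inter.1 hp).2, ← Finset.mul_sum] at h4
  have hpar : (2 : ℤ) ∣ ∑ p ∈ O ∩ T, s p := by omega
  have hpar' : (2 : ℤ) ∣ ∑ p ∈ O ∩ T, (s p - 1) := Finset.dvd_sum fun p _ => by
    simp only [hs]; split_ifs <;> norm_num
  rw [Finset.sum_sub_distrib, Finset.sum_const, nsmul_eq_mul, mul_one] at hpar'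
  have hk : (O ∩ T).card = 6 := by omega
  have hd2 : (O \ T).card = 2 := by
    have := Finset.card_sdiff_add_card_inter O T
    omega
  obtain ⟨a, b, hab, hOT⟩ := Finset.card_eq_two.1 hd2
  set S0 := ∑ p ∈ O ∩ T, s p with hS0
  set f : GolayPt → ℤ := fun p =>
    if p ∈ T then s p else if p = a then 1 else if S0 % 4 = 0 then -1 else 1 with hf
  have hfsum : (4 : ℤ) ∣ ∑ p ∈ O, f p := by
    rw [← Finset.sum_inter_add_sum_sdiff O T, hOT, Finset.sum_pair hab,
      Finset.sum_congr rfl fun p hp => show f p = s p by simp [hf, (Finset.mem_inter.1 hp).2]]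
    have ha : a ∉ T := (Finset.mem_sdiff.1 (show a ∈ O \ T by simp [hOT])).2
    have hb : b ∉ T := (Finset.mem_sdiff.1 (show b ∈ O \ T by simp [hOT])).2
    simp only [hf, if_neg ha, if_neg hb, if_neg hab.symm, if_true, ← hS0]
    split_ifs <;> omega
  obtain ⟨e, hev, hen⟩ := exists_octad_vec hO f
    (fun p _ => by simp only [hf, hs]; split_ifs <;> norm_num) hfsum
  refine ⟨e, hen, ?_⟩
  simp only [dotInt, hev, mul_ite, mul_zero, Finset.sum_ite_mem, Finset.univ_inter]
  rw [← Finset.sum_inter_add_sum_sdiff O T]
  have h1 : ∀ p ∈ O ∩ T, coordVec u p * (2 * f p) = 4 := fun p hp => by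
    have hp' := (Finset.mem_inter.1 hp).2
    rw [hus p hp']
    simp only [hf, if_pos hp', hs]
    split_ifs <;> norm_num
  have h0 : ∀ p ∈ O \ T, coordVec u p = 0 := fun p hp => by
    by_contra hne
    have hp' := (Finset.mem_sdiff.1 hp).2
    have hb := norm_bound (coordVec u) (A := T) (B := {p}) (a := 4) (b := 1)
      (by simp [hp']) (fun q hq => four_le_sq hq)
      (fun q hq => by
        rw [Finset.mem_singleton.1 hq]
        have := sq_ge_of_abs (a := coordVec u p) (k := 1) (by norm_num) (Int.one_le_abs hne)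
        omega)
    rw [hc, hn48'] at hb
    norm_num at hb
  rw [Finset.sum_congr rfl h1, Finset.sum_eq_zero (s := O \ T) fun p hp => by rw [h0 p hp, zero_mul]]
  simp [hk]

theorem exists_dot24 (u : leechLattice) (hn : sqNorm (coordVec u) = 48) :
    ∃ v : leechLattice, sqNorm (coordVec v) = 32 ∧ dotInt (coordVec u) (coordVec v) = 24 := by
  rcases even_or_odd_coords u with he | ho
  · rcases even48_cases u hn he with ⟨i, j, hij, h⟩ | ⟨hc, h2⟩
    · exact exists_pair_dot24 u hij h
    · exact dodecad48_dot24 u hn hc h2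
  · obtain ⟨i, j, hij, h⟩ := odd48_pair u hn ho
    exact exists_pair_dot24 u hij h

/-- `Co0` is transitive on the vectors of squared length 48. -/
theorem transitive_norm48 {u u' : leechLattice} (hu : sqNorm (coordVec u) = 48)
    (hu' : sqNorm (coordVec u') = 48) : ∃ g : Co0, g • u = u' := by
  obtain ⟨v, hv, hd⟩ := exists_dot24 u hu
  obtain ⟨v', hv', hd'⟩ := exists_dot24 u' hu'
  have key : ∀ a b : leechLattice, sqNorm (coordVec a) = 48 → sqNorm (coordVec b) = 32 →
      dotInt (coordVec a) (coordVec b) = 24 →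
      sqNorm (coordVec (a - b)) = 32 ∧ dotInt (coordVec b) (coordVec (a - b)) = -8 := by
    intro a b ha hb hab
    simp only [coordVec, AddSubgroup.coe_sub] at *
    refine ⟨by rw [sqNorm_sub, ha, hab, hb]; norm_num, ?_⟩
    rw [sub_eq_add_neg, dotInt_add_right, dotInt_neg_right, dotInt_comm', hab, dotInt_self, hb]
    norm_num
  obtain ⟨hw, hvw⟩ := key u v hu hv hd
  obtain ⟨hw', hvw'⟩ := key u' v' hu' hv' hd'
  obtain ⟨g, h1, h2⟩ := pair_transitive hv hw hv' hw' (Or.inr (Or.inl rfl)) hvw hvw'
  refine ⟨g, ?_⟩
  rw [show u = v + (u - v) by abel, smul_add_co0, h1, h2]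
  abel

end CfsgLib.Leech
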