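import Cfsg.Agent.Lib.Leech.Act

/-!
Orbits of minimal vectors under two checked matrices, enumerated in the kernel along a spanning tree
given by a list of operations.
-/

set_option autoImplicit false

namespace CfsgLib.Leech

open Cfsg Finset CfsgLib.Fischer2
open scoped Pointwise

/-! ### Keys -/

/-- Digits of base 4096. -/
def enc (L : List ℤ) : ℤ := L.foldr (fun a r => a + 4096 * r) 0

/-- Digits of base 4096 of natural numbers. -/
def encN (L : List ℕ) : ℕ := L.foldr (fun a r => a + 4096 * r) 0

/-- The shifted entries of a list. -/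
def shift8 (L : List ℤ) : List ℕ := L.map fun a : ℤ => (a + 8).toNat

/-- The key of a list. -/
def keyL (L : List ℤ) : ℕ := encN (shift8 L)

/-- The key of a lattice vector. -/
def key (x : leechLattice) : ℕ := keyL (ofVec (coordVec x))

/-- The combination of the shifted columns of a matrix. -/
def colsOf : List (List ℤ) → List ℤ
  | [] => List.replicate 24 0
  | r :: rs => List.zipWith (fun a c => a + 8 + 4096 * c) r (colsOf rs)

/-- The shifted row sums of a matrix, encoded. -/
def rowData (M : List (List ℤ)) : ℤ := 8 * enc (M.map fun r => r.sum + 192)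

/-- The kernel data of a matrix are correct. -/
def dataOk (M : List (List ℤ)) (D : List ℕ × ℕ) : Bool :=
  decide (M.length = 24) && M.all (fun r => decide (r.length = 24)) &&
    decide (D.1.map Int.ofNat = colsOf M) && decide ((D.2 : ℤ) = rowData M)

/-- One pass over the digits of a key. -/
noncomputable def colLoop (cols : List ℕ) : ℕ → ℕ → ℕ → (ℕ → ℕ → ℕ) → ℕ :=
  List.rec (fun _ l s k => k l s) (fun c _ r key l s k =>
    r (Nat.div key 4096) (Nat.add l (Nat.mul (Nat.mod key 4096) c)) (Nat.add s (Nat.mod key 4096)) k) cols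

/-- The key of the image. -/
noncomputable def stepKey (D : List ℕ × ℕ) (k : ℕ) : ℕ :=
  colLoop D.1 k 0 0 fun l s =>
    Nat.div (Nat.sub (Nat.add l (Nat.mul 1600 121446455777725675740020085017538666691198083222795535394496697654007203177663827969))
      (Nat.add D.2 (Nat.mul s (Nat.mul 8 121446455777725675740020085017538666691198083222795535394496697654007203177663827969)))) 8

/-- Strict evaluation followed by a list-valued continuation. -/
noncomputable def forceList (x : ℕ) (k : ℕ → List ℕ) : List ℕ :=
  Nat.rec (k Nat.zero) (fun m _ => k (Nat.succ m)) x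

/-- The vertices met along the operations: 1 and 2 push an image of the top, 0 pops. -/
noncomputable def walk (D1 D2 : List ℕ × ℕ) (ops : List ℕ) : List ℕ → List ℕ :=
  List.rec (fun _ => []) (fun o _ r st =>
    Bool.rec
      (Bool.rec
        (Bool.rec (r st)
          (List.rec (r st) (fun t _ _ => forceList (stepKey D2 t) fun c => c :: r (c :: st)) st)
          (Nat.beq o 2))
        (List.rec (r st) (fun t _ _ => forceList (stepKey D1 t) fun c => c :: r (c :: st)) st)
        (Nat.beq o 1))
      (List.rec (r []) (fun _ tl _ => r tl) st)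
      (Nat.beq o 0)) ops

/-- The operations packed by 64 in base 4. -/
noncomputable def unpackOps (L : List ℕ) : List ℕ :=
  List.rec [] (fun n _ r => Nat.rec (motive := fun _ => ℕ → List ℕ) (fun _ => r)
    (fun _ f m => Nat.mod m 4 :: f (Nat.div m 4)) 64 n) L

/-- A hash for keys. -/
def hashKey (k : ℕ) : ℕ := Nat.mod k 1000000000000000003

/-- A lower bound for the number of different entries. -/
noncomputable def countD : ℕ → List ℕ → ℕ := fun fuel =>
  Nat.rec (fun L => List.rec 0 (fun _ _ _ => 1) L)
    (fun f r L => List.rec 0 (fun _ t _ => List.rec 1 (fun _ _ _ =>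
      Nat.add (r (L.filter fun k => Nat.beq (Nat.mod (Nat.div k (Nat.pow 2 f)) 2) 0))
        (r (L.filter fun k => Nat.beq (Nat.mod (Nat.div k (Nat.pow 2 f)) 2) 1))) t) L) fuel

/-! ### Soundness -/

theorem countD_le : ∀ (fuel : ℕ) (L : List ℕ), countD fuel L ≤ L.toFinset.card := by
  intro fuel
  have h1 : ∀ L : List ℕ, L ≠ [] → 1 ≤ L.toFinset.card := fun L hL =>
    Finset.card_pos.2 ⟨L.head hL, List.mem_toFinset.2 (List.head_mem hL)⟩
  induction fuel with
  | zero =>
    intro L
    cases L with
    | nil => simp [countD]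
    | cons a t => exact h1 _ (by simp)
  | succ f ih =>
    intro L
    cases L with
    | nil => simp [countD]
    | cons a t =>
      cases t with
      | nil => exact h1 _ (by simp)
      | cons b u =>
        set L := a :: b :: u
        show countD f (L.filter fun k => Nat.beq (k / 2 ^ f % 2) 0) +
          countD f (L.filter fun k => Nat.beq (k / 2 ^ f % 2) 1) ≤ _
        refine le_trans (Nat.add_le_add (ih _) (ih _)) ?_
        rw [← Finset.card_union_of_disjoint (Finset.disjoint_left.2 fun k hk hk' => by
          simp only [List.mem_toFinset, List.mem_filter] at hk hk'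
          have a := Nat.eq_of_beq_eq_true hk.2
          have b := Nat.eq_of_beq_eq_true hk'.2
          omega)]
        refine Finset.card_le_card fun k hk => ?_
        simp only [Finset.mem_union, List.mem_toFinset, List.mem_filter] at hk ⊢
        rcases hk with h | h <;> exact h.1

theorem enc_cons (a : ℤ) (L : List ℤ) : enc (a :: L) = a + 4096 * enc L := rfl

theorem enc_map_add {α : Type*} (f g : α → ℤ) : ∀ L : List α,
    enc (L.map fun a => f a + g a) = enc (L.map f) + enc (L.map g)
  | [] => rfl
  | a :: L => by simp only [List.map_cons, enc_cons, enc_map_add f g L]; ring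

theorem enc_map_mul {α : Type*} (c : ℤ) (f : α → ℤ) : ∀ L : List α,
    enc (L.map fun a => c * f a) = c * enc (L.map f)
  | [] => by simp [enc]
  | a :: L => by simp only [List.map_cons, enc_cons, enc_map_mul c f L]; ring

theorem encN_cast : ∀ L : List ℕ, (encN L : ℤ) = enc (L.map Int.ofNat)
  | [] => rfl
  | a :: L => by
    show ((a + 4096 * encN L : ℕ) : ℤ) = _
    rw [List.map_cons, enc_cons, ← encN_cast L]; push_cast; rfl

theorem dotL_add_right : ∀ (x a b : List ℤ), a.length = b.length →
    dotL x (List.zipWith (· + ·) a b) = dotL x a + dotL x b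
  | [], a, b, _ => by simp [dotL]
  | _ :: _, [], [], _ => by simp [dotL]
  | _ :: _, [], _ :: _, h => by simp at h
  | _ :: _, _ :: _, [], h => by simp at h
  | x :: xs, a :: as, b :: bs, h => by
    simp only [List.zipWith_cons_cons, dotL_cons, dotL_add_right xs as bs (by simpa using h)]
    ring

theorem length_colsOf : ∀ {M : List (List ℤ)}, (∀ r ∈ M, r.length = 24) → (colsOf M).length = 24
  | [], _ => by simp [colsOf]
  | r :: rs, h => by
    simp [colsOf, h r List.mem_cons_self, length_colsOf fun s hs => h s (List.mem_cons_of_mem _ hs)]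

theorem dotL_colsOf (x : List ℤ) (hx : x.length = 24) : ∀ M : List (List ℤ),
    (∀ r ∈ M, r.length = 24) →
      dotL x (colsOf M) = enc (M.map fun r => dotL r x + 8 * x.sum)
  | [], _ => by
    show dotL x (List.replicate 24 0) = 0
    have : ∀ (n : ℕ) (x : List ℤ), dotL x (List.replicate n 0) = 0 := by
      intro n
      induction n with
      | zero => intro x; cases x <;> simp [dotL]
      | succ n ih => intro x; cases x <;> simp [dotL_nil, List.replicate_succ, dotL_cons, ih]
    exact this _ x
  | r :: rs, h => by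
    have ih := dotL_colsOf x hx rs fun s hs => h s (List.mem_cons_of_mem _ hs)
    have hc := length_colsOf fun s hs => h s (List.mem_cons_of_mem r hs)
    have hr := h r List.mem_cons_self
    rw [List.map_cons, enc_cons, ← ih, colsOf]
    have key : ∀ (x a c : List ℤ), x.length = a.length → a.length = c.length →
        dotL x (List.zipWith (fun a c => a + 8 + 4096 * c) a c) =
          dotL a x + 8 * x.sum + 4096 * dotL x c := by
      intro x
      induction x with
      | nil => intro a c h1 _; cases a <;> simp_all [dotL]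
      | cons y ys ih' =>
        intro a c h1 h2
        cases a with
        | nil => simp at h1
        | cons b bs =>
          cases c with
          | nil => simp at h2
          | cons d ds =>
            simp only [List.zipWith_cons_cons, dotL_cons, List.sum_cons,
              ih' bs ds (by simpa using h1) (by simpa using h2)]
            ring
    exact key x r (colsOf rs) (by omega) (by omega)

theorem colLoop_spec : ∀ (cols xs : List ℕ), xs.length = cols.length → (∀ a ∈ xs, a < 4096) →
    ∀ (l s : ℕ) (k : ℕ → ℕ → ℕ),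
    colLoop cols (encN xs) l s k = k (l + (List.zipWith (· * ·) xs cols).sum) (s + xs.sum)
  | [], [], _, _, l, s, k => rfl
  | [], _ :: _, h, _, _, _, _ => by simp at h
  | _ :: _, [], h, _, _, _, _ => by simp at h
  | c :: cols, a :: xs, h, hlt, l, s, k => by
    show colLoop cols ((a + 4096 * encN xs) / 4096) (l + (a + 4096 * encN xs) % 4096 * c)
      (s + (a + 4096 * encN xs) % 4096) k = _
    have ha := hlt a List.mem_cons_self
    rw [show (a + 4096 * encN xs) / 4096 = encN xs by omega,
      show (a + 4096 * encN xs) % 4096 = a by omega,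
      colLoop_spec cols xs (by simpa using h) (fun b hb => hlt b (List.mem_cons_of_mem _ hb))]
    simp [Nat.add_assoc]

theorem enc_replicate (c : ℤ) : ∀ n : ℕ,
    enc (List.replicate n c) = c * enc (List.replicate n 1)
  | 0 => by simp [enc]
  | n + 1 => by simp only [List.replicate_succ, enc_cons, enc_replicate c n]; ring

theorem stepKey_keyL {M : List (List ℤ)} {D : List ℕ × ℕ} (hD : dataOk M D = true) {L : List ℤ}
    (hl : L.length = 24) (hL : ∀ a ∈ L, |a| ≤ 8) (hdiv : ∀ r ∈ M, (8 : ℤ) ∣ dotL r L)
    (hy : ∀ r ∈ M, |dotL r L / 8| ≤ 8) :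
    stepKey D (keyL L) = keyL ((applyM M L).map (· / 8)) := by
  simp only [dataOk, Bool.and_eq_true, List.all_eq_true, decide_eq_true_eq] at hD
  obtain ⟨⟨⟨hM, hr⟩, hcols⟩, hA⟩ := hD
  have hshift : ∀ a ∈ L, ((a + 8).toNat : ℤ) = a + 8 := fun a ha => by
    have := abs_le.1 (hL a ha); omega
  have hlc : D.1.length = 24 := by
    have := congrArg List.length hcols
    rwa [List.length_map, length_colsOf hr] at this
  rw [stepKey, keyL, colLoop_spec _ _ (by simp [shift8, hl, hlc]) (by
    intro a ha
    obtain ⟨b, hb, rfl⟩ := List.mem_map.1 ha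
    have := abs_le.1 (hL b hb); omega)]
  set xs := shift8 L with hxs
  set y := (applyM M L).map (· / 8) with hy'
  have hxsum : (xs.sum : ℤ) = L.sum + 192 := by
    have : ∀ L : List ℤ, (∀ a ∈ L, ((a + 8).toNat : ℤ) = a + 8) →
        ((shift8 L).sum : ℤ) = L.sum + 8 * L.length := by
      intro L
      induction L with
      | nil => intro _; rfl
      | cons a L ih =>
        intro h
        simp only [shift8, List.map_cons, List.sum_cons, List.length_cons] at ih ⊢
        push_cast [h a List.mem_cons_self, ih fun b hb => h b (List.mem_cons_of_mem _ hb)]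
        ring
    rw [hxs, this L hshift, hl]; norm_num
  have hdot : (((List.zipWith (· * ·) xs D.1).sum : ℕ) : ℤ) =
      enc (M.map fun r => dotL r L + 8 * r.sum + 8 * (xs.sum : ℤ)) := by
    have h1 : ∀ a b : List ℕ, (((List.zipWith (· * ·) a b).sum : ℕ) : ℤ) =
        dotL (a.map Int.ofNat) (b.map Int.ofNat) := by
      intro a
      induction a with
      | nil => intro b; simp [dotL]
      | cons x a ih =>
        intro b
        cases b with
        | nil => simp [dotL]
        | cons y b =>
          simp only [List.zipWith_cons_cons, List.sum_cons, List.map_cons, dotL_cons, Nat.cast_add,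
            Nat.cast_mul, ih b, Int.ofNat_eq_natCast]
    have hx' : xs.map Int.ofNat = L.map (fun a => a + 8) := by
      rw [hxs, shift8, List.map_map]
      exact List.map_congr_left fun a ha => hshift a ha
    rw [h1, hcols, hx', dotL_colsOf _ (by simp [hl]) M hr, hxsum]
    refine congrArg enc (List.map_congr_left fun r hrm => ?_)
    have h2 : ∀ r L : List ℤ, r.length = L.length →
        dotL r (L.map fun a => a + 8) = dotL r L + 8 * r.sum := by
      intro r
      induction r with
      | nil => intro L _; simp [dotL]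
      | cons a r ih =>
        intro L hlen
        cases L with
        | nil => simp at hlen
        | cons b L =>
          simp only [List.map_cons, dotL_cons, List.sum_cons, ih L (by simpa using hlen)]
          ring
    have h3 : ∀ L : List ℤ, (L.map fun a => a + 8).sum = L.sum + 8 * L.length := by
      intro L
      induction L with
      | nil => rfl
      | cons a L ih => simp only [List.map_cons, List.sum_cons, ih, List.length_cons]; push_cast; ring
    rw [h2 r L (by rw [hr r hrm, hl]), h3, hl]
    norm_num
  have hY : (encN (shift8 y) : ℤ) = enc (M.map fun r => dotL r L / 8 + 8) := by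
    rw [encN_cast, shift8, hy', applyM, List.map_map, List.map_map, List.map_map]
    refine congrArg enc (List.map_congr_left fun r hrm => ?_)
    have := abs_le.1 (hy r hrm)
    show Int.ofNat (dotL r L / 8 + 8).toNat = _
    exact Int.toNat_of_nonneg (by omega)
  have hJ : enc (List.replicate 24 1) = 121446455777725675740020085017538666691198083222795535394496697654007203177663827969 := by decide +kernel
  have hconst : ∀ c : ℤ, enc (M.map fun _ => c) = c * 121446455777725675740020085017538666691198083222795535394496697654007203177663827969 := fun c => by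
    rw [List.map_const', hM, enc_replicate, hJ]
  show (0 + (List.zipWith (· * ·) xs D.1).sum + 1600 * 121446455777725675740020085017538666691198083222795535394496697654007203177663827969 -
    (D.2 + (0 + xs.sum) * (8 * 121446455777725675740020085017538666691198083222795535394496697654007203177663827969))) / 8 = encN (shift8 y)
  have hid : (((List.zipWith (· * ·) xs D.1).sum : ℕ) : ℤ) + 1600 * 121446455777725675740020085017538666691198083222795535394496697654007203177663827969 =
      8 * (encN (shift8 y) : ℤ) + ((D.2 : ℤ) + (xs.sum : ℤ) * (8 * 121446455777725675740020085017538666691198083222795535394496697654007203177663827969)) := by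
    rw [hY, hA, rowData, hdot, enc_map_add, enc_map_add, hconst, enc_map_mul, ← enc_map_mul 8,
      ← enc_map_mul 8, show (fun r : List ℤ => 8 * (dotL r L / 8 + 8)) =
        fun r => 8 * (dotL r L / 8) + 64 from funext fun r => by ring,
      enc_map_add (fun r => 8 * (dotL r L / 8)) (fun _ => (64 : ℤ)), hconst,
      enc_map_add (fun r : List ℤ => r.sum) (fun _ => (192 : ℤ)), hconst,
      enc_map_mul 8 (fun r : List ℤ => r.sum),
      List.map_congr_left fun r hrm => (Int.mul_ediv_cancel' (hdiv r hrm))]
    ring
  omega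

/-- Keys of the vectors in an orbit. -/
def KeyIn (S : Set leechLattice) (k : ℕ) : Prop := ∃ x ∈ S, key x = k

theorem walk_subset {D1 D2 : List ℕ × ℕ} {R : ℕ → Prop} (h1 : ∀ k, R k → R (stepKey D1 k))
    (h2 : ∀ k, R k → R (stepKey D2 k)) :
    ∀ (ops st : List ℕ), (∀ k ∈ st, R k) → ∀ k ∈ walk D1 D2 ops st, R k := by
  have hforce : ∀ (x : ℕ) (f : ℕ → List ℕ), forceList x f = f x := fun x f => by cases x <;> rfl
  intro ops
  induction ops with
  | nil => intro st _ k hk; simp [walk] at hk
  | cons o ops ih =>
    intro st hst k hk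
    change k ∈ Bool.rec (motive := fun _ => List ℕ) _ _ (Nat.beq o 0) at hk
    rcases Bool.eq_false_or_eq_true (Nat.beq o 0) with e0 | e0 <;> rw [e0] at hk
    · cases st with
      | nil => exact ih [] (by simp) k hk
      | cons t tl => exact ih tl (fun j hj => hst j (List.mem_cons_of_mem _ hj)) k hk
    · rcases Bool.eq_false_or_eq_true (Nat.beq o 1) with e1 | e1 <;> simp only [e1] at hk
      · cases st with
        | nil => exact ih [] (by simp) k hk
        | cons t tl =>
          change k ∈ forceList (stepKey D1 t) _ at hk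
          rw [hforce] at hk
          have hc := h1 t (hst t List.mem_cons_self)
          rcases List.mem_cons.1 hk with rfl | hk
          · exact hc
          · exact ih _ (List.forall_mem_cons.2 ⟨hc, hst⟩) k hk
      · rcases Bool.eq_false_or_eq_true (Nat.beq o 2) with e2 | e2 <;> simp only [e2] at hk
        · cases st with
          | nil => exact ih [] (by simp) k hk
          | cons t tl =>
            change k ∈ forceList (stepKey D2 t) _ at hk
            rw [hforce] at hk
            have hc := h2 t (hst t List.mem_cons_self)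
            rcases List.mem_cons.1 hk with rfl | hk
            · exact hc
            · exact ih _ (List.forall_mem_cons.2 ⟨hc, hst⟩) k hk
        · exact ih st hst k hk

theorem abs_le_eight {x : GolayPt → ℤ} (h : sqNorm x = 32) (p : GolayPt) : |x p| ≤ 8 := by
  have := sq_le_sqNorm x p
  exact abs_le_of_sq_le_sq (by omega) (by norm_num)

theorem key_matAut {M : List (List ℤ)} (h : matOk M = true) {D : List ℕ × ℕ}
    (hD : dataOk M D = true) {x : leechLattice} (hx : sqNorm (coordVec x) = 32) :
    stepKey D (key x) = key (matAut M h • x) := by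
  have hM := h
  simp only [matOk, Bool.and_eq_true, List.all_eq_true, decide_eq_true_eq] at hM
  obtain ⟨⟨⟨hlen, hr⟩, -⟩, -⟩ := hM
  have hL : (ofVec (coordVec x)).length = 24 := length_ofVec _
  have hrow : ∀ r ∈ M, ∃ p, dotL r (ofVec (coordVec x)) = matApply M (coordVec x) p := by
    intro r hrm
    obtain ⟨i, hi, rfl⟩ := List.getElem_of_mem hrm
    refine ⟨CfsgLib.Golay.pt i, ?_⟩
    show _ = dotInt (toVec (M.getD (CfsgLib.Golay.idx (CfsgLib.Golay.pt i)) [])) _
    conv_rhs => rw [CfsgLib.Golay.idx_pt (by omega), List.getD_eq_getElem _ _ hi, ← toVec_ofVec (coordVec x)]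
    exact (dotInt_toVec (hr _ hrm) hL).symm
  have himg := sqNorm_matAct h x.2
  rw [hx] at himg
  rw [key, stepKey_keyL hD hL (fun a ha => by
      obtain ⟨i, -, rfl⟩ := List.mem_map.1 ha
      exact abs_le_eight hx _)
    (fun r hrm => by
      obtain ⟨p, hp⟩ := hrow r hrm
      rw [hp]; exact (matAct_props h x.2).1 p)
    (fun r hrm => by
      obtain ⟨p, hp⟩ := hrow r hrm
      rw [hp]; exact abs_le_eight himg p), key, coordVec_matAut]
  congr 1
  refine List.ext_getElem (by simp [applyM, hlen, length_ofVec]) fun i h1 h2 => ?_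
  have hi : i < 24 := by simpa [applyM, hlen] using h1
  simp only [List.getElem_map, applyM, ofVec, List.getElem_range, matAct, matApply]
  rw [CfsgLib.Golay.idx_pt hi, List.getD_eq_getElem _ _ (by omega)]
  congr 1
  conv_rhs => rw [← toVec_ofVec (coordVec x)]
  exact (dotInt_toVec (hr _ (List.getElem_mem _)) hL).symm

/-- The data of a certified orbit. -/
structure OrbitCert (F : List leechLattice) (x₀ : leechLattice) where
  M1 : List (List ℤ)
  M2 : List (List ℤ)
  D1 : List ℕ × ℕ
  D2 : List ℕ × ℕ
  ok1 : matOk M1 = true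
  ok2 : matOk M2 = true
  data1 : dataOk M1 D1 = true
  data2 : dataOk M2 D2 = true
  fix1 : matAut M1 ok1 ∈ fixGroup F
  fix2 : matAut M2 ok2 ∈ fixGroup F
  norm : sqNorm (coordVec x₀) = 32
  k₀ : ℕ
  hk₀ : key x₀ = k₀

/-- The keys met by a certificate. -/
noncomputable def certKeys (D1 D2 : List ℕ × ℕ) (k₀ : ℕ) (packed : List ℕ) : List ℕ :=
  k₀ :: walk D1 D2 (unpackOps packed) [k₀]

theorem certKeys_subset {F : List leechLattice} {x₀ : leechLattice} (C : OrbitCert F x₀)
    (packed : List ℕ) :
    ∀ k ∈ certKeys C.D1 C.D2 C.k₀ packed, KeyIn {y | ∃ g ∈ fixGroup F, g • x₀ = y} k := by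
  set S := {y | ∃ g ∈ fixGroup F, g • x₀ = y}
  have hstep : ∀ (M : List (List ℤ)) (D : List ℕ × ℕ) (h : matOk M = true), dataOk M D = true →
      matAut M h ∈ fixGroup F → ∀ k, KeyIn S k → KeyIn S (stepKey D k) := by
    rintro M D h hD hf k ⟨y, ⟨g, hg, rfl⟩, rfl⟩
    refine ⟨matAut M h • g • x₀, ⟨matAut M h * g, (fixGroup F).mul_mem hf hg, mul_smul _ _ _⟩, ?_⟩
    exact (key_matAut h hD (by rw [sqNorm_smul', C.norm])).symm
  have h0 : KeyIn S C.k₀ := ⟨x₀, ⟨1, (fixGroup F).one_mem, one_smul _ _⟩, C.hk₀⟩
  intro k hk
  rcases List.mem_cons.1 hk with rfl | hk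
  · exact h0
  · exact walk_subset (hstep _ _ C.ok1 C.data1 C.fix1) (hstep _ _ C.ok2 C.data2 C.fix2)
      _ [C.k₀] (by simpa using h0) k hk

theorem orbit_finite (F : List leechLattice) (x₀ : leechLattice) :
    {y | ∃ g ∈ fixGroup F, g • x₀ = y}.Finite :=
  ((layer_finite (sqNorm (coordVec x₀))).preimage Subtype.val_injective.injOn).subset
    fun y ⟨g, _, e⟩ => ⟨y.2, e ▸ sqNorm_smul' g x₀⟩

theorem le_ncard_orbit {F : List leechLattice} {x₀ : leechLattice} (C : OrbitCert F x₀)
    {packed : List ℕ} {n : ℕ}
    (h : countD 60 ((certKeys C.D1 C.D2 C.k₀ packed).map hashKey) = n) :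
    n ≤ {y | ∃ g ∈ fixGroup F, g • x₀ = y}.ncard := by
  classical
  have hfin := orbit_finite F x₀
  calc n ≤ ((certKeys C.D1 C.D2 C.k₀ packed).map hashKey).toFinset.card := h ▸ countD_le _ _
    _ ≤ (hfin.toFinset.image fun y => hashKey (key y)).card := Finset.card_le_card fun a ha => by
        simp only [List.mem_toFinset, List.mem_map] at ha
        obtain ⟨k, hk, rfl⟩ := ha
        obtain ⟨y, hy, rfl⟩ := certKeys_subset C packed k hk
        exact Finset.mem_image_of_mem _ (hfin.mem_toFinset.2 hy)
    _ ≤ hfin.toFinset.card := Finset.card_image_le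
    _ = _ := (Set.ncard_eq_toFinset_card _ hfin).symm

theorem orbit_eq_of_cert {F : List leechLattice} {x₀ : leechLattice} (C : OrbitCert F x₀)
    {packed : List ℕ} {n : ℕ}
    (h : countD 60 ((certKeys C.D1 C.D2 C.k₀ packed).map hashKey) = n) {X : Set leechLattice}
    (hXf : X.Finite) (hX : X.ncard = n) (hinv : ∀ g ∈ fixGroup F, ∀ y ∈ X, g • y ∈ X)
    (h0 : x₀ ∈ X) : X = {y | ∃ g ∈ fixGroup F, g • x₀ = y} := by
  refine (Set.eq_of_subset_of_ncard_le ?_ ?_ hXf).symm
  · rintro y ⟨g, hg, rfl⟩; exact hinv g hg x₀ h0
  · rw [hX]; exact le_ncard_orbit C h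

theorem transitive_of_cert {F : List leechLattice} {x₀ : leechLattice} (C : OrbitCert F x₀)
    {packed : List ℕ} {n : ℕ}
    (h : countD 60 ((certKeys C.D1 C.D2 C.k₀ packed).map hashKey) = n) {X : Set leechLattice}
    (hXf : X.Finite) (hX : X.ncard = n) (hinv : ∀ g ∈ fixGroup F, ∀ y ∈ X, g • y ∈ X)
    (h0 : x₀ ∈ X) : ∀ x ∈ X, ∀ x' ∈ X, ∃ g ∈ fixGroup F, g • x = x' := by
  rw [orbit_eq_of_cert C h hXf hX hinv h0]
  rintro x ⟨g, hg, rfl⟩ x' ⟨g', hg', rfl⟩
  exact ⟨g' * g⁻¹, (fixGroup F).mul_mem hg' ((fixGroup F).inv_mem hg),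
    by rw [mul_smul, inv_smul_smul]⟩

theorem free_of_cert {F : List leechLattice} {x₀ : leechLattice} (C : OrbitCert F x₀)
    {packed : List ℕ} {n : ℕ}
    (h : countD 60 ((certKeys C.D1 C.D2 C.k₀ packed).map hashKey) = n) {X : Set leechLattice}
    (hXf : X.Finite) (hX : X.ncard = n) (hinv : ∀ g ∈ fixGroup F, ∀ y ∈ X, g • y ∈ X)
    (h0 : x₀ ∈ X) {M : List (List ℤ)} (hM : matOk M = true) {D : List ℕ × ℕ}
    (hD : dataOk M D = true)
    (hfree : (certKeys C.D1 C.D2 C.k₀ packed).all (fun k => !Nat.beq (stepKey D k) k) = true) :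
    ∀ x ∈ X, matAut M hM • x ≠ x := by
  classical
  have horb := orbit_eq_of_cert C h hXf hX hinv h0
  intro x hx e
  have hsub : ((certKeys C.D1 C.D2 C.k₀ packed).map hashKey).toFinset ⊆
      hXf.toFinset.image fun y => hashKey (key y) := fun a ha => by
    simp only [List.mem_toFinset, List.mem_map] at ha
    obtain ⟨k, hk, rfl⟩ := ha
    obtain ⟨y, hy, rfl⟩ := certKeys_subset C packed k hk
    exact Finset.mem_image_of_mem _ (hXf.mem_toFinset.2 (horb ▸ hy))
  have hcards : (hXf.toFinset.image fun y => hashKey (key y)).card = n := by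
    refine le_antisymm (Finset.card_image_le.trans (by rw [← Set.ncard_eq_toFinset_card _ hXf, hX])) ?_
    exact (h ▸ countD_le _ _ : n ≤ _).trans (Finset.card_le_card hsub)
  have heq := Finset.eq_of_subset_of_card_le hsub (hcards.le.trans (h ▸ countD_le _ _))
  have hmem : hashKey (key x) ∈ ((certKeys C.D1 C.D2 C.k₀ packed).map hashKey).toFinset :=
    heq ▸ Finset.mem_image_of_mem _ (hXf.mem_toFinset.2 hx)
  simp only [List.mem_toFinset, List.mem_map] at hmem
  obtain ⟨k, hk, hhk⟩ := hmem
  obtain ⟨y, hy, rfl⟩ := certKeys_subset C packed k hk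
  have hinj := Finset.injOn_of_card_image_eq (s := hXf.toFinset) (f := fun y => hashKey (key y))
    (by rw [hcards, ← Set.ncard_eq_toFinset_card _ hXf, hX])
  have hyx : y = x := hinj (hXf.mem_toFinset.2 (horb ▸ hy)) (hXf.mem_toFinset.2 hx) hhk
  subst hyx
  have hne := List.all_eq_true.1 hfree _ hk
  have hn : sqNorm (coordVec y) = 32 := by
    rw [horb] at hx
    obtain ⟨g, -, rfl⟩ := hx
    rw [sqNorm_smul', C.norm]
  rw [key_matAut hM hD hn, e] at hne
  simp at hne

/-! ### Counting by several inner products -/

theorem two_mul_abs_dotInt_le (a x : GolayPt → ℤ) :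
    2 * |dotInt a x| ≤ sqNorm a + sqNorm x := by
  have h1 : 0 ≤ sqNorm (a + x) := sqNorm_nonneg _
  have h2 : 0 ≤ sqNorm (a - x) := sqNorm_nonneg _
  rw [sqNorm_add] at h1
  rw [sqNorm_sub] at h2
  rcases abs_cases (dotInt a x) with h | h <;> omega

theorem ncard_two {a b : leechLattice} (ha : sqNorm (coordVec a) ≤ 64)
    (hb : sqNorm (coordVec b) ≤ 64) {W : List ℤ}
    (hW : toVec W = fun p => coordVec a p + 128 * coordVec b p) (s t : ℤ) (hs : |s| ≤ 63) :
    {x : leechLattice | sqNorm (coordVec x) = 32 ∧ dotInt (coordVec a) (coordVec x) = s ∧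
      dotInt (coordVec b) (coordVec x) = t}.ncard =
    {x : GolayPt → ℤ | x ∈ leechLattice ∧ sqNorm x = 32 ∧ dotInt (toVec W) x = s + 128 * t}.ncard := by
  rw [ncard_mem_sep fun x => sqNorm x = 32 ∧ dotInt (toVec W) x = s + 128 * t]
  congr 1
  ext x
  refine and_congr_right fun hx => ?_
  have e : dotInt (toVec W) (coordVec x) =
      dotInt (coordVec a) (coordVec x) + 128 * dotInt (coordVec b) (coordVec x) := by
    simp only [hW, dotInt, Finset.mul_sum, ← Finset.sum_add_distrib]
    exact Finset.sum_congr rfl fun p _ => by ring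
  have h1 := two_mul_abs_dotInt_le (coordVec a) (coordVec x)
  rw [hx] at h1
  rw [e]
  rcases abs_cases (dotInt (coordVec a) (coordVec x)) with h | h <;>
    rcases abs_cases s with h' | h' <;> constructor <;> intro h2 <;>
    first | omega | (exact ⟨by omega, by omega⟩)

theorem ncard_three {a b c : leechLattice} (ha : sqNorm (coordVec a) ≤ 64)
    (hb : sqNorm (coordVec b) ≤ 64) (hc : sqNorm (coordVec c) ≤ 64) {W : List ℤ}
    (hW : toVec W = fun p => coordVec a p + 128 * coordVec b p + 16384 * coordVec c p) (s t r : ℤ)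
    (hs : |s| ≤ 63) (ht : |t| ≤ 63) :
    {x : leechLattice | sqNorm (coordVec x) = 32 ∧ dotInt (coordVec a) (coordVec x) = s ∧
      dotInt (coordVec b) (coordVec x) = t ∧ dotInt (coordVec c) (coordVec x) = r}.ncard =
    {x : GolayPt → ℤ | x ∈ leechLattice ∧ sqNorm x = 32 ∧
      dotInt (toVec W) x = s + 128 * t + 16384 * r}.ncard := by
  rw [ncard_mem_sep fun x => sqNorm x = 32 ∧ dotInt (toVec W) x = s + 128 * t + 16384 * r]
  congr 1
  ext x
  refine and_congr_right fun hx => ?_
  have e : dotInt (toVec W) (coordVec x) =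
      dotInt (coordVec a) (coordVec x) + 128 * dotInt (coordVec b) (coordVec x) +
        16384 * dotInt (coordVec c) (coordVec x) := by
    simp only [hW, dotInt, Finset.mul_sum, ← Finset.sum_add_distrib]
    exact Finset.sum_congr rfl fun p _ => by ring
  have h1 := two_mul_abs_dotInt_le (coordVec a) (coordVec x)
  have h3 := two_mul_abs_dotInt_le (coordVec b) (coordVec x)
  rw [hx] at h1 h3
  rw [e]
  rcases abs_cases (dotInt (coordVec a) (coordVec x)) with h | h <;>
    rcases abs_cases (dotInt (coordVec b) (coordVec x)) with h5 | h5 <;>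
    rcases abs_cases s with h' | h' <;> rcases abs_cases t with h6 | h6 <;> constructor <;> intro h2 <;>
    first | omega | (exact ⟨by omega, by omega, by omega⟩)

end CfsgLib.Leech
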