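import Cfsg.Agent.Lib.Leech.Subdegrees
import Cfsg.Agent.S1573
import Cfsg.Agent.S1578

/-!
Orders of the pointwise stabilisers of some configurations of two or three lattice vectors.
-/

set_option autoImplicit false

namespace CfsgLib.Leech

open Cfsg CfsgLib.Fischer2
open scoped Pointwise

/-- A pointwise stabiliser transitive on `S` has `#S` times the order of the stabiliser of one more point. -/
theorem natCard_fixGroup_cons {L : List leechLattice} {y : leechLattice} {S : Set leechLattice}
    (hinv : ∀ g ∈ fixGroup L, g • y ∈ S) (htr : ∀ z ∈ S, ∃ g ∈ fixGroup L, g • y = z) :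
    Nat.card (fixGroup L) = S.ncard * Nat.card (fixGroup (y :: L)) := by
  set H := fixGroup L
  have horb : MulAction.orbit H y = S := by
    ext z
    exact ⟨fun ⟨g, hg⟩ => hg ▸ hinv g.1 g.2, fun hz => by
      obtain ⟨g, hg, e⟩ := htr z hz
      exact ⟨⟨g, hg⟩, e⟩⟩
  let e : MulAction.stabilizer H y ≃ fixGroup (y :: L) :=
    { toFun := fun g => ⟨g.1.1, fun v hv => by
        rcases List.mem_cons.1 hv with rfl | hv
        · exact g.2
        · exact g.1.2 v hv⟩
      invFun := fun g => ⟨⟨g.1, fun v hv => g.2 v (List.mem_cons_of_mem _ hv)⟩, g.2 y List.mem_cons_self⟩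
      left_inv := fun g => rfl
      right_inv := fun g => rfl }
  rw [← Subgroup.card_mul_index (MulAction.stabilizer H y), MulAction.index_stabilizer, horb,
    Nat.card_congr e, mul_comm]

theorem natCard_fixGroup_nil : Nat.card (fixGroup ([] : List leechLattice)) = 8315553613086720000 := by
  rw [← natCard_Co0]
  exact Nat.card_congr ((MulEquiv.subgroupCongr (eq_top_iff.2 fun g _ v hv => absurd hv List.not_mem_nil)).trans
    Subgroup.topEquiv).toEquiv

theorem ncard_norm_sep (n : ℤ) :
    {x : leechLattice | sqNorm (coordVec x) = n}.ncard = (layer n).ncard :=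
  (ncard_mem_sep fun x => sqNorm x = n).symm

/-- The joint stabiliser of two minimal vectors with inner product `-16`. -/
theorem natCard_fix_pair {v w : leechLattice} (hv : sqNorm (coordVec v) = 32)
    (hw : sqNorm (coordVec w) = 32) (hd : dotInt (coordVec v) (coordVec w) = -16) :
    Nat.card (fixGroup [w, v]) = 9196830720 := by
  have h1 : Nat.card (fixGroup ([] : List leechLattice)) =
      {x : leechLattice | sqNorm (coordVec x) = 32}.ncard * Nat.card (fixGroup [v]) :=
    natCard_fixGroup_cons (fun g _ => (sqNorm_smul' g v).trans hv) fun z hz => by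
      obtain ⟨g, hg⟩ := sameOrbit_norm32 hv ptP_ne_ptQ
      obtain ⟨g', hg'⟩ := sameOrbit_norm32 hz ptP_ne_ptQ
      exact ⟨g'⁻¹ * g, fun v hv => absurd hv List.not_mem_nil, by rw [mul_smul, hg, ← hg', inv_smul_smul]⟩
  have h2 : Nat.card (fixGroup [v]) = {x : leechLattice | sqNorm (coordVec x) = 32 ∧
      dotInt (coordVec v) (coordVec x) = -16}.ncard * Nat.card (fixGroup [w, v]) :=
    natCard_fixGroup_cons (fun g hg => ⟨(sqNorm_smul' g w).trans hw, by
      conv_lhs => rw [← hg v List.mem_cons_self]
      exact (dot_smul_eq g v w).trans hd⟩) fun z hz => by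
      obtain ⟨g, g1, g2⟩ := pair_transitive hv hw hv hz.1 (Or.inr (Or.inr rfl)) hd hz.2
      exact ⟨g, fun x hx => by rw [List.mem_singleton] at hx; rw [hx, g1], g2⟩
  have c2 := (Cfsg.Agent.S1573.result (coordVec v) v.2 hv).1
  rw [ncard_mem_sep fun x => sqNorm x = 32 ∧ dotInt (coordVec v) x = -16] at c2
  rw [natCard_fixGroup_nil, ncard_norm_sep, ncard_layer_32, h2, c2] at h1
  omega

/-- The stabiliser of a point in the configuration of 275 vectors. -/
theorem natCard_fix_mcl {u v x : leechLattice} (hu : sqNorm (coordVec u) = 48)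
    (hv : sqNorm (coordVec v) = 32) (huv : sqNorm (coordVec u - coordVec v) = 32)
    (hx : x ∈ dotSet2 u v 24 16) :
    Nat.card (fixGroup [x, v, u]) = 3265920 := by
  have h1 : Nat.card (fixGroup ([] : List leechLattice)) =
      {z : leechLattice | sqNorm (coordVec z) = 48}.ncard * Nat.card (fixGroup [u]) :=
    natCard_fixGroup_cons (fun g _ => (sqNorm_smul' g u).trans hu) fun z hz => by
      obtain ⟨g, hg⟩ := transitive_norm48 hu hz
      exact ⟨g, fun v hv => absurd hv List.not_mem_nil, hg⟩
  have h2 : Nat.card (fixGroup [u]) = {z : leechLattice | sqNorm (coordVec z) = 32 ∧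
      sqNorm (coordVec u - coordVec z) = 32}.ncard * Nat.card (fixGroup [v, u]) :=
    natCard_fixGroup_cons (fun g hg => ⟨(sqNorm_smul' g v).trans hv, by
      rw [mcl_dot_iff hu ((sqNorm_smul' g v).trans hv)]
      conv_lhs => rw [← hg u List.mem_cons_self]
      exact (dot_smul_eq g u v).trans ((mcl_dot_iff hu hv).1 huv)⟩) fun z hz => by
      obtain ⟨g, g1, g2⟩ := exists_map_uv hu hv (by rw [coord_sub]; exact huv)
      obtain ⟨g', g1', g2'⟩ := exists_map_uv hu hz.1 (by rw [coord_sub]; exact hz.2)
      refine ⟨g' * g⁻¹, fun y hy => ?_, by rw [mul_smul, ← g2, inv_smul_smul, g2']⟩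
      rw [List.mem_singleton] at hy
      rw [hy, mul_smul]
      conv_lhs => rw [← g1, inv_smul_smul, g1']
  have h3 : Nat.card (fixGroup [v, u]) =
      (dotSet2 u v 24 16).ncard * Nat.card (fixGroup [x, v, u]) :=
    natCard_fixGroup_cons (fun g hg => by
      have := (smul_mem_dotSet2 (g := g)).2 hx
      rwa [hg u (by simp), hg v (by simp)] at this) fun z hz => by
      obtain ⟨g, g1, g2, g3⟩ := (mcl275 hu hv huv).2 x hx z hz
      exact ⟨g, by simp [mem_fixGroup, g1, g2], g3⟩
  have c2 : {z : leechLattice | sqNorm (coordVec z) = 32 ∧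
      sqNorm (coordVec u - coordVec z) = 32}.ncard = 552 := Cfsg.Agent.S1578.result u hu
  rw [natCard_fixGroup_nil, ncard_norm_sep, ncard_layer_48, h2, c2, h3, (mcl275 hu hv huv).1] at h1
  omega

/-- Pointwise stabilisers of corresponding lists are isomorphic. -/
noncomputable def fixGroupEquiv (h : Co0) (L : List leechLattice) :
    fixGroup L ≃* fixGroup (L.map (h • ·)) where
  toFun g := ⟨h * g.1 * h⁻¹, fun v hv => by
    obtain ⟨y, hy, rfl⟩ := List.mem_map.1 hv
    rw [mul_smul, mul_smul, inv_smul_smul, g.2 y hy]⟩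
  invFun g := ⟨h⁻¹ * g.1 * h, fun v hv => by
    rw [mul_smul, mul_smul, g.2 _ (List.mem_map_of_mem hv), inv_smul_smul]⟩
  left_inv g := Subtype.ext (by group)
  right_inv g := Subtype.ext (by group)
  map_mul' a b := Subtype.ext (by simp only [Subgroup.coe_mul]; group)

end CfsgLib.Leech
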