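import Cfsg.Agent.Lib.Leech.Classes

/-!
Consequences for arbitrary configurations: the numbers of vectors, transitivity, and the division
of each configuration by the inner product with one of its points.
-/

set_option autoImplicit false

namespace CfsgLib.Leech

open Cfsg CfsgLib.Fischer2
open scoped Pointwise

theorem mem_left_of_dot {a b c : leechLattice} {s t r : ℤ} {y : leechLattice} :
    y ∈ dotSet3 a b c s t r ↔ y ∈ dotSet2 a b s t ∧ dotInt (coordVec c) (coordVec y) = r := by
  simp only [dotSet2, dotSet3, Set.mem_ofPred_eq, and_assoc]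

theorem self_dot {x : leechLattice} (hx : sqNorm (coordVec x) = 32) :
    dotInt (coordVec x) (coordVec x) = 32 := by rw [dotInt_self, hx]

/-- A point together with two classes exhausts the set when the numbers add up. -/
theorem two_classes {a b x : leechLattice} {s t r r' : ℤ} {m m' : ℕ}
    (hx : x ∈ dotSet2 a b s t) (hr : r ≠ 32) (hr' : r' ≠ 32) (hne : r ≠ r')
    (h : (dotSet3 a b x s t r).ncard = m) (h' : (dotSet3 a b x s t r').ncard = m')
    (hX : (dotSet2 a b s t).ncard = 1 + m + m') :
    ∀ y ∈ dotSet2 a b s t, y ≠ x →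
      dotInt (coordVec x) (coordVec y) = r ∨ dotInt (coordVec x) (coordVec y) = r' := by
  have hfin := minimal_finite fun y => dotInt (coordVec a) (coordVec y) = s ∧
    dotInt (coordVec b) (coordVec y) = t
  have hsub : ({x} ∪ dotSet3 a b x s t r) ∪ dotSet3 a b x s t r' ⊆ dotSet2 a b s t := by
    rintro y ((rfl | hy) | hy)
    · exact hx
    · exact (mem_left_of_dot.1 hy).1
    · exact (mem_left_of_dot.1 hy).1
  have hd1 : Disjoint ({x} : Set leechLattice) (dotSet3 a b x s t r) :=
    Set.disjoint_left.2 fun y hy hy' => by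
      rw [Set.mem_singleton_iff.1 hy] at hy'
      have h1 := (mem_left_of_dot.1 hy').2
      rw [self_dot hx.1] at h1
      exact hr h1.symm
  have hd2 : Disjoint ({x} ∪ dotSet3 a b x s t r) (dotSet3 a b x s t r') :=
    Set.disjoint_left.2 fun y hy hy' => by
      have h2 := (mem_left_of_dot.1 hy').2
      rcases hy with hy | hy
      · rw [Set.mem_singleton_iff.1 hy, self_dot hx.1] at h2
        exact hr' h2.symm
      · exact hne ((mem_left_of_dot.1 hy).2.symm.trans h2)
  have heq := Set.eq_of_subset_of_ncard_le hsub (by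
    rw [Set.ncard_union_eq hd2 ((hfin.subset fun y hy => hsub (Or.inl hy))) (hfin.subset fun y hy =>
      hsub (Or.inr hy)), Set.ncard_union_eq hd1 (Set.finite_singleton x)
      (hfin.subset fun y hy => hsub (Or.inl (Or.inr hy))), Set.ncard_singleton, h, h', hX]) hfin
  intro y hy hyx
  rw [← heq] at hy
  rcases hy with (hy | hy) | hy
  · exact absurd hy hyx
  · exact Or.inl (mem_left_of_dot.1 hy).2
  · exact Or.inr (mem_left_of_dot.1 hy).2

theorem mcl_dot_iff {u x : leechLattice} (hu : sqNorm (coordVec u) = 48)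
    (hx : sqNorm (coordVec x) = 32) :
    sqNorm (coordVec u - coordVec x) = 32 ↔ dotInt (coordVec u) (coordVec x) = 24 := by
  rw [sqNorm_sub, hu, hx]
  omega

theorem coord_sub (u v : leechLattice) : coordVec (u - v) = coordVec u - coordVec v := rfl

theorem mcl275 {u v : leechLattice} (hu : sqNorm (coordVec u) = 48)
    (hv : sqNorm (coordVec v) = 32) (huv : sqNorm (coordVec u - coordVec v) = 32) :
    (dotSet2 u v 24 16).ncard = 275 ∧ ∀ x ∈ dotSet2 u v 24 16, ∀ x' ∈ dotSet2 u v 24 16,
      ∃ g : Co0, g • u = u ∧ g • v = v ∧ g • x = x' := by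
  obtain ⟨g, h1, h2⟩ := exists_map_uv hu hv (by rw [coord_sub]; exact huv)
  exact ⟨(ncard_dotSet2_smul h1 h2 24 16).trans ncard_class275,
    fun x hx x' hx' => transport2 h1 h2 transitive_class275 hx hx'⟩

theorem exists_map_uvx {u v x : leechLattice} (hu : sqNorm (coordVec u) = 48)
    (hv : sqNorm (coordVec v) = 32) (huv : sqNorm (coordVec u - coordVec v) = 32)
    (hx : x ∈ dotSet2 u v 24 16) :
    ∃ g : Co0, g • base48 = u ∧ g • baseP = v ∧ g • root275 = x := by
  obtain ⟨g, h1, h2⟩ := exists_map_uv hu hv (by rw [coord_sub]; exact huv)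
  obtain ⟨k, k1, k2, k3⟩ := transport2 h1 h2 transitive_class275
    (h1 ▸ h2 ▸ (smul_mem_dotSet2 (g := g)).2 (show root275 ∈ dotSet2 base48 baseP 24 16 from
      classRoot275_mem)) hx
  exact ⟨k * g, by rw [mul_smul, h1, k1], by rw [mul_smul, h2, k2], by rw [mul_smul]; exact k3⟩

theorem mcl_classes {u v x : leechLattice} (hu : sqNorm (coordVec u) = 48)
    (hv : sqNorm (coordVec v) = 32) (huv : sqNorm (coordVec u - coordVec v) = 32)
    (hx : x ∈ dotSet2 u v 24 16) :
    (dotSet3 u v x 24 16 8).ncard = 112 ∧ (dotSet3 u v x 24 16 16).ncard = 162 ∧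
    (∀ y ∈ dotSet2 u v 24 16, y ≠ x →
      dotInt (coordVec x) (coordVec y) = 8 ∨ dotInt (coordVec x) (coordVec y) = 16) ∧
    ∀ r, (r = 8 ∨ r = 16) → ∀ y ∈ dotSet3 u v x 24 16 r, ∀ y' ∈ dotSet3 u v x 24 16 r,
      ∃ g : Co0, g • u = u ∧ g • v = v ∧ g • x = x ∧ g • y = y' := by
  obtain ⟨g, h1, h2, h3⟩ := exists_map_uvx hu hv huv hx
  have c8 := (ncard_dotSet3_smul h1 h2 h3 24 16 8).trans ncard_class112
  have c16 := (ncard_dotSet3_smul h1 h2 h3 24 16 16).trans ncard_class162
  refine ⟨c8, c16, two_classes hx (by norm_num) (by norm_num) (by norm_num) c8 c16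
    (mcl275 hu hv huv).1, ?_⟩
  rintro r (rfl | rfl) y hy y' hy'
  · exact transport3 h1 h2 h3 transitive_class112 hy hy'
  · exact transport3 h1 h2 h3 transitive_class162 hy hy'

theorem hs100 {v w : leechLattice} (hv : sqNorm (coordVec v) = 48)
    (hw : sqNorm (coordVec w) = 48) (hvw : dotInt (coordVec v) (coordVec w) = -32) :
    (dotSet2 v w 24 (-24)).ncard = 100 ∧ ∀ x ∈ dotSet2 v w 24 (-24), ∀ x' ∈ dotSet2 v w 24 (-24),
      ∃ g : Co0, g • v = v ∧ g • w = w ∧ g • x = x' := by
  obtain ⟨g, h1, h2⟩ := exists_map_hs hv hw hvw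
  exact ⟨(ncard_dotSet2_smul h1 h2 24 (-24)).trans ncard_class100,
    fun x hx x' hx' => transport2 h1 h2 transitive_class100 hx hx'⟩

theorem hs_classes {v w x : leechLattice} (hv : sqNorm (coordVec v) = 48)
    (hw : sqNorm (coordVec w) = 48) (hvw : dotInt (coordVec v) (coordVec w) = -32)
    (hx : x ∈ dotSet2 v w 24 (-24)) :
    (dotSet3 v w x 24 (-24) 8).ncard = 22 ∧ (dotSet3 v w x 24 (-24) 16).ncard = 77 ∧
    (∀ y ∈ dotSet2 v w 24 (-24), y ≠ x →
      dotInt (coordVec x) (coordVec y) = 8 ∨ dotInt (coordVec x) (coordVec y) = 16) ∧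
    ∀ r, (r = 8 ∨ r = 16) → ∀ y ∈ dotSet3 v w x 24 (-24) r, ∀ y' ∈ dotSet3 v w x 24 (-24) r,
      ∃ g : Co0, g • v = v ∧ g • w = w ∧ g • x = x ∧ g • y = y' := by
  obtain ⟨g, h1, h2⟩ := exists_map_hs hv hw hvw
  obtain ⟨k, k1, k2, k3⟩ := transport2 h1 h2 transitive_class100
    (h1 ▸ h2 ▸ (smul_mem_dotSet2 (g := g)).2 (show root100 ∈ dotSet2 base48 baseH 24 (-24) from
      classRoot100_mem)) hx
  have e1 : (k * g) • base48 = v := by rw [mul_smul, h1, k1]
  have e2 : (k * g) • baseH = w := by rw [mul_smul, h2, k2]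
  have e3 : (k * g) • root100 = x := by rw [mul_smul]; exact k3
  have c8 := (ncard_dotSet3_smul e1 e2 e3 24 (-24) 8).trans ncard_class22
  have c16 := (ncard_dotSet3_smul e1 e2 e3 24 (-24) 16).trans ncard_class77
  refine ⟨c8, c16, two_classes hx (by norm_num) (by norm_num) (by norm_num) c8 c16
    (hs100 hv hw hvw).1, ?_⟩
  rintro r (rfl | rfl) y hy y' hy'
  · exact transport3 e1 e2 e3 transitive_class22 hy hy'
  · exact transport3 e1 e2 e3 transitive_class77 hy hy'

theorem mcl2025 {v w : leechLattice} (hv : sqNorm (coordVec v) = 32)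
    (hw : sqNorm (coordVec w) = 32) (hvw : dotInt (coordVec v) (coordVec w) = -8) :
    (dotSet2 v w 0 16).ncard = 2025 ∧ ∀ x ∈ dotSet2 v w 0 16, ∀ x' ∈ dotSet2 v w 0 16,
      ∃ g : Co0, g • v = v ∧ g • w = w ∧ g • x = x' := by
  obtain ⟨g, h1, h2⟩ := pair_transitive sqNorm_baseP (w := baseB) (by
    rw [← toVec_listB]; decide +kernel) hv hw (Or.inr (Or.inl rfl)) (by
    rw [← toVec_listB, ← toVec_listP]; decide +kernel) hvw
  exact ⟨(ncard_dotSet2_smul h1 h2 0 16).trans ncard_class2025,
    fun x hx x' hx' => transport2 h1 h2 transitive_class2025 hx hx'⟩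

theorem mcl2025_classes {v w x : leechLattice} (hv : sqNorm (coordVec v) = 32)
    (hw : sqNorm (coordVec w) = 32) (hvw : dotInt (coordVec v) (coordVec w) = -8)
    (hx : x ∈ dotSet2 v w 0 16) :
    ∀ p ∈ [((0 : ℤ), 330), (16, 462), (8, 1232)], ∃ y ∈ dotSet2 v w 0 16,
      (MulAction.orbit ↥(MulAction.stabilizer Co0 v ⊓ MulAction.stabilizer Co0 w ⊓
        MulAction.stabilizer Co0 x) y).ncard = p.2 := by
  obtain ⟨g, h1, h2⟩ := pair_transitive sqNorm_baseP (w := baseB) (by
    rw [← toVec_listB]; decide +kernel) hv hw (Or.inr (Or.inl rfl)) (by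
    rw [← toVec_listB, ← toVec_listP]; decide +kernel) hvw
  obtain ⟨k, k1, k2, k3⟩ := transport2 h1 h2 transitive_class2025
    (h1 ▸ h2 ▸ (smul_mem_dotSet2 (g := g)).2 (show root2025 ∈ dotSet2 baseP baseB 0 16 from
      classRoot2025_mem)) hx
  have e1 : (k * g) • baseP = v := by rw [mul_smul, h1, k1]
  have e2 : (k * g) • baseB = w := by rw [mul_smul, h2, k2]
  have e3 : (k * g) • root2025 = x := by rw [mul_smul]; exact k3
  have main : ∀ (r : ℤ) (n : ℕ) (z : leechLattice), z ∈ dotSet3 baseP baseB root2025 0 16 r →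
      (dotSet3 baseP baseB root2025 0 16 r).ncard = n →
      (∀ a ∈ dotSet3 baseP baseB root2025 0 16 r, ∀ b ∈ dotSet3 baseP baseB root2025 0 16 r,
        ∃ h ∈ fixGroup [baseP, baseB, root2025], h • a = b) →
      ∃ y ∈ dotSet2 v w 0 16, (MulAction.orbit ↥(MulAction.stabilizer Co0 v ⊓
        MulAction.stabilizer Co0 w ⊓ MulAction.stabilizer Co0 x) y).ncard = n := by
    intro r n z hz hn htr
    have hz' : (k * g) • z ∈ dotSet3 v w x 0 16 r := by
      rw [← e1, ← e2, ← e3]; exact smul_mem_dotSet3.2 hz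
    refine ⟨_, (mem_left_of_dot.1 hz').1, ?_⟩
    rw [show MulAction.orbit ↥(MulAction.stabilizer Co0 v ⊓ MulAction.stabilizer Co0 w ⊓
        MulAction.stabilizer Co0 x) ((k * g) • z) = dotSet3 v w x 0 16 r by
      ext y
      constructor
      · rintro ⟨⟨h, ⟨hv', hw'⟩, hx'⟩, rfl⟩
        have := (smul_mem_dotSet3 (g := h)).2 hz'
        rwa [MulAction.mem_stabilizer_iff.1 hv', MulAction.mem_stabilizer_iff.1 hw',
          MulAction.mem_stabilizer_iff.1 hx'] at this
      · intro hy
        obtain ⟨h, a, b, c, d⟩ := transport3 e1 e2 e3 htr hz' hy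
        exact ⟨⟨h, ⟨a, b⟩, c⟩, d⟩,
      ncard_dotSet3_smul e1 e2 e3 0 16 r, hn]
  intro p hp
  simp only [List.mem_cons, List.not_mem_nil, or_false] at hp
  rcases hp with rfl | rfl | rfl
  · exact main 0 330 _ classRoot330_mem ncard_class330 transitive_class330
  · exact main 16 462 _ classRoot462_mem ncard_class462 transitive_class462
  · exact main 8 1232 _ classRoot1232_mem ncard_class1232 transitive_class1232

/-- The classes of the 11178 vectors by inner product with one of them. -/
theorem coThree_classes {u x : leechLattice} (hu : sqNorm (coordVec u) = 48)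
    (hx : sqNorm (coordVec x) = 32) (hux : dotInt (coordVec u) (coordVec x) = -16) :
    ∀ p ∈ [((-8 : ℤ), 352), (16, 1100), (0, 4125), (8, 5600)],
      (dotSet2 u x (-16) p.1).ncard = p.2 ∧ ∃ y ∈ dotSet2 u x (-16) p.1,
        MulAction.orbit ↥(MulAction.stabilizer Co0 u ⊓ MulAction.stabilizer Co0 x) y =
          dotSet2 u x (-16) p.1 := by
  obtain ⟨g, h1, h2⟩ := exists_map_ux hu hx hux
  have main : ∀ (r : ℤ) (n : ℕ) (z : leechLattice), z ∈ dotSet2 base48 baseX (-16) r →
      (dotSet2 base48 baseX (-16) r).ncard = n →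
      (∀ a ∈ dotSet2 base48 baseX (-16) r, ∀ b ∈ dotSet2 base48 baseX (-16) r,
        ∃ h ∈ fixGroup [base48, baseX], h • a = b) →
      (dotSet2 u x (-16) r).ncard = n ∧ ∃ y ∈ dotSet2 u x (-16) r,
        MulAction.orbit ↥(MulAction.stabilizer Co0 u ⊓ MulAction.stabilizer Co0 x) y =
          dotSet2 u x (-16) r := by
    intro r n z hz hn htr
    have hz' : g • z ∈ dotSet2 u x (-16) r := by rw [← h1, ← h2]; exact smul_mem_dotSet2.2 hz
    refine ⟨(ncard_dotSet2_smul h1 h2 _ _).trans hn, _, hz', ?_⟩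
    ext y
    constructor
    · rintro ⟨⟨h, hu', hx'⟩, rfl⟩
      have := (smul_mem_dotSet2 (g := h)).2 hz'
      rwa [MulAction.mem_stabilizer_iff.1 hu', MulAction.mem_stabilizer_iff.1 hx'] at this
    · intro hy
      obtain ⟨h, a, b, c⟩ := transport2 h1 h2 htr hz' hy
      exact ⟨⟨h, a, b⟩, c⟩
  intro p hp
  simp only [List.mem_cons, List.not_mem_nil, or_false] at hp
  rcases hp with rfl | rfl | rfl | rfl
  · exact main _ _ _ classRoot352_mem ncard_class352 transitive_class352
  · exact main _ _ _ classRoot1100_mem ncard_class1100 transitive_class1100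
  · exact main _ _ _ classRoot4125_mem ncard_class4125 transitive_class4125
  · exact main _ _ _ classRoot5600_mem ncard_class5600 transitive_class5600

theorem coThree_cover {u x : leechLattice} (hu : sqNorm (coordVec u) = 48)
    (hx : sqNorm (coordVec x) = 32) (hux : dotInt (coordVec u) (coordVec x) = -16) :
    {y : leechLattice | sqNorm (coordVec y) = 32 ∧ dotInt (coordVec u) (coordVec y) = -16} =
      {x} ∪ dotSet2 u x (-16) (-8) ∪ dotSet2 u x (-16) 16 ∪ dotSet2 u x (-16) 0 ∪
        dotSet2 u x (-16) 8 := by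
  have h := coThree_classes hu hx hux
  have c1 := (h (-8, 352) (by simp)).1
  have c2 := (h (16, 1100) (by simp)).1
  have c3 := (h (0, 4125) (by simp)).1
  have c4 := (h (8, 5600) (by simp)).1
  have hX := ncard_dots_base48 (u := u) hu [-16] (by decide) (tb := [144]) (by decide) [11178] rfl
    (by decide) (by decide +kernel)
  simp only [List.map_cons, List.map_nil, List.cons.injEq, and_true] at hX
  have hfin := minimal_finite fun y => dotInt (coordVec u) (coordVec y) = -16
  have hxs : ∀ d : ℤ, x ∈ dotSet2 u x (-16) d → d = 32 := fun d hd => by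
    rw [← hd.2.2, self_dot hx]
  have hsub : ∀ d, dotSet2 u x (-16) d ⊆
      {y : leechLattice | sqNorm (coordVec y) = 32 ∧ dotInt (coordVec u) (coordVec y) = -16} :=
    fun d y hy => ⟨hy.1, hy.2.1⟩
  have fin := fun d => hfin.subset (hsub d)
  have dd : ∀ d d' : ℤ, d ≠ d' → ∀ y, y ∈ dotSet2 u x (-16) d → y ∉ dotSet2 u x (-16) d' :=
    fun d d' hne y hy hy' => hne (hy.2.2.symm.trans hy'.2.2)
  refine (Set.eq_of_subset_of_ncard_le ?_ ?_ hfin).symm
  · rintro y ((((rfl | hy) | hy) | hy) | hy)
    · exact ⟨hx, hux⟩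
    all_goals exact hsub _ hy
  · have f1 := (Set.finite_singleton x).union (fin (-8))
    rw [hX, Set.ncard_union_eq ?_ ((f1.union (fin 16)).union (fin 0)) (fin 8),
      Set.ncard_union_eq ?_ (f1.union (fin 16)) (fin 0), Set.ncard_union_eq ?_ f1 (fin 16),
      Set.ncard_union_eq ?_ (Set.finite_singleton x) (fin (-8)), Set.ncard_singleton, c1, c2, c3, c4]
    pick_goal 1
    · norm_num
    all_goals rw [Set.disjoint_left]
    all_goals intro y hy hy'
    all_goals simp only [Set.mem_union, Set.mem_singleton_iff] at hy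
    all_goals repeat' (refine Or.elim hy (fun hy => ?_) (fun hy => ?_))
    all_goals first
      | (rw [hy] at hy'; exact absurd (hxs _ hy') (by norm_num))
      | exact dd _ _ (by norm_num) y hy hy'

theorem matApply_symm_twice {M : List (List ℤ)} (h : matOk M = true)
    (hs : (List.range 24).all (fun q => decide (colAt M q = M.getD q [])) = true)
    (x : GolayPt → ℤ) (p : GolayPt) : matApply M (matApply M x) p = 64 * x p := by
  simp only [List.all_eq_true, decide_eq_true_eq, List.mem_range] at hs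
  have e : toVec (M.getD (CfsgLib.Golay.idx p) []) = matApply M (fun q => if q = p then 1 else 0) := by
    funext q
    simp only [matApply, dotInt, mul_ite, mul_one, mul_zero, Finset.sum_ite_eq', Finset.mem_univ,
      if_true]
    rw [← hs _ (CfsgLib.Golay.idx_lt p)]
    simp only [toVec, colAt]
    have hl := h
    simp only [matOk, Bool.and_eq_true, decide_eq_true_eq] at hl
    have hq : CfsgLib.Golay.idx q < M.length := by rw [hl.1.1.1]; exact CfsgLib.Golay.idx_lt q
    rw [List.getD_eq_getElem _ _ (by simpa using hq), List.getD_eq_getElem M [] hq, List.getElem_map]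
  show dotInt (toVec (M.getD (CfsgLib.Golay.idx p) [])) (matApply M x) = _
  rw [e, dot_matApply h]
  simp [dotInt]

theorem sym_Inv : (List.range 24).all (fun q => decide (colAt Cert.matInv q = Cert.matInv.getD q [])) =
    true := by decide +kernel

theorem inv_moves : (certKeys Cert.dataC1 Cert.dataC2 Cert.Orb100.k0 Cert.Orb100.ops).all
    (fun k => !Nat.beq (stepKey Cert.dataInv k) k) = true := by decide +kernel

/-- An involution without fixed points on the 100 vectors. -/
theorem hs_free_involution {v w : leechLattice} (hv : sqNorm (coordVec v) = 48)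
    (hw : sqNorm (coordVec w) = 48) (hvw : dotInt (coordVec v) (coordVec w) = -32) :
    ∃ g : Co0, g • v = v ∧ g • w = w ∧ orderOf g = 2 ∧ ∀ x ∈ dotSet2 v w 24 (-24), g • x ≠ x := by
  obtain ⟨g, h1, h2⟩ := exists_map_hs hv hw hvw
  set j := matAut Cert.matInv Cert.okInv
  have hj : j ∈ fixGroup [base48, baseH] :=
    fix_two Cert.okInv (by decide +kernel : fixOk Cert.matInv list48 = true) toVec_list48
      (by decide +kernel : fixOk Cert.matInv Cert.listH = true) rfl
  have hfree : ∀ x ∈ dotSet2 base48 baseH 24 (-24), j • x ≠ x :=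
    free_of_cert cert100 Cert.Orb100.count (minimal_finite _) ncard_class100 (inv_dotSet2 _ _)
      classRoot100_mem Cert.okInv Cert.dataOkInv inv_moves
  have hsq : j * j = 1 := Subtype.ext (Equiv.ext fun x => Subtype.ext (by
    show matAct Cert.matInv (matAct Cert.matInv (coordVec x)) = coordVec x
    funext p
    have e : matApply Cert.matInv (coordVec x) = fun q => 8 * matAct Cert.matInv (coordVec x) q :=
      funext fun q => (Int.mul_ediv_cancel' ((matAct_props Cert.okInv x.2).1 q)).symm
    have h8 := matApply_symm_twice Cert.okInv sym_Inv (coordVec x) p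
    rw [e] at h8
    have e2 : matApply Cert.matInv (fun q => 8 * matAct Cert.matInv (coordVec x) q) p =
        8 * matApply Cert.matInv (matAct Cert.matInv (coordVec x)) p := by
      simp only [matApply, dotInt, Finset.mul_sum]
      exact Finset.sum_congr rfl fun q _ => by ring
    rw [e2] at h8
    show matApply Cert.matInv (matAct Cert.matInv (coordVec x)) p / 8 = _
    omega))
  refine ⟨g * j * g⁻¹, ?_, ?_, orderOf_eq_prime ?_ ?_, fun x hx e => ?_⟩
  · rw [← h1, mul_smul, mul_smul, inv_smul_smul, hj base48 (by simp)]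
  · rw [← h2, mul_smul, mul_smul, inv_smul_smul, hj baseH (by simp)]
  · rw [pow_two, show g * j * g⁻¹ * (g * j * g⁻¹) = g * (j * j) * g⁻¹ by group, hsq]
    group
  · intro e
    have h0 := classRoot100_mem
    apply hfree _ h0
    have e' : j = 1 := by
      have := congrArg (fun z => g⁻¹ * z * g) e
      simpa [mul_assoc] using this
    rw [e', one_smul]
  · rw [← h1, ← h2, ← smul_inv_smul g x, smul_mem_dotSet2] at hx
    apply hfree _ hx
    rw [mul_smul, mul_smul] at e
    exact smul_left_cancel g (e.trans (smul_inv_smul g x).symm)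

end CfsgLib.Leech
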