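import Cfsg.Agent.Lib.ClassicalForms.Unitary.Center
import Cfsg.Agent.Lib.ClassicalForms.Unitary.Simple

/-!
# Unitary spaces over coded fields

Vectors of `F ^ n` are coded by numbers below `K ^ n`, `K` being the order of the field, one digit for
each coordinate. A group of unitary transvections with coded centres is shown to be all of `SU` when
coded tables exhibit it as transitive on the isotropic points.
-/

set_option autoImplicit false

namespace CfsgLib.Leech

open CfsgLib.ClassicalForms CfsgLib.Geometric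
open scoped Matrix

/-- Arithmetic on codes. -/
structure Ops where
  K : ℕ
  ad : ℕ → ℕ → ℕ
  ml : ℕ → ℕ → ℕ
  cj : ℕ → ℕ

namespace Ops

variable (o : Ops)

def vadd : ℕ → ℕ → ℕ → ℕ
  | 0, _, _ => 0
  | n + 1, x, y => o.ad (x % o.K) (y % o.K) + o.K * vadd n (x / o.K) (y / o.K)

def vsmul : ℕ → ℕ → ℕ → ℕ
  | 0, _, _ => 0
  | n + 1, l, x => o.ml l (x % o.K) + o.K * vsmul n l (x / o.K)

def herm : ℕ → ℕ → ℕ → ℕ
  | 0, _, _ => 0
  | n + 1, x, y => o.ad (o.ml (x % o.K) (o.cj (y % o.K))) (herm n (x / o.K) (y / o.K))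

/-- The image of `x` under the transvection with centre `p` and parameter `c`. -/
def trans (n c p x : ℕ) : ℕ := o.vadd n x (o.vsmul n (o.ml c (o.herm n x p)) p)

/-- A linear combination with coefficients read off from digits. -/
def comb (n : ℕ) (bs : List (ℕ × ℕ)) (y : ℕ) : ℕ :=
  bs.foldr (fun b acc => o.vadd n (o.vsmul n (y / o.K ^ b.1 % o.K) b.2) acc) 0

/-- The operations stay among the codes. -/
def closedOk : Bool :=
  (List.range o.K).all fun a => decide (o.cj a < o.K) &&
    (List.range o.K).all fun b => decide (o.ad a b < o.K) && decide (o.ml a b < o.K)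

end Ops

/-- An interpretation of the codes in a field. -/
structure Coded (o : Ops) (F : Type*) [Field F] (q : ℕ) where
  val : ℕ → F
  two : 1 < o.K
  closed : o.closedOk = true
  val_zero : val 0 = 0
  val_ad : ∀ a < o.K, ∀ b < o.K, val (o.ad a b) = val a + val b
  val_ml : ∀ a < o.K, ∀ b < o.K, val (o.ml a b) = val a * val b
  val_cj : ∀ a < o.K, val (o.cj a) = val a ^ q
  inj : ∀ a < o.K, ∀ b < o.K, val a = val b → a = b
  surj : ∀ x : F, ∃ a < o.K, val a = x

namespace Coded

variable {o : Ops} {F : Type*} [Field F] {q : ℕ} (C : Coded o F q)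
include C

theorem cj_lt {a : ℕ} (ha : a < o.K) : o.cj a < o.K := by
  have h := C.closed
  simp only [Ops.closedOk, List.all_eq_true, List.mem_range, Bool.and_eq_true, decide_eq_true_eq] at h
  exact (h a ha).1

theorem ad_lt {a b : ℕ} (ha : a < o.K) (hb : b < o.K) : o.ad a b < o.K := by
  have h := C.closed
  simp only [Ops.closedOk, List.all_eq_true, List.mem_range, Bool.and_eq_true, decide_eq_true_eq] at h
  exact ((h a ha).2 b hb).1

theorem ml_lt {a b : ℕ} (ha : a < o.K) (hb : b < o.K) : o.ml a b < o.K := by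
  have h := C.closed
  simp only [Ops.closedOk, List.all_eq_true, List.mem_range, Bool.and_eq_true, decide_eq_true_eq] at h
  exact ((h a ha).2 b hb).2

theorem pos : 0 < o.K := by have := C.two; omega

theorem mod_lt (x : ℕ) : x % o.K < o.K := Nat.mod_lt _ C.pos

/-- The vector with a given code. -/
def vec (n x : ℕ) : Fin n → F := fun i => C.val (x / o.K ^ (i : ℕ) % o.K)

theorem vec_head (n x : ℕ) : C.vec (n + 1) x 0 = C.val (x % o.K) := by simp [vec]

theorem vec_tail (n x : ℕ) (i : Fin n) : C.vec (n + 1) x i.succ = C.vec n (x / o.K) i := by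
  simp [vec, Nat.div_div_eq_div_mul, pow_succ']

theorem vec_zero (n : ℕ) : C.vec n 0 = 0 := funext fun i => by simp [vec, C.val_zero]

theorem step_mod {a r : ℕ} (ha : a < o.K) : (a + o.K * r) % o.K = a := by
  rw [Nat.add_mul_mod_self_left, Nat.mod_eq_of_lt ha]

theorem step_div {a r : ℕ} (ha : a < o.K) : (a + o.K * r) / o.K = r := by
  rw [Nat.add_mul_div_left _ _ C.pos, Nat.div_eq_of_lt ha, Nat.zero_add]

theorem vec_vadd : ∀ n x y, C.vec n (o.vadd n x y) = C.vec n x + C.vec n y
  | 0, _, _ => funext fun i => i.elim0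
  | n + 1, x, y => by
    have h := C.ad_lt (C.mod_lt x) (C.mod_lt y)
    funext i
    refine Fin.cases ?_ (fun j => ?_) i
    · rw [Pi.add_apply, vec_head, vec_head, vec_head, Ops.vadd, C.step_mod h,
        C.val_ad _ (C.mod_lt x) _ (C.mod_lt y)]
    · rw [Pi.add_apply, vec_tail, vec_tail, vec_tail, Ops.vadd, C.step_div h, vec_vadd n]
      rfl

theorem vec_vsmul {l : ℕ} (hl : l < o.K) : ∀ n x, C.vec n (o.vsmul n l x) = C.val l • C.vec n x
  | 0, _ => funext fun i => i.elim0
  | n + 1, x => by
    have h := C.ml_lt hl (C.mod_lt x)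
    funext i
    refine Fin.cases ?_ (fun j => ?_) i
    · rw [Pi.smul_apply, vec_head, vec_head, Ops.vsmul, C.step_mod h, C.val_ml _ hl _ (C.mod_lt x),
        smul_eq_mul]
    · rw [Pi.smul_apply, vec_tail, vec_tail, Ops.vsmul, C.step_div h, vec_vsmul hl n]
      rfl

theorem herm_lt : ∀ n x y, o.herm n x y < o.K
  | 0, _, _ => C.pos
  | n + 1, x, y => C.ad_lt (C.ml_lt (C.mod_lt x) (C.cj_lt (C.mod_lt y))) (herm_lt n _ _)

theorem herm_vec : ∀ n x y, Cfsg.hermForm n F q (C.vec n x) (C.vec n y) = C.val (o.herm n x y)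
  | 0, _, _ => by simp [Cfsg.hermForm, Ops.herm, C.val_zero]
  | n + 1, x, y => by
    rw [Ops.herm, C.val_ad _ (C.ml_lt (C.mod_lt x) (C.cj_lt (C.mod_lt y))) _ (C.herm_lt n _ _),
      C.val_ml _ (C.mod_lt x) _ (C.cj_lt (C.mod_lt y)), C.val_cj _ (C.mod_lt y), ← herm_vec n]
    simp only [Cfsg.hermForm, Fin.sum_univ_succ, vec_head, vec_tail]

theorem exists_vec : ∀ (n : ℕ) (v : Fin n → F), ∃ x < o.K ^ n, C.vec n x = v
  | 0, v => ⟨0, by simp, funext fun i => i.elim0⟩
  | n + 1, v => by
    obtain ⟨a, ha, hav⟩ := C.surj (v 0)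
    obtain ⟨r, hr, hrv⟩ := exists_vec n (Fin.tail v)
    refine ⟨a + o.K * r, ?_, funext fun i => ?_⟩
    · have : o.K * (r + 1) ≤ o.K * o.K ^ n := Nat.mul_le_mul_left _ hr
      rw [pow_succ']
      rw [Nat.mul_succ] at this
      omega
    · refine Fin.cases ?_ (fun j => ?_) i
      · rw [vec_head, C.step_mod ha, hav]
      · rw [vec_tail, C.step_div ha, hrv]; rfl

end Coded

section act

variable {n q : ℕ} {F : Type*} [Field F]

/-- The action of an element of `SU` on a vector. -/
def suAct (g : Cfsg.SU n F q) (x : Fin n → F) : Fin n → F :=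
  ap (Matrix.SpecialLinearGroup.toGL g.1) x

theorem suAct_eq (g : Cfsg.SU n F q) (x : Fin n → F) :
    suAct g x = (g.1.1 : Matrix (Fin n) (Fin n) F) *ᵥ x := by
  rw [suAct, ap_def]; rfl

theorem suAct_mul (g h : Cfsg.SU n F q) (x : Fin n → F) : suAct (g * h) x = suAct g (suAct h x) := by
  simp only [suAct, Subgroup.coe_mul, map_mul, ap_mul]

theorem suAct_one (x : Fin n → F) : suAct (1 : Cfsg.SU n F q) x = x := by
  simp only [suAct, Subgroup.coe_one, map_one, ap_one]

theorem suAct_add (g : Cfsg.SU n F q) (x y : Fin n → F) :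
    suAct g (x + y) = suAct g x + suAct g y := ap_add _ _ _

theorem suAct_smul (g : Cfsg.SU n F q) (a : F) (x : Fin n → F) :
    suAct g (a • x) = a • suAct g x := ap_smul _ _ _

theorem suAct_herm (g : Cfsg.SU n F q) (u v : Fin n → F) :
    Cfsg.hermForm n F q (suAct g u) (suAct g v) = Cfsg.hermForm n F q u v := by
  rw [suAct_eq, suAct_eq]
  exact g.2 u v

theorem suAct_ext {g h : Cfsg.SU n F q} (e : ∀ x, suAct g x = suAct h x) : g = h := by
  have : Matrix.SpecialLinearGroup.toGL g.1 = Matrix.SpecialLinearGroup.toGL h.1 := gl_ext e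
  exact Subtype.ext (Subtype.ext (congrArg Units.val this))

end act

section gens

variable {o : Ops} {n q : ℕ} {F : Type*} [Field F] [Fintype F]

/-- Every code of an isotropic vector is a multiple of a representative, by the given table. -/
def coverOk (o : Ops) (n len : ℕ) (rep hint : ℕ → ℕ) : Bool :=
  (List.range (o.K ^ n)).all fun x =>
    x == 0 || o.herm n x x != 0 ||
      (decide (hint x % o.K < o.K) && decide (hint x / o.K < len) &&
        o.vsmul n (hint x % o.K) (rep (hint x / o.K)) == x)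

/-- Each representative after the first is the image of an earlier one under one of the transvections. -/
def treeOk (o : Ops) (n c k len : ℕ) (pt rep via : ℕ → ℕ) : Bool :=
  (List.range len).all fun i =>
    i == 0 || (decide (via i / 16 < i) && decide (via i % 16 < k) &&
      o.trans n c (pt (via i % 16)) (rep (via i / 16)) == rep i)

/-- A parameter has trace zero only if it is a multiple of the given one. -/
def paramOk (o : Ops) (c : ℕ) : Bool :=
  (List.range o.K).all fun a => o.ad a (o.cj a) != 0 || a == 0 || a == c || a == o.ad c c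

variable (C : Coded o F q)

/-- A transvection with coded centre and parameter. -/
theorem exists_tv (hF : Fintype.card F = q ^ 2) {c p : ℕ} (hc : c < o.K)
    (hp : o.herm n p p = 0) (hcc : o.ad c (o.cj c) = 0) :
    ∃ t : Cfsg.SU n F q, ∀ x, suAct t x =
      x + (C.val c * Cfsg.hermForm n F q x (C.vec n p)) • C.vec n p := by
  obtain ⟨σ⟩ := exists_conj (F := F) (q := q) (by rw [Nat.card_eq_fintype_card, hF])
  have hv : Cfsg.hermForm n F q (C.vec n p) (C.vec n p) = 0 := by rw [C.herm_vec, hp, C.val_zero]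
  have htr : C.val c + σ.σ (C.val c) = 0 := by
    rw [σ.apply, ← C.val_cj _ hc, ← C.val_ad _ hc _ (C.cj_lt hc), hcc, C.val_zero]
  let g := pref σ (C.vec n p) (C.val c) (by rw [hv, mul_zero, add_zero]; exact one_ne_zero)
    (by rw [hv, mul_zero, add_zero, htr])
  refine ⟨suOfGU g (Units.ext (by rw [det_pref, hv, mul_zero, add_zero, Units.val_one])), fun x => ?_⟩
  rw [suAct]
  exact ap_pref σ (C.vec n p) (C.val c) (by rw [hv, mul_zero, add_zero]; exact one_ne_zero)
    (by rw [hv, mul_zero, add_zero, htr]) x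

include C in
/-- Transvections transitive on the isotropic points generate `SU`. -/
theorem closure_tv_eq_top (hF : Fintype.card F = q ^ 2) (hn : 4 ≤ n) {c k len : ℕ}
    {pt rep via hint : ℕ → ℕ} (t : ℕ → Cfsg.SU n F q) (hk : 0 < k) (hc : c < o.K)
    (ht : ∀ i < k, ∀ x, suAct (t i) x =
      x + (C.val c * Cfsg.hermForm n F q x (C.vec n (pt i))) • C.vec n (pt i))
    (hrep : rep 0 = pt 0) (hp : o.herm n (pt 0) (pt 0) = 0) (hp0 : C.vec n (pt 0) ≠ 0)
    (hcover : coverOk o n len rep hint = true) (htree : treeOk o n c k len pt rep via = true)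
    (hparam : paramOk o c = true) :
    Subgroup.closure (t '' Set.Iio k) = ⊤ := by
  classical
  set J := Subgroup.closure (t '' Set.Iio k) with hJ
  obtain ⟨σ⟩ := exists_conj (F := F) (q := q) (by rw [Nat.card_eq_fintype_card, hF])
  have htJ : ∀ i < k, t i ∈ J := fun i hi => Subgroup.subset_closure ⟨i, hi, rfl⟩
  have hmove : ∀ i, i < len → ∃ s ∈ J, suAct s (C.vec n (pt 0)) = C.vec n (rep i) := by
    intro i
    induction i using Nat.strong_induction_on with
    | h i ih =>
      intro hi
      rcases Nat.eq_zero_or_pos i with rfl | hpos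
      · exact ⟨1, one_mem _, by rw [suAct_one, hrep]⟩
      have h := List.all_eq_true.1 htree i (List.mem_range.2 hi)
      simp only [Bool.or_eq_true, Bool.and_eq_true, beq_iff_eq, decide_eq_true_eq] at h
      obtain ⟨⟨h1, h2⟩, h3⟩ := h.resolve_left (by omega)
      obtain ⟨s, hs, hse⟩ := ih _ h1 (by omega)
      refine ⟨t (via i % 16) * s, mul_mem (htJ _ h2) hs, ?_⟩
      rw [suAct_mul, hse, ht _ h2, ← h3, Ops.trans, C.vec_vadd, C.vec_vsmul (C.ml_lt hc (C.herm_lt ..)),
        C.val_ml _ hc _ (C.herm_lt ..), C.herm_vec]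
  refine eq_top_iff.2 ?_
  rw [← Cfsg.Agent.S0780.result hF n (by omega) (fun h => by omega), Subgroup.closure_le]
  rintro A ⟨v, a, hv, hA⟩
  have hap : ∀ x, suAct A x = x + (a * Cfsg.hermForm n F q x v) • v := fun x => by
    rw [suAct_eq, hA, Cfsg.unitaryTransvection, Matrix.add_mulVec, Matrix.one_mulVec,
      Matrix.smul_mulVec, Matrix.vecMulVec_mulVec, op_smul_eq_smul, smul_smul]
    simp only [Cfsg.hermForm, dotProduct, mul_comm]
  by_cases hv0 : v = 0
  · have : A = 1 := suAct_ext fun x => by rw [hap, hv0, suAct_one, smul_zero, add_zero]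
    rw [SetLike.mem_coe, this]; exact one_mem _
  obtain ⟨x, hx, rfl⟩ := C.exists_vec n v
  have hx0 : x ≠ 0 := fun e => hv0 (by rw [e, C.vec_zero])
  have hxh : o.herm n x x = 0 := C.inj _ (C.herm_lt ..) _ C.pos
    (by rw [← C.herm_vec, hv, C.val_zero])
  have h := List.all_eq_true.1 hcover x (List.mem_range.2 hx)
  simp only [Bool.or_eq_true, Bool.and_eq_true, beq_iff_eq, bne_iff_ne, decide_eq_true_eq] at h
  obtain ⟨⟨hl, hi⟩, hxr⟩ := h.resolve_left (by
    rintro (h | h)
    · exact hx0 h
    · exact h hxh)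
  obtain ⟨s, hs, hse⟩ := hmove _ hi
  rw [← hxr, C.vec_vsmul hl, ← hse] at hap
  set l := C.val (hint x % o.K)
  set p := C.vec n (pt 0) with hpdef
  -- move the centre to the first point
  set B := s⁻¹ * A * s with hB
  set b := a * σ.σ l * l with hb
  have hBap : ∀ y, suAct B y = y + (b * Cfsg.hermForm n F q y p) • p := fun y => by
    rw [hB, suAct_mul, suAct_mul, hap, σ.smul_right, suAct_herm, suAct_add, ← suAct_mul,
      inv_mul_cancel, suAct_one, suAct_smul, suAct_smul, ← suAct_mul, inv_mul_cancel, suAct_one,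
      smul_smul, hb]
    congr 2
    ring
  obtain ⟨j, hj⟩ : ∃ j, p j ≠ 0 := Function.ne_iff.1 hp0
  have hpp : Cfsg.hermForm n F q p p = 0 := by rw [hpdef, C.herm_vec, hp, C.val_zero]
  have hbt : b + σ.σ b = 0 := by
    have h1 := suAct_herm B (Pi.single j 1) (Pi.single j 1)
    rw [hBap, σ.add_left, σ.add_right, σ.add_right, σ.smul_left, σ.smul_left, σ.smul_right,
      σ.smul_right, hpp, σ.herm_symm (Pi.single j 1) p, σ.single_left, σ.single_left, Pi.single_eq_same] at h1
    simp only [mul_zero, add_zero, map_mul, σ.invol] at h1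
    have h2 : p j * σ.σ (p j) * (b + σ.σ b) = 0 := by linear_combination h1
    exact (mul_eq_zero.1 h2).resolve_left (mul_ne_zero hj ((map_ne_zero _).2 hj))
  obtain ⟨d, hd, hdb⟩ := C.surj b
  have hd0 : o.ad d (o.cj d) = 0 := C.inj _ (C.ad_lt hd (C.cj_lt hd)) _ C.pos (by
    rw [C.val_ad _ hd _ (C.cj_lt hd), C.val_cj _ hd, C.val_zero, hdb, ← σ.apply, hbt])
  have h := List.all_eq_true.1 hparam d (List.mem_range.2 hd)
  simp only [Bool.or_eq_true, bne_iff_ne, beq_iff_eq, hd0, ne_eq, not_true_eq_false, false_or] at h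
  have hBJ : B ∈ J := by
    have ht0 := ht 0 hk
    rcases h with (rfl | rfl) | rfl
    · have : B = 1 := suAct_ext fun y => by
        rw [hBap, suAct_one, ← hdb, C.val_zero, zero_mul, zero_smul, add_zero]
      rw [this]; exact one_mem _
    · have : B = t 0 := suAct_ext fun y => by rw [hBap, ht0, hdb]
      rw [this]; exact htJ 0 hk
    · have : B = t 0 * t 0 := suAct_ext fun y => by
        rw [hBap, suAct_mul, ht0 y, ht0, ← hdb, C.val_ad _ hc _ hc, σ.add_left, σ.smul_left, hpp,
          mul_zero, add_zero, add_assoc, ← add_smul]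
        congr 2
        ring
      rw [this]; exact mul_mem (htJ 0 hk) (htJ 0 hk)
  have : A = s * B * s⁻¹ := by rw [hB]; group
  rw [SetLike.mem_coe, this]
  exact mul_mem (mul_mem hs hBJ) (inv_mem hs)

end gens

end CfsgLib.Leech
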