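import Cfsg.Agent.Lib.Leech.UnitaryCode
import Cfsg.Agent.Lib.Parabolic.UFourTwo.Iso

/-!
# The fields of four and nine elements with coded elements
-/

set_option autoImplicit false

namespace CfsgLib.Leech

open CfsgLib.Parabolic.UFourTwo (Omega4 exists_omega4)

/-- The field of four elements `0, 1, ω, ω²`. -/
def ops4 : Ops where
  K := 4
  ad a b := a ^^^ b
  ml a b := CfsgLib.Parabolic.UFourTwo.mul4 a b
  cj a := CfsgLib.Parabolic.UFourTwo.mul4 a a

/-- The field of nine elements, `a + 3 b` standing for `a + b i` with `i² = -1`. -/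
def ops9 : Ops where
  K := 9
  ad a b := (a % 3 + b % 3) % 3 + 3 * ((a / 3 + b / 3) % 3)
  ml a b := (a % 3 * (b % 3) + 2 * (a / 3) * (b / 3)) % 3 + 3 * ((a % 3 * (b / 3) + a / 3 * (b % 3)) % 3)
  cj a := a % 3 + 3 * (2 * (a / 3) % 3)

theorem exists_coded4 {F : Type*} [Field F] [Fintype F] (hF : Fintype.card F = 4) :
    Nonempty (Coded ops4 F 2) := by
  obtain ⟨o⟩ := exists_omega4 hF
  exact ⟨{ val := o.val
           two := by decide
           closed := by decide +kernel
           val_zero := o.val_zero
           val_ad := fun a ha b hb => o.val_xor ha hb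
           val_ml := fun a ha b hb => o.val_mul ha hb
           val_cj := fun a ha => by rw [pow_two]; exact o.val_mul ha ha
           inj := o.val_injective
           surj := fun x => o.exists_code hF x }⟩

/-- The element with a given code. -/
def val9 {F : Type*} [Field F] (i : F) (a : ℕ) : F := ((a % 3 : ℕ) : F) + ((a / 3 : ℕ) : F) * i

theorem exists_coded9 {F : Type*} [Field F] [Fintype F] (hF : Fintype.card F = 9) :
    Nonempty (Coded ops9 F 3) := by
  classical
  have h3 : (3 : F) = 0 := by
    have h9 : ((9 : ℕ) : F) = 0 := by rw [← hF]; exact Nat.cast_card_eq_zero F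
    have : (3 : F) * 3 = 0 := by push_cast at h9; linear_combination h9
    simpa using this
  obtain ⟨i, hi⟩ := FiniteField.isSquare_neg_one_iff.2 (show Fintype.card F % 4 ≠ 3 by rw [hF]; decide)
  replace hi : i * i = -1 := hi.symm
  have h2 : (2 : F) ≠ 0 := fun h => one_ne_zero (α := F) (by linear_combination h3 - h)
  have hcast : ∀ n : ℕ, ((n % 3 : ℕ) : F) = n := fun n => by
    conv_rhs => rw [← Nat.mod_add_div n 3]
    push_cast
    linear_combination -((n / 3 : ℕ) : F) * h3
  have hval : ∀ r s : ℕ, r < 3 → val9 i (r + 3 * s) = (r : F) + (s : F) * i := fun r s hr => by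
    rw [val9, show (r + 3 * s) % 3 = r by omega, show (r + 3 * s) / 3 = s by omega]
  have had : ∀ a < 9, ∀ b < 9, val9 i (ops9.ad a b) = val9 i a + val9 i b := fun a _ b _ => by
    rw [ops9, hval _ _ (Nat.mod_lt _ (by norm_num)), hcast, hcast, val9, val9]
    push_cast
    ring
  have hml : ∀ a < 9, ∀ b < 9, val9 i (ops9.ml a b) = val9 i a * val9 i b := fun a _ b _ => by
    rw [ops9, hval _ _ (Nat.mod_lt _ (by norm_num)), hcast, hcast, val9, val9]
    push_cast
    linear_combination ((a / 3 : ℕ) : F) * ((b / 3 : ℕ) : F) * h3 - ((a / 3 : ℕ) : F) * ((b / 3 : ℕ) : F) * hi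
  have h0 : val9 i 0 = 0 := by simp [val9]
  have h1 : val9 i 1 = 1 := by simp [val9]
  have hinj : ∀ a < 9, ∀ b < 9, val9 i a = val9 i b → a = b := by
    intro a ha b hb h
    have hsub : ∀ a < 9, ∀ b < 9,
        a = b ∨ ∃ e < 9, ops9.ml (ops9.ad a (ops9.ml 2 b)) e = 1 := by decide +kernel
    rcases hsub a ha b hb with he | ⟨e, he, he1⟩
    · exact he
    exfalso
    have hz : val9 i (ops9.ad a (ops9.ml 2 b)) = 0 := by
      rw [had a ha _ (by simp only [ops9]; omega), hml 2 (by norm_num) b hb, h,
        show val9 i 2 = 2 by simp [val9]]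
      linear_combination (val9 i b) * h3
    have h5 := hml (ops9.ad a (ops9.ml 2 b)) (by simp only [ops9]; omega) e he
    rw [he1, hz, zero_mul, h1] at h5
    exact one_ne_zero h5
  have hcj : ∀ a < 9, val9 i (ops9.cj a) = val9 i a ^ 3 := by
    intro a ha
    have key : ∀ a < 9, ops9.cj a = ops9.ml a (ops9.ml a a) := by decide +kernel
    rw [key a ha, hml a ha _ (by simp only [ops9]; omega), hml a ha a ha]
    ring
  have hsurj : ∀ x : F, ∃ a < 9, val9 i a = x := fun x => by
    have hb : Function.Bijective fun a : Fin 9 => val9 i (a : ℕ) :=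
      (Fintype.bijective_iff_injective_and_card _).2
        ⟨fun a b h => Fin.ext (hinj _ a.2 _ b.2 h), by rw [Fintype.card_fin, hF]⟩
    obtain ⟨a, ha⟩ := hb.2 x
    exact ⟨a, a.2, ha⟩
  exact ⟨{ val := val9 i
           two := by decide
           closed := by decide +kernel
           val_zero := h0
           val_ad := had
           val_ml := hml
           val_cj := hcj
           inj := hinj
           surj := hsurj }⟩

end CfsgLib.Leech
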