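import Cfsg.Agent.Lib.Leech.Cert.UnitaryFour
import Cfsg.Agent.Lib.Leech.StabOrders

/-!
# The point stabiliser in the configuration of 275 vectors is `PSU_4(3)`
-/

set_option autoImplicit false

namespace CfsgLib.Leech

open Cfsg CfsgLib.Fischer2 CfsgLib.ClassicalForms
open scoped Pointwise

/-- The base vector of squared length 48. -/
def baseFourU : leechLattice := ofList Cert.UnitaryFour.listU Cert.UnitaryFour.listU_mem

/-- The first base minimal vector. -/
def baseFourV : leechLattice := ofList Cert.UnitaryFour.listV Cert.UnitaryFour.listV_mem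

/-- The second base minimal vector. -/
def baseFourX : leechLattice := ofList Cert.UnitaryFour.listX Cert.UnitaryFour.listX_mem

theorem baseFour_spec : sqNorm (coordVec baseFourU) = 48 ∧ sqNorm (coordVec baseFourV) = 32 ∧
    sqNorm (coordVec baseFourU - coordVec baseFourV) = 32 ∧
    baseFourX ∈ dotSet2 baseFourU baseFourV 24 16 := by
  simp only [dotSet2, Set.mem_ofPred_eq, baseFourU, baseFourV, baseFourX, coordVec_ofList]
  decide +kernel

theorem natCard_psu_four {F : Type*} [Field F] [Fintype F] (hF : Fintype.card F = 9) :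
    Nat.card (Cfsg.PSU 4 F 3) = 3265920 := by
  have hFn : Nat.card F = 3 ^ 2 := by rw [Nat.card_eq_fintype_card, hF]; norm_num
  have h := card_psu_mul hFn (n := 4) (by norm_num)
  rw [card_gu hFn] at h
  simp [Finset.prod_range_succ, Nat.even_iff, -Nat.card_eq_fintype_card] at h
  omega

theorem nonempty_fix_four {F : Type*} [Field F] [Fintype F] (hF : Fintype.card F = 9) :
    Nonempty (fixGroup [baseFourX, baseFourV, baseFourU] ≃* Cfsg.PSU 4 F 3) := by
  classical
  obtain ⟨C⟩ := exists_coded9 hF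
  have hF2 : Fintype.card F = 3 ^ 2 := by rw [hF]; norm_num
  have hc : (3 : ℕ) < ops9.K := by decide
  have htv : ∀ i, ∃ t : Cfsg.SU 4 F 3, i < 4 → ∀ x, suAct t x = x +
      (C.val 3 * Cfsg.hermForm 4 F 3 x (C.vec 4 (Cert.UnitaryFour.pt i))) •
        C.vec 4 (Cert.UnitaryFour.pt i) := by
    intro i
    by_cases hi : i < 4
    · have hp : ops9.herm 4 (Cert.UnitaryFour.pt i) (Cert.UnitaryFour.pt i) = 0 :=
        (show ∀ i < 4, ops9.herm 4 (Cert.UnitaryFour.pt i) (Cert.UnitaryFour.pt i) = 0 by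
          decide +kernel) i hi
      obtain ⟨t, ht⟩ := exists_tv C hF2 hc hp (by decide +kernel)
      exact ⟨t, fun _ => ht⟩
    · exact ⟨1, fun h => absurd h hi⟩
  choose t ht using htv
  open Cert.UnitaryFour in
  let g : ℕ → Co0 := fun i => match i with
    | 0 => matAut mat0 ok0
    | 1 => matAut mat1 ok1
    | 2 => matAut mat2 ok2
    | _ => matAut mat3 ok3
  have hp0 : C.vec 4 (Cert.UnitaryFour.pt 0) ≠ 0 := by
    intro h
    have e : ∃ j : Fin 4, Cert.UnitaryFour.pt 0 / ops9.K ^ (j : ℕ) % ops9.K ≠ 0 := by decide +kernel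
    obtain ⟨j, hj⟩ := e
    exact hj (C.inj _ (C.mod_lt _) _ C.pos (by rw [C.val_zero]; exact congrFun h j))
  open Cert.UnitaryFour in
  have hcomp : ∀ i < 4, Compatible C 112 bas K (t i) (g i) := by
    intro i hi
    interval_cases i
    · exact compatible_gen C hc ok0 dataOk0 perm0 (ht 0 hi)
    · exact compatible_gen C hc ok1 dataOk1 perm1 (ht 1 hi)
    · exact compatible_gen C hc ok2 dataOk2 perm2 (ht 2 hi)
    · exact compatible_gen C hc ok3 dataOk3 perm3 (ht 3 hi)
  open Cert.UnitaryFour in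
  have hg : ∀ i < 4, g i ∈ fixGroup [baseFourX, baseFourV, baseFourU] := by
    intro i hi
    interval_cases i
    · exact fix_three ok0 fix0_listX rfl fix0_listV rfl fix0_listU rfl
    · exact fix_three ok1 fix1_listX rfl fix1_listV rfl fix1_listU rfl
    · exact fix_three ok2 fix2_listX rfl fix2_listV rfl fix2_listU rfl
    · exact fix_three ok3 fix3_listX rfl fix3_listV rfl fix3_listU rfl
  obtain ⟨a, b, c, d⟩ := baseFour_spec
  exact nonempty_equiv_psu C hF2 (by norm_num) t g (k := 4) (by norm_num) hc ht (by decide +kernel)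
    (by decide +kernel) hp0 Cert.UnitaryFour.cover Cert.UnitaryFour.tree (by decide +kernel)
    Cert.UnitaryFour.keys hcomp hg (by norm_num) (by norm_num) Cert.UnitaryFour.move
    (by rw [natCard_fix_mcl a b c d, natCard_psu_four hF])

theorem nonempty_stab_mcl {F : Type*} [Field F] [Fintype F] (hF : Fintype.card F = 9)
    {u v x : leechLattice} (hu : sqNorm (coordVec u) = 48) (hv : sqNorm (coordVec v) = 32)
    (huv : sqNorm (coordVec u - coordVec v) = 32) (hx : x ∈ dotSet2 u v 24 16) :
    Nonempty (↥(MulAction.stabilizer Co0 u ⊓ MulAction.stabilizer Co0 v ⊓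
      MulAction.stabilizer Co0 x) ≃* Cfsg.PSU 4 F 3) := by
  obtain ⟨a, b, c, d⟩ := baseFour_spec
  obtain ⟨g, g1, g2, g3⟩ := exists_map_uvx a b c d
  obtain ⟨g', g1', g2', g3'⟩ := exists_map_uvx hu hv huv hx
  have h1 : (g' * g⁻¹) • baseFourU = u := by rw [mul_smul, ← g1, inv_smul_smul, g1']
  have h2 : (g' * g⁻¹) • baseFourV = v := by rw [mul_smul, ← g2, inv_smul_smul, g2']
  have h3 : (g' * g⁻¹) • baseFourX = x := by rw [mul_smul, ← g3, inv_smul_smul, g3']
  have e : MulAction.stabilizer Co0 u ⊓ MulAction.stabilizer Co0 v ⊓ MulAction.stabilizer Co0 x =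
      fixGroup ([baseFourX, baseFourV, baseFourU].map ((g' * g⁻¹) • ·)) := by
    ext k
    simp [mem_fixGroup, h1, h2, h3, MulAction.mem_stabilizer_iff, and_comm, and_assoc]
  obtain ⟨φ⟩ := nonempty_fix_four hF
  exact ⟨((MulEquiv.subgroupCongr e).trans (fixGroupEquiv (g' * g⁻¹) _).symm).trans φ⟩

end CfsgLib.Leech
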