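import Cfsg.Agent.Lib.Leech.Order
import Cfsg.Agent.Lib.Leech.Orbit
import Cfsg.Agent.Lib.Leech.UnitaryCode

/-!
# Projective unitary groups as pointwise stabilisers in `Co0`

Pairs of a unitary transvection and a lattice automorphism generate a subgroup of `SU × Co0` preserving
a correspondence between totally isotropic subspaces and minimal vectors. When the stabiliser has the
order of `PSU`, the correspondence gives an isomorphism.
-/

set_option autoImplicit false

namespace CfsgLib.Leech

open Cfsg CfsgLib.Fischer2 CfsgLib.ClassicalForms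
open scoped Pointwise commutatorElement

/-! ### Minimal vectors from keys -/

theorem encN_injective : ∀ a b : List ℕ, a.length = b.length → (∀ x ∈ a, x < 4096) →
    (∀ x ∈ b, x < 4096) → encN a = encN b → a = b
  | [], [], _, _, _, _ => rfl
  | [], _ :: _, h, _, _, _ => by simp at h
  | _ :: _, [], h, _, _, _ => by simp at h
  | x :: a, y :: b, h, ha, hb, e => by
    have hx := ha x List.mem_cons_self
    have hy := hb y List.mem_cons_self
    change x + 4096 * encN a = y + 4096 * encN b at e
    have hxy : x = y := by omega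
    rw [hxy, encN_injective a b (by simpa using h) (fun z hz => ha z (List.mem_cons_of_mem _ hz))
      (fun z hz => hb z (List.mem_cons_of_mem _ hz)) (by omega)]

theorem key_injective {x y : leechLattice} (hx : sqNorm (coordVec x) = 32)
    (hy : sqNorm (coordVec y) = 32) (h : key x = key y) : x = y := by
  have hlt : ∀ {z : leechLattice}, sqNorm (coordVec z) = 32 →
      ∀ a ∈ ofVec (coordVec z), |a| ≤ 8 := fun hz a ha => by
    obtain ⟨i, -, rfl⟩ := List.mem_map.1 ha
    exact abs_le_eight hz _
  have hb : ∀ {z : leechLattice}, sqNorm (coordVec z) = 32 →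
      ∀ a ∈ shift8 (ofVec (coordVec z)), a < 4096 := fun hz a ha => by
    obtain ⟨b, hb, rfl⟩ := List.mem_map.1 ha
    have := abs_le.1 (hlt hz b hb)
    omega
  have e := encN_injective _ _ (by simp [shift8, length_ofVec]) (hb hx) (hb hy) h
  have e2 : ofVec (coordVec x) = ofVec (coordVec y) := by
    refine List.ext_getElem (by simp [length_ofVec]) fun i h1 h2 => ?_
    have e3 : (shift8 (ofVec (coordVec x)))[i]'(by simpa [shift8] using h1) =
        (shift8 (ofVec (coordVec y)))[i]'(by simpa [shift8] using h2) := by simp [e]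
    have a := abs_le.1 (hlt hx _ (List.getElem_mem h1))
    have b := abs_le.1 (hlt hy _ (List.getElem_mem h2))
    simp only [shift8, List.getElem_map] at e3
    omega
  exact Subtype.ext (by rw [show (x : GolayPt → ℤ) = coordVec x from rfl,
    ← toVec_ofVec (coordVec x), e2, toVec_ofVec])

/-- The entries of the vector with a given key. -/
def keyList (k : ℕ) : List ℤ :=
  (List.range 24).map fun t => ((k / 4096 ^ t % 4096 : ℕ) : ℤ) - 8

/-- A key of a minimal vector. -/
def keyOk (k : ℕ) : Bool :=
  memTest (keyList k) && decide (dotL (keyList k) (keyList k) = 32) && decide (keyL (keyList k) = k)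

theorem exists_of_keyOk {k : ℕ} (h : keyOk k = true) :
    ∃ x : leechLattice, sqNorm (coordVec x) = 32 ∧ key x = k := by
  simp only [keyOk, Bool.and_eq_true, decide_eq_true_eq] at h
  obtain ⟨⟨h1, h2⟩, h3⟩ := h
  have hl : (keyList k).length = 24 := by simp [keyList]
  refine ⟨ofList _ h1, ?_, ?_⟩
  · rw [coordVec_ofList, ← dotInt_self, dotInt_toVec hl hl, h2]
  · have e : ofVec (coordVec (ofList _ h1)) = keyList k := by
      refine List.ext_getElem (by simp [length_ofVec, hl]) fun i hi hi' => ?_
      simp only [ofVec, List.getElem_map, List.getElem_range, coordVec_ofList, toVec]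
      rw [CfsgLib.Golay.idx_pt (by rw [← hl]; exact hi'), List.getD_eq_getElem _ _ hi']
    rw [key, e, h3]

/-! ### The checks -/

/-- The keys are those of distinct minimal vectors, listed increasingly. -/
def keysOk (m : ℕ) (K : ℕ → ℕ) : Bool :=
  (List.range m).all fun i => keyOk (K i) && (decide (i + 1 = m) || decide (K i < K (i + 1)))

/-- A transvection permutes the subspaces as the lattice automorphism permutes the vectors. -/
noncomputable def permOk (o : Ops) (n c p m : ℕ) (D : List ℕ × ℕ) (bas : ℕ → List (ℕ × ℕ))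
    (K σ : ℕ → ℕ) : Bool :=
  (List.range m).all fun i =>
    decide (σ i < m) && Nat.beq (stepKey D (K i)) (K (σ i)) &&
      (bas i).all fun b => o.comb n (bas (σ i)) (o.trans n c p b.2) == o.trans n c p b.2

/-- A transvection moves one of the subspaces. -/
def moveOk (o : Ops) (n c p : ℕ) (bas : List (ℕ × ℕ)) (a b : ℕ) : Bool :=
  bas.any (fun e => e.2 == a) && bas.any (fun e => e.2 == b) &&
    bas.all (fun e => o.herm n e.2 b == 0) && o.herm n (o.trans n c p a) b != 0

theorem eq_of_keysOk {m : ℕ} {K : ℕ → ℕ} (h : keysOk m K = true) {i j : ℕ} (hi : i < m) (hj : j < m)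
    (e : K i = K j) : i = j := by
  have step : ∀ i, i + 1 < m → K i < K (i + 1) := fun i hi => by
    have h1 := List.all_eq_true.1 h i (List.mem_range.2 (by omega))
    simp only [Bool.and_eq_true, Bool.or_eq_true, decide_eq_true_eq] at h1
    exact h1.2.resolve_left (by omega)
  have mono : ∀ d i, i + (d + 1) < m → K i < K (i + (d + 1)) := by
    intro d
    induction d with
    | zero => exact fun i hi => step i hi
    | succ d ih => exact fun i hi => (ih i (by omega)).trans (step (i + (d + 1)) (by omega))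
  by_contra hne
  rcases Nat.lt_or_gt_of_ne hne with hlt | hlt
  · obtain ⟨d, rfl⟩ := Nat.exists_eq_add_of_le (Nat.succ_le_of_lt hlt)
    have := mono d i (by omega)
    rw [show i + (d + 1) = i.succ + d by omega, ← e] at this
    exact lt_irrefl _ this
  · obtain ⟨d, rfl⟩ := Nat.exists_eq_add_of_le (Nat.succ_le_of_lt hlt)
    have := mono d j (by omega)
    rw [show j + (d + 1) = j.succ + d by omega, e] at this
    exact lt_irrefl _ this

/-! ### The correspondence -/

variable {o : Ops} {n q : ℕ} {F : Type*} [Field F]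

/-- The subspace spanned by a list of coded vectors. -/
def planeSpan (C : Coded o F q) (n : ℕ) (bs : List (ℕ × ℕ)) : Submodule F (Fin n → F) :=
  Submodule.span F {x | ∃ b ∈ bs, x = C.vec n b.2}

theorem vec_comb_mem (C : Coded o F q) (y : ℕ) : ∀ bs : List (ℕ × ℕ),
    C.vec n (o.comb n bs y) ∈ planeSpan C n bs
  | [] => by simp [Ops.comb, C.vec_zero]
  | b :: bs => by
    have hsub : planeSpan C n bs ≤ planeSpan C n (b :: bs) :=
      Submodule.span_mono fun x ⟨e, he, hx⟩ => ⟨e, List.mem_cons_of_mem _ he, hx⟩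
    show C.vec n (o.vadd n (o.vsmul n _ b.2) (o.comb n bs y)) ∈ _
    rw [C.vec_vadd, C.vec_vsmul (C.mod_lt _)]
    exact add_mem (Submodule.smul_mem _ _ (Submodule.subset_span ⟨b, List.mem_cons_self, rfl⟩))
      (hsub (vec_comb_mem C y bs))

/-- The compatibility of a pair of group elements with the correspondence. -/
def Compatible (C : Coded o F q) (m : ℕ) (bas : ℕ → List (ℕ × ℕ)) (K : ℕ → ℕ)
    (s : Cfsg.SU n F q) (g : Co0) : Prop :=
  ∀ i < m, ∃ j < m, (∀ x ∈ planeSpan C n (bas i), suAct s x ∈ planeSpan C n (bas j)) ∧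
    ∀ x : leechLattice, sqNorm (coordVec x) = 32 → key x = K i → key (g • x) = K j

theorem Compatible.mul {C : Coded o F q} {m : ℕ} {bas : ℕ → List (ℕ × ℕ)} {K : ℕ → ℕ}
    {s t : Cfsg.SU n F q} {g h : Co0} (hs : Compatible C m bas K s g)
    (ht : Compatible C m bas K t h) : Compatible C m bas K (s * t) (g * h) := by
  intro i hi
  obtain ⟨j, hj, h1, h2⟩ := ht i hi
  obtain ⟨k, hk, h3, h4⟩ := hs j hj
  refine ⟨k, hk, fun x hx => by rw [suAct_mul]; exact h3 _ (h1 x hx), fun x hx hxi => ?_⟩
  rw [mul_smul]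
  exact h4 _ (by rw [sqNorm_smul', hx]) (h2 x hx hxi)

theorem Compatible.one {C : Coded o F q} {m : ℕ} {bas : ℕ → List (ℕ × ℕ)} {K : ℕ → ℕ} :
    Compatible (n := n) C m bas K 1 1 := fun i hi =>
  ⟨i, hi, fun x hx => by rwa [suAct_one], fun x _ hxi => by rwa [one_smul]⟩

theorem compatible_gen (C : Coded o F q) {c p m : ℕ} (hc : c < o.K) {M : List (List ℤ)}
    (hM : matOk M = true) {D : List ℕ × ℕ} (hD : dataOk M D = true) {bas : ℕ → List (ℕ × ℕ)}
    {K σ : ℕ → ℕ} (h : permOk o n c p m D bas K σ = true) {t : Cfsg.SU n F q}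
    (ht : ∀ x, suAct t x = x + (C.val c * Cfsg.hermForm n F q x (C.vec n p)) • C.vec n p) :
    Compatible C m bas K t (matAut M hM) := by
  intro i hi
  have h1 := List.all_eq_true.1 h i (List.mem_range.2 hi)
  simp only [Bool.and_eq_true, List.all_eq_true, decide_eq_true_eq, beq_iff_eq] at h1
  obtain ⟨⟨hj, hk⟩, hb⟩ := h1
  refine ⟨σ i, hj, fun x hx => ?_, fun x hx hxi => ?_⟩
  · induction hx using Submodule.span_induction with
    | mem y hy =>
      obtain ⟨b, hbm, rfl⟩ := hy
      have e : suAct t (C.vec n b.2) = C.vec n (o.trans n c p b.2) := by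
        rw [ht, Ops.trans, C.vec_vadd, C.vec_vsmul (C.ml_lt hc (C.herm_lt ..)),
          C.val_ml _ hc _ (C.herm_lt ..), C.herm_vec]
      rw [e, ← hb b hbm]
      exact vec_comb_mem C _ _
    | zero => rw [← zero_smul F (0 : Fin n → F), suAct_smul, zero_smul]; exact zero_mem _
    | add y z _ _ hy hz => rw [suAct_add]; exact add_mem hy hz
    | smul a y _ hy => rw [suAct_smul]; exact Submodule.smul_mem _ _ hy
  · rw [← key_matAut hM hD hx, hxi]
    exact Nat.eq_of_beq_eq_true hk

variable [Fintype F]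

/-- The isomorphism given by a correspondence. -/
theorem nonempty_equiv_psu (C : Coded o F q) (hF : Fintype.card F = q ^ 2) (hn : 4 ≤ n)
    {G : Subgroup Co0} {c k len m : ℕ} {pt rep via hint : ℕ → ℕ} (t : ℕ → Cfsg.SU n F q)
    (g : ℕ → Co0) (hk : 0 < k) (hc : c < o.K)
    (ht : ∀ i < k, ∀ x, suAct (t i) x =
      x + (C.val c * Cfsg.hermForm n F q x (C.vec n (pt i))) • C.vec n (pt i))
    (hrep : rep 0 = pt 0) (hp : o.herm n (pt 0) (pt 0) = 0) (hp0 : C.vec n (pt 0) ≠ 0)
    (hcover : coverOk o n len rep hint = true) (htree : treeOk o n c k len pt rep via = true)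
    (hparam : paramOk o c = true)
    {bas : ℕ → List (ℕ × ℕ)} {K : ℕ → ℕ} (hK : keysOk m K = true)
    (hcomp : ∀ i < k, Compatible C m bas K (t i) (g i)) (hg : ∀ i < k, g i ∈ G)
    {i₀ j₀ a b : ℕ} (hi₀ : i₀ < m) (hj₀ : j₀ < k) (hmove : moveOk o n c (pt j₀) (bas i₀) a b = true)
    (hcard : Nat.card G = Nat.card (Cfsg.PSU n F q)) :
    Nonempty (G ≃* Cfsg.PSU n F q) := by
  classical
  have := finite_Co0
  set W : Subgroup (Cfsg.SU n F q × Co0) :=
    Subgroup.closure ((fun i => (t i, g i)) '' Set.Iio k) with hW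
  have hcompW : ∀ x ∈ W, Compatible C m bas K x.1 x.2 := by
    intro x hx
    induction hx using Subgroup.closure_induction'' with
    | one => exact Compatible.one
    | mem y hy => obtain ⟨i, hi, rfl⟩ := hy; exact hcomp i hi
    | inv_mem y hy =>
      obtain ⟨i, hi, rfl⟩ := hy
      have hpow : ∀ e : ℕ, Compatible C m bas K (((t i, g i) : Cfsg.SU n F q × Co0) ^ e).1
          (((t i, g i) : Cfsg.SU n F q × Co0) ^ e).2 := by
        intro e
        induction e with
        | zero => exact Compatible.one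
        | succ e ih => rw [pow_succ]; exact ih.mul (hcomp i hi)
      obtain ⟨e, he⟩ := (mem_powers_iff_mem_zpowers (x := ((t i, g i) : Cfsg.SU n F q × Co0))).2
        (Subgroup.inv_mem _ (Subgroup.mem_zpowers _))
      rw [← he]
      exact hpow e
    | mul y z _ _ hy hz => exact hy.mul hz
  have hfst : W.map (MonoidHom.fst _ _) = ⊤ := by
    rw [hW, MonoidHom.map_closure, Set.image_image]
    exact closure_tv_eq_top C hF hn t hk hc ht hrep hp hp0 hcover htree hparam
  have hsnd : ∀ x ∈ W, x.2 ∈ G := by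
    intro x hx
    have : W ≤ G.comap (MonoidHom.snd _ _) := by
      rw [hW, Subgroup.closure_le]
      rintro _ ⟨i, hi, rfl⟩
      exact hg i hi
    exact this hx
  set N : Subgroup (Cfsg.SU n F q) := W.comap (MonoidHom.inl _ _) with hN
  have hNn : N.Normal := ⟨fun s hs r => by
    obtain ⟨x, hx, hxr⟩ : r ∈ W.map (MonoidHom.fst _ _) := hfst ▸ Subgroup.mem_top r
    have := W.mul_mem (W.mul_mem hx hs) (W.inv_mem hx)
    rw [hN, Subgroup.mem_comap, MonoidHom.inl_apply]
    convert this using 1
    refine Prod.ext ?_ ?_ <;> simp [← hxr]⟩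
  -- an element of `N` fixes every subspace
  have hNfix : ∀ s ∈ N, ∀ i < m, ∀ x ∈ planeSpan C n (bas i),
      suAct s x ∈ planeSpan C n (bas i) := by
    intro s hs i hi
    obtain ⟨j, hj, h1, h2⟩ := hcompW _ hs i hi
    have hk' := List.all_eq_true.1 hK i (List.mem_range.2 hi)
    simp only [Bool.and_eq_true] at hk'
    obtain ⟨x, hx, hxk⟩ := exists_of_keyOk hk'.1
    have h3 := h2 x hx hxk
    rw [MonoidHom.inl_apply, one_smul, hxk] at h3
    obtain rfl := eq_of_keysOk hK hi hj h3
    exact h1
  have htop : N ≠ ⊤ := by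
    intro e
    simp only [moveOk, Bool.and_eq_true, List.any_eq_true, List.all_eq_true, beq_iff_eq,
      bne_iff_ne] at hmove
    obtain ⟨⟨⟨⟨ea, hea, rfl⟩, -⟩, horth⟩, hne⟩ := hmove
    have hmem := hNfix (t j₀) (e ▸ Subgroup.mem_top _) i₀ hi₀ (C.vec n ea.2)
      (Submodule.subset_span ⟨ea, hea, rfl⟩)
    obtain ⟨σ⟩ := exists_conj (F := F) (q := q) (by rw [Nat.card_eq_fintype_card, hF])
    have hzero : ∀ y ∈ planeSpan C n (bas i₀), Cfsg.hermForm n F q y (C.vec n b) = 0 := by
      intro y hy
      induction hy using Submodule.span_induction with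
      | mem z hz =>
        obtain ⟨e', he', rfl⟩ := hz
        rw [C.herm_vec, horth e' he', C.val_zero]
      | zero => exact σ.zero_left _
      | add z w _ _ hz hw => rw [σ.add_left, hz, hw, add_zero]
      | smul a z _ hz => rw [σ.smul_left, hz, mul_zero]
    refine hne (C.inj _ (C.herm_lt ..) _ C.pos ?_)
    rw [← C.herm_vec, C.val_zero]
    refine hzero _ ?_
    convert hmem using 1
    rw [ht _ hj₀, Ops.trans, C.vec_vadd, C.vec_vsmul (C.ml_lt hc (C.herm_lt ..)),
      C.val_ml _ hc _ (C.herm_lt ..), C.herm_vec]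
  have := isSimpleGroup_psu (n := n) hF (by omega) (fun h => by omega)
  have hNZ : N ≤ Subgroup.center (Cfsg.SU n F q) := by
    rcases (hNn.map (QuotientGroup.mk' (Subgroup.center (Cfsg.SU n F q)))
      (QuotientGroup.mk'_surjective _)).eq_bot_or_eq_top with h | h
    · rw [Subgroup.map_eq_bot_iff, QuotientGroup.ker_mk'] at h
      exact h
    · exfalso
      refine htop (eq_top_iff.2 ?_)
      rw [← commutator_su_eq_top (n := n) hF (by omega) (fun h => by omega), commutator_def,
        Subgroup.commutator_le]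
      intro x _ y _
      have key : ∀ x : Cfsg.SU n F q, ∃ a ∈ N, ∃ z ∈ Subgroup.center (Cfsg.SU n F q), x = a * z := by
        intro x
        obtain ⟨a, ha, hax⟩ : QuotientGroup.mk' (Subgroup.center _) x ∈
            N.map (QuotientGroup.mk' (Subgroup.center (Cfsg.SU n F q))) := h ▸ Subgroup.mem_top _
        exact ⟨a, ha, a⁻¹ * x, QuotientGroup.eq.1 hax, by group⟩
      obtain ⟨a, ha, z, hz, rfl⟩ := key x
      obtain ⟨a', ha', z', hz', rfl⟩ := key y
      have e : ⁅a * z, a' * z'⁆ = a * a' * a⁻¹ * a'⁻¹ := by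
        have c1 := fun w => Subgroup.mem_center_iff.1 hz w
        have c2 := fun w => Subgroup.mem_center_iff.1 hz' w
        simp only [commutatorElement_def, mul_inv_rev]
        rw [show a * z * (a' * z') * (z⁻¹ * a⁻¹) * (z'⁻¹ * a'⁻¹) =
          a * (z * (a' * z')) * z⁻¹ * a⁻¹ * z'⁻¹ * a'⁻¹ by group, ← c1, mul_assoc a,
          mul_assoc (a' * z'), mul_inv_cancel, mul_one, ← mul_assoc a a' z',
          mul_assoc (a * a') z' a⁻¹, ← c2 a⁻¹]
        group
      rw [e]
      exact mul_mem (mul_mem (mul_mem ha ha') (inv_mem ha)) (inv_mem ha')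
  -- the surjection
  let φ : W →* Cfsg.PSU n F q :=
    (QuotientGroup.mk' _).comp ((MonoidHom.fst _ _).comp W.subtype)
  let ψ : W →* G :=
    ((MonoidHom.snd _ _).comp W.subtype).codRestrict G fun x => hsnd x x.2
  have hφ : Function.Surjective φ := fun y => by
    obtain ⟨s, rfl⟩ := QuotientGroup.mk'_surjective _ y
    obtain ⟨x, hx, rfl⟩ : s ∈ W.map (MonoidHom.fst _ _) := hfst ▸ Subgroup.mem_top s
    exact ⟨⟨x, hx⟩, rfl⟩
  have hker : ψ.ker ≤ φ.ker := by
    rintro ⟨⟨s, r⟩, hx⟩ h
    have hr : r = 1 := congrArg Subtype.val (MonoidHom.mem_ker.1 h)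
    subst hr
    exact (QuotientGroup.eq_one_iff s).2 (hNZ hx)
  let χ := QuotientGroup.lift ψ.ker φ hker
  have hχ : Function.Surjective χ := fun y => by
    obtain ⟨x, rfl⟩ := hφ y
    exact ⟨QuotientGroup.mk x, rfl⟩
  let e : W ⧸ ψ.ker ≃* ψ.range := QuotientGroup.quotientKerEquivRange ψ
  have hle : Nat.card ψ.range ≤ Nat.card (Cfsg.PSU n F q) := hcard ▸ Subgroup.card_le_card_group _
  have hbij : Function.Bijective χ := hχ.bijective_of_nat_card_le
    (by rw [Nat.card_congr e.toEquiv]; exact hle)
  have hG : ψ.range = ⊤ := Subgroup.eq_top_of_card_eq _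
    (by rw [← Nat.card_congr e.toEquiv, Nat.card_eq_of_bijective χ hbij, hcard])
  exact ⟨(((MulEquiv.subgroupCongr hG).trans Subgroup.topEquiv).symm.trans e.symm).trans
    (MulEquiv.ofBijective χ hbij)⟩

end CfsgLib.Leech
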