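/-!
# Packed tables
-/

set_option autoImplicit false

namespace CfsgLib.Leech

/-- The entry `i` of a table of numbers below `2 ^ w` packed into one number. -/
def tab (w T i : Nat) : Nat := (T >>> (w * i)) % 2 ^ w

/-- An entry of a table of pairs packed in 20 bits each, `r` pairs for each index. -/
def tabPairs (r T i : Nat) : List (Nat × Nat) :=
  (List.range r).map fun t => (tab 20 T (r * i + t) % 16, tab 20 T (r * i + t) / 16)

end CfsgLib.Leech
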